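import Cfsg.Agent.Lib.BoundedPres.Piece

/-!
# A bounded presentation of every alternating group

Two pieces of prime degree `p` (`m / 2 < p ≤ m`, Bertrand) glued along their common points.
-/

set_option autoImplicit false
set_option linter.unusedSectionVars false

namespace Cfsg.Agent.BoundedPres

open Subgroup Equiv

section Embed

variable {γ δ : Type*} [Fintype γ] [DecidableEq γ] [Fintype δ] [DecidableEq δ] (e : γ ↪ δ)

theorem sign_via (π : Perm γ) : Perm.sign (π.viaEmbedding e) = Perm.sign π := by
  classical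
  unfold Perm.viaEmbedding
  convert Perm.sign_extendDomain π (ofInjective e.1 e.2) using 2
  congr!

theorem via_swap (a b : γ) : (swap a b).viaEmbedding e = swap (e a) (e b) := by
  ext x
  by_cases hx : x ∈ Set.range e
  · obtain ⟨v, rfl⟩ := hx
    rw [Perm.viaEmbedding_apply, e.injective.swap_apply]
  · rw [Perm.viaEmbedding_apply_of_notMem _ _ _ hx,
      swap_apply_of_ne_of_ne (fun h => hx ⟨a, h.symm⟩) (fun h => hx ⟨b, h.symm⟩)]

/-- The embedding of alternating groups induced by an embedding of free points. -/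
noncomputable def emb : alternatingGroup (Fin 2 ⊕ γ) →* alternatingGroup (Fin 2 ⊕ δ) :=
  ((Perm.viaEmbeddingHom ((Function.Embedding.refl (Fin 2)).sumMap e)).comp
    (alternatingGroup (Fin 2 ⊕ γ)).subtype).codRestrict _ fun g => by
      rw [Perm.mem_alternatingGroup, MonoidHom.comp_apply, Perm.viaEmbeddingHom_apply, sign_via]
      exact g.2

theorem emb_coe (g : alternatingGroup (Fin 2 ⊕ γ)) : ((emb e g : alternatingGroup (Fin 2 ⊕ δ)) :
    Perm (Fin 2 ⊕ δ)) = (g : Perm (Fin 2 ⊕ γ)).viaEmbedding ((Function.Embedding.refl (Fin 2)).sumMap e) := rfl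

theorem emb_gen (v : γ) : emb e (gen v) = gen (e v) := by
  refine Subtype.ext ?_
  rw [emb_coe]
  show (cyc v).viaEmbedding _ = cyc (e v)
  rw [cyc, swapAB, ← Perm.viaEmbeddingHom_apply, map_mul, Perm.viaEmbeddingHom_apply,
    Perm.viaEmbeddingHom_apply, via_swap, via_swap]
  rfl

theorem emb_lft (π : Perm γ) : emb e (lft π) = lft (π.viaEmbedding e) := by
  refine Subtype.ext (Equiv.ext fun x => ?_)
  rw [emb_coe]
  set ι := (Function.Embedding.refl (Fin 2)).sumMap e
  rcases x with j | y
  · show (lft π : Perm (Fin 2 ⊕ γ)).viaEmbedding ι (ι (Sum.inl j)) = _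
    rw [Perm.viaEmbedding_apply, lft_coe, lft_coe, sign_via]
    rfl
  · by_cases hy : y ∈ Set.range e
    · obtain ⟨v, rfl⟩ := hy
      show (lft π : Perm (Fin 2 ⊕ γ)).viaEmbedding ι (ι (Sum.inr v)) = _
      rw [Perm.viaEmbedding_apply, lft_coe, lft_coe]
      show Sum.inr (e (π v)) = Sum.inr (π.viaEmbedding e (e v))
      rw [Perm.viaEmbedding_apply]
    · rw [Perm.viaEmbedding_apply_of_notMem _ _ _ ?_, lft_coe]
      · show Sum.inr y = Sum.inr (π.viaEmbedding e y)
        rw [Perm.viaEmbedding_apply_of_notMem _ _ _ hy]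
      · rintro ⟨(j | v), hj⟩
        · exact Sum.inl_ne_inr hj
        · exact hy ⟨v, Sum.inr_injective hj⟩

theorem via_val {m : ℕ} (e : γ ↪ Fin m) (π : Perm γ) (F : ℕ → ℕ)
    (h : ∀ v, ((e (π v) : Fin m) : ℕ) = F (e v : Fin m)) (hfix : ∀ x : Fin m, x ∉ Set.range e → F x = x)
    (x : Fin m) : ((π.viaEmbedding e x : Fin m) : ℕ) = F x := by
  by_cases hx : x ∈ Set.range e
  · obtain ⟨v, rfl⟩ := hx
    rw [Perm.viaEmbedding_apply, h]
  · rw [Perm.viaEmbedding_apply_of_notMem _ _ _ hx, hfix x hx]

end Embed

section Interval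

/-- The cyclic shift of `[lo, hi)`. -/
def shift (lo hi v : ℕ) : ℕ := if lo ≤ v ∧ v < hi then (if v + 1 < hi then v + 1 else lo) else v

theorem shift_lt {lo hi v p : ℕ} (hhi : hi ≤ p) (hv : v < p) : shift lo hi v < p := by
  unfold shift; split_ifs <;> omega

theorem shift_inj {lo hi : ℕ} {v w : ℕ} (h : shift lo hi v = shift lo hi w) : v = w := by
  unfold shift at h; split_ifs at h <;> omega

variable {p : ℕ} [NeZero p]

/-- The cyclic shift of `[lo, hi)` on `ZMod p`. -/
noncomputable def ivl (lo hi : ℕ) (h : hi ≤ p) : Perm (ZMod p) :=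
  Equiv.ofBijective (fun v => ((shift lo hi v.val : ℕ) : ZMod p)) (Finite.injective_iff_bijective.1 (by
    intro v w hvw
    have := congrArg ZMod.val hvw
    rw [ZMod.val_natCast, ZMod.val_natCast, Nat.mod_eq_of_lt (shift_lt h v.val_lt),
      Nat.mod_eq_of_lt (shift_lt h w.val_lt)] at this
    exact ZMod.val_injective p (shift_inj this)))

theorem val_ivl (lo hi : ℕ) (h : hi ≤ p) (v : ZMod p) : (ivl lo hi h v).val = shift lo hi v.val := by
  show (((shift lo hi v.val : ℕ) : ZMod p)).val = _
  rw [ZMod.val_natCast, Nat.mod_eq_of_lt (shift_lt h v.val_lt)]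

theorem ivl_natCast {lo hi k : ℕ} (h : hi ≤ p) (hk : k < p) :
    ivl lo hi h (k : ZMod p) = ((shift lo hi k : ℕ) : ZMod p) := by
  show ((shift lo hi (k : ZMod p).val : ℕ) : ZMod p) = _
  rw [ZMod.val_natCast, Nat.mod_eq_of_lt hk]

end Interval

theorem alt_small (m : ℕ) (hm : m ≤ 3) : Pres (alternatingGroup (Fin 2 ⊕ Fin m)) 20 := by
  classical
  let x : Fin m → FreeGroup (Fin m) := FreeGroup.of
  let R : List (FreeGroup (Fin m)) := (List.finRange m).map (fun i => x i * x i * x i) ++
    ((List.finRange m).flatMap fun i => (List.finRange m).map fun j =>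
      if i = j then 1 else x i * x j * (x i * x j))
  refine Pres.of_card (g := gen) (R := R) ?_ closure_gen ?_ ?_
  · simp only [R, List.length_append, List.length_map, List.length_finRange, List.length_flatMap,
      List.map_const', List.sum_replicate, smul_eq_mul]
    nlinarith
  · intro w hw
    simp only [R, List.mem_append, List.mem_map, List.mem_flatMap, List.mem_finRange, true_and] at hw
    rcases hw with ⟨i, rfl⟩ | ⟨i, j, rfl⟩
    · simp [x, gen_mul_mul]
    · split_ifs with h
      · simp
      · simp [x, gen_mul_sq h]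
  · intro Q _ g' hgen hrel
    refine finite_of_carmichael g' (fun i => ?_) (fun i j hij => ?_) hgen
    · simpa [x] using hrel (x i * x i * x i) (by simp [R])
    · have := hrel (x i * x j * (x i * x j)) (by
        simp only [R, List.mem_append, List.mem_flatMap, List.mem_map, List.mem_finRange, true_and]
        exact Or.inr ⟨i, j, by simp [hij]⟩)
      simpa [x] using this

theorem alt_glue (m p : ℕ) [Fact p.Prime] (hp2 : p ≠ 2) (hpm : p ≤ m) (hmp : m < 2 * p) :
    Pres (alternatingGroup (Fin 2 ⊕ Fin m)) 20 := by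
  classical
  obtain ⟨k, g, R, hR, hg, hgrel, huniv⟩ := piece_pres p hp2
  set d := m - p with hd
  have hdp : d < p := by omega
  have hval : ∀ v : ZMod p, v.val < p := fun v => v.val_lt
  let e1 : ZMod p ↪ Fin m := ⟨fun v => ⟨v.val, lt_of_lt_of_le v.val_lt hpm⟩,
    fun v w h => ZMod.val_injective p (congrArg Fin.val h)⟩
  let e2 : ZMod p ↪ Fin m := ⟨fun v => ⟨d + v.val, by have := hval v; omega⟩,
    fun v w h => ZMod.val_injective p (by have := congrArg Fin.val h; simp only at this; omega)⟩
  have hcast : ∀ n, n < p → ((n : ZMod p)).val = n := fun n h => by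
    rw [ZMod.val_natCast, Nat.mod_eq_of_lt h]
  have he12 : ∀ n, d + n < p → e1 ((d + n : ℕ) : ZMod p) = e2 ((n : ℕ) : ZMod p) := fun n h => by
    ext
    show (((d + n : ℕ) : ZMod p)).val = d + ((n : ℕ) : ZMod p).val
    rw [hcast _ h, hcast _ (by omega)]
  have hn1 : ∀ x : Fin m, x ∉ Set.range e1 → p ≤ (x : ℕ) := fun x hx => by
    by_contra h
    exact hx ⟨((x : ℕ) : ZMod p), Fin.ext (hcast _ (by omega))⟩
  have hn2 : ∀ x : Fin m, x ∉ Set.range e2 → (x : ℕ) < d := fun x hx => by
    by_contra h
    refine hx ⟨(((x : ℕ) - d : ℕ) : ZMod p), Fin.ext ?_⟩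
    show d + ((((x : ℕ) - d : ℕ) : ZMod p)).val = x
    rw [hcast _ (by omega)]; omega
  -- the shifts
  set cK1 := ivl (p := p) d p le_rfl with hcK1
  set cK2 := ivl (p := p) 0 (p - d) (Nat.sub_le _ _) with hcK2
  set cI := ivl (p := p) 0 d hdp.le with hcI
  set cJ := ivl (p := p) (p - d) p le_rfl with hcJ
  set T := Equiv.addRight (1 : ZMod p) with hT
  have hK : cK1.viaEmbedding e1 = cK2.viaEmbedding e2 := by
    refine Equiv.ext fun x => Fin.ext ?_
    rw [via_val e1 cK1 (shift d p), via_val e2 cK2 (shift d p)]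
    · intro v
      show d + (cK2 v).val = shift d p (d + v.val)
      rw [hcK2, val_ivl]; unfold shift; split_ifs <;> omega
    · intro x hx
      have := hn2 x hx
      unfold shift; split_ifs <;> omega
    · intro v; exact val_ivl _ _ _ v
    · intro x hx
      have := hn1 x hx
      unfold shift; split_ifs <;> omega
  have hIfix : ∀ x : Fin m, d ≤ (x : ℕ) → cI.viaEmbedding e1 x = x := fun x hx => by
    refine Fin.ext ?_
    rw [via_val e1 cI (shift 0 d)]
    · unfold shift; split_ifs <;> omega
    · intro v; exact val_ivl _ _ _ v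
    · intro y hy
      have := hn1 y hy
      unfold shift; split_ifs <;> omega
  have hJfix : ∀ x : Fin m, (x : ℕ) < p → cJ.viaEmbedding e2 x = x := fun x hx => by
    refine Fin.ext ?_
    rw [via_val e2 cJ (shift p m)]
    · unfold shift; split_ifs <;> omega
    · intro v
      show d + (cJ v).val = shift p m (d + v.val)
      have := hval v
      rw [hcJ, val_ivl]; unfold shift; split_ifs <;> omega
    · intro y hy
      have := hn2 y hy
      unfold shift; split_ifs <;> omega
  have hIT : Commute (cI.viaEmbedding e1) (T.viaEmbedding e2) := by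
    refine Perm.Disjoint.commute fun x => ?_
    by_cases h : d ≤ (x : ℕ)
    · exact Or.inl (hIfix x h)
    · refine Or.inr (Perm.viaEmbedding_apply_of_notMem _ _ _ ?_)
      rintro ⟨v, rfl⟩
      exact h (Nat.le_add_right _ _)
  -- the relators
  let a1 : Fin k → FreeGroup (Fin (k + k)) := fun i => FreeGroup.of (Fin.castAdd k i)
  let a2 : Fin k → FreeGroup (Fin (k + k)) := fun i => FreeGroup.of (Fin.natAdd k i)
  choose w hw using lift_surjective hg
  let W1 := fun c => FreeGroup.lift a1 (w c)
  let W2 := fun c => FreeGroup.lift a2 (w c)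
  let g0 : Fin (k + k) → alternatingGroup (Fin 2 ⊕ Fin m) := Fin.append (emb e1 ∘ g) (emb e2 ∘ g)
  have hl1 : ∀ u, FreeGroup.lift g0 (FreeGroup.lift a1 u) = emb e1 (FreeGroup.lift g u) := fun u => by
    rw [lift_map, lift_map]
    exact congrArg (FreeGroup.lift · u) (funext fun i => by simp [a1, g0])
  have hl2 : ∀ u, FreeGroup.lift g0 (FreeGroup.lift a2 u) = emb e2 (FreeGroup.lift g u) := fun u => by
    rw [lift_map, lift_map]
    exact congrArg (FreeGroup.lift · u) (funext fun i => by
      simp only [a2, g0, Function.comp_apply, FreeGroup.lift_apply_of, Fin.append_right])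
  set εI : ℤ := ((Perm.sign cI : ℤˣ) : ℤ)
  set εJ : ℤ := ((Perm.sign cJ : ℤˣ) : ℤ)
  set qd : ZMod p := ((p - d : ℕ) : ZMod p)
  let pairRel : FreeGroup (Fin (k + k)) :=
    if d = 0 then 1 else W1 (gen 0) * W2 (gen qd) * (W1 (gen 0) * W2 (gen qd))
  let jRel : FreeGroup (Fin (k + k)) :=
    if d = 0 then 1 else W2 (lft cJ) * W1 (gen 0) * (W2 (lft cJ))⁻¹ * (W1 (gen 0) ^ εJ)⁻¹
  refine Pres.of_card (g := g0) (R := R.map (FreeGroup.lift a1) ++ R.map (FreeGroup.lift a2) ++
      [W1 (gen (d : ZMod p)) * (W2 (gen 0))⁻¹, W1 (lft cK1) * (W2 (lft cK2))⁻¹,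
        W1 (lft cI) * W2 (lft T) * (W1 (lft cI))⁻¹ * (W2 (lft T))⁻¹,
        W1 (lft cI) * W2 (gen 0) * (W1 (lft cI))⁻¹ * (W2 (gen 0) ^ εI)⁻¹, jRel, pairRel]) ?_ ?_ ?_ ?_
  · simp only [List.length_append, List.length_map, List.length_cons, List.length_nil]; omega
  · rw [eq_top_iff, ← closure_gen, Subgroup.closure_le]
    rintro _ ⟨v, rfl⟩
    rw [← FreeGroup.range_lift_eq_closure]
    by_cases hv : (v : ℕ) < p
    · refine ⟨W1 (gen ((v : ℕ) : ZMod p)), ?_⟩
      rw [hl1, hw, emb_gen, show e1 ((v : ℕ) : ZMod p) = v from Fin.ext (hcast _ hv)]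
    · refine ⟨W2 (gen (((v : ℕ) - d : ℕ) : ZMod p)), ?_⟩
      rw [hl2, hw, emb_gen, show e2 (((v : ℕ) - d : ℕ) : ZMod p) = v from Fin.ext (by
        show d + _ = _
        rw [hcast _ (by omega)]; omega)]
  · intro u hu
    simp only [List.mem_append, List.mem_map, List.mem_cons, List.not_mem_nil, or_false] at hu
    rcases hu with (⟨r, hr, rfl⟩ | ⟨r, hr, rfl⟩) | rfl | rfl | rfl | rfl | rfl | rfl
    · rw [hl1, hgrel r hr, map_one]
    · rw [hl2, hgrel r hr, map_one]
    · rw [map_mul, map_inv, mul_inv_eq_one, hl1, hl2, hw, hw, emb_gen, emb_gen]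
      exact congrArg gen (by simpa using he12 0 (by omega))
    · rw [map_mul, map_inv, mul_inv_eq_one, hl1, hl2, hw, hw, emb_lft, emb_lft, hK]
    · rw [map_mul, map_mul, map_mul, map_inv, map_inv, mul_inv_eq_one, mul_inv_eq_iff_eq_mul, hl1,
        hl2, hw, hw, emb_lft, emb_lft, ← map_mul, ← map_mul, hIT.eq]
    · rw [map_mul, map_mul, map_mul, map_inv, map_inv, map_zpow, mul_inv_eq_one, hl1, hl2, hw, hw,
        emb_lft, emb_gen, lft_conj, sign_via, hIfix _ (Nat.le_add_right _ _)]
    · simp only [jRel]
      split_ifs with h0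
      · exact map_one _
      · rw [map_mul, map_mul, map_mul, map_inv, map_inv, map_zpow, mul_inv_eq_one, hl1, hl2, hw, hw,
          emb_lft, emb_gen, lft_conj, sign_via, hJfix _ (hval _)]
    · simp only [pairRel]
      split_ifs with h0
      · exact map_one _
      · rw [map_mul, map_mul, hl1, hl2, hw, hw, emb_gen, emb_gen]
        refine gen_mul_sq fun h => ?_
        have hv := congrArg Fin.val h
        have a0 : ((e1 0 : Fin m) : ℕ) = 0 := ZMod.val_zero
        have a1' : ((e2 qd : Fin m) : ℕ) = d + (p - d) := congrArg (d + ·) (hcast _ (by omega))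
        omega
  · intro Q _ g' hgen' hrel
    obtain ⟨f1, hf1⟩ := huniv Q (g' ∘ Fin.castAdd k) fun r hr => by
      have := hrel _ (List.mem_append_left _ (List.mem_append_left _ (List.mem_map.2 ⟨r, hr, rfl⟩)))
      rwa [lift_map, show FreeGroup.lift g' ∘ a1 = g' ∘ Fin.castAdd k from
        funext fun i => by simp [a1]] at this
    obtain ⟨f2, hf2⟩ := huniv Q (g' ∘ Fin.natAdd k) fun r hr => by
      have := hrel _ (List.mem_append_left _ (List.mem_append_right _ (List.mem_map.2 ⟨r, hr, rfl⟩)))
      rwa [lift_map, show FreeGroup.lift g' ∘ a2 = g' ∘ Fin.natAdd k from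
        funext fun i => by simp [a2]] at this
    have hL1 : ∀ c, FreeGroup.lift g' (W1 c) = f1 c := fun c => by
      conv_rhs => rw [← hw c, lift_map, show f1 ∘ g = _ from funext hf1]
      rw [lift_map]
      exact congrArg (FreeGroup.lift · (w c)) (funext fun i => by simp [a1])
    have hL2 : ∀ c, FreeGroup.lift g' (W2 c) = f2 c := fun c => by
      conv_rhs => rw [← hw c, lift_map, show f2 ∘ g = _ from funext hf2]
      rw [lift_map]
      exact congrArg (FreeGroup.lift · (w c)) (funext fun i => by simp [a2])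
    simp only [List.mem_append, or_imp, forall_and, List.forall_mem_cons, List.not_mem_nil,
      IsEmpty.forall_iff, implies_true, and_true] at hrel
    obtain ⟨-, h1, h2, h3, h4, h5, h6⟩ := hrel
    simp only [map_mul, map_inv, map_zpow, hL1, hL2, mul_inv_eq_one] at h1 h2 h3 h4
    let X1 : ℕ → Q := fun n => f1 (gen (n : ZMod p))
    let X2 : ℕ → Q := fun n => f2 (gen (n : ZMod p))
    have step : ∀ (f : alternatingGroup (Fin 2 ⊕ ZMod p) →* Q) (π : Perm (ZMod p)) (v : ZMod p),
        f (lft π) * f (gen v) * (f (lft π))⁻¹ = f (gen (π v)) ^ ((Perm.sign π : ℤˣ) : ℤ) := fun f π v => by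
      rw [← map_inv, ← map_mul, ← map_mul, lft_conj, map_zpow]
    -- the overlap
    have hsign : Perm.sign cK1 = Perm.sign cK2 := by rw [← sign_via e1, hK, sign_via]
    have hov : ∀ n, d + n < p → X1 (d + n) = X2 n := by
      intro n
      induction n with
      | zero => intro _; simpa [X1, X2] using h1
      | succ n ih =>
        intro hn
        refine zpow_unit_inj (Perm.sign cK1) ?_
        have := step f1 cK1 ((d + n : ℕ) : ZMod p)
        rw [h2, hcK1, ivl_natCast le_rfl (by omega),
          show shift d p (d + n) = d + (n + 1) by unfold shift; split_ifs <;> omega,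
          show f1 (gen ((d + n : ℕ) : ZMod p)) = X2 n from ih (by omega)] at this
        rw [← hcK1] at this
        rw [show X1 (d + (n + 1)) = f1 (gen ((d + (n + 1) : ℕ) : ZMod p)) from rfl, ← this]
        have := step f2 cK2 ((n : ℕ) : ZMod p)
        rw [hcK2, ivl_natCast _ (by omega),
          show shift 0 (p - d) n = n + 1 by unfold shift; split_ifs <;> omega, ← hcK2] at this
        rw [hsign]
        exact this
    -- the cross pairs
    have hC2 : ∀ v, f1 (lft cI) * f2 (gen v) * (f1 (lft cI))⁻¹ = f2 (gen v) ^ εI := by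
      intro v
      have ht : f2 (gen v) = f2 (lft T) ^ v.val * f2 (gen 0) * (f2 (lft T) ^ v.val)⁻¹ := by
        rw [← map_pow, ← map_inv, ← map_mul, ← map_mul]
        refine congrArg f2 ?_
        rw [show lft T = transl p from rfl, transl_pow hp2, zero_add, ZMod.natCast_zmod_val]
      have hc : Commute (f1 (lft cI)) (f2 (lft T) ^ v.val) :=
        Commute.pow_right (mul_inv_eq_iff_eq_mul.1 h3) _
      rw [ht, conj_zpow, ← h4, show ∀ C A x : Q, C * (A * x * A⁻¹) * C⁻¹ = (C * A) * x * (C * A)⁻¹ from
        fun C A x => by group, hc.eq]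
      group
    have hpairs : ∀ i, i < d → ∀ j, p - d ≤ j → j < p → X1 i * X2 j * (X1 i * X2 j) = 1 := by
      intro i
      induction i with
      | zero =>
        intro hd0 j hj
        have hne : d ≠ 0 := by omega
        simp only [jRel, pairRel, if_neg hne, map_mul, map_inv, map_zpow, hL1, hL2] at h5 h6
        rw [mul_inv_eq_one] at h5
        obtain ⟨l, rfl⟩ := Nat.exists_eq_add_of_le hj
        induction l with
        | zero => intro _; simpa [X1, X2] using h6
        | succ l ih =>
          intro hl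
          have h := sq_zpow_unit (Perm.sign cJ) (conj_sq (f2 (lft cJ)) (ih (by omega) (by omega)))
          rw [show X1 0 = f1 (gen 0) by simp [X1], h5, zpow_unit_zpow,
            show X2 (p - d + l) = f2 (gen ((p - d + l : ℕ) : ZMod p)) from rfl, step, zpow_unit_zpow,
            hcJ, ivl_natCast le_rfl (by omega),
            show shift (p - d) p (p - d + l) = p - d + (l + 1) by unfold shift; split_ifs <;> omega] at h
          simpa [X1, X2] using h
      | succ i ih =>
        intro hi j hj hjp
        have h := sq_zpow_unit (Perm.sign cI) (conj_sq (f1 (lft cI)) (ih (by omega) j hj hjp))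
        rw [show X1 i = f1 (gen (i : ZMod p)) from rfl, show X2 j = f2 (gen (j : ZMod p)) from rfl,
          step, hC2, zpow_unit_zpow, zpow_unit_zpow, hcI, ivl_natCast _ (by omega),
          show shift 0 d i = i + 1 by unfold shift; split_ifs <;> omega] at h
        exact h
    let Y : Fin m → Q := fun v => if (v : ℕ) < p then X1 v else X2 (v - d)
    have hY1 : ∀ n (h : n < p), Y ⟨n, by omega⟩ = X1 n := fun n h => if_pos h
    have hY2 : ∀ v : Fin m, d ≤ (v : ℕ) → Y v = X2 (v - d) := by
      intro v hv
      by_cases h : (v : ℕ) < p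
      · show (if _ then _ else _) = _
        rw [if_pos h, ← hov _ (by omega), show d + ((v : ℕ) - d) = v by omega]
      · exact if_neg h
    have hneq : ∀ i j, i < p → j < p → i ≠ j → (i : ZMod p) ≠ (j : ZMod p) := fun i j hi hj hij h => by
      have := congrArg ZMod.val h
      rw [hcast _ hi, hcast _ hj] at this
      exact hij this
    have hcyclic : ∀ u v : Q, u * v * (u * v) = 1 → v * u * (v * u) = 1 := fun u v h => by
      calc v * u * (v * u) = u⁻¹ * (u * v * (u * v)) * u := by group
        _ = 1 := by rw [h, mul_one, inv_mul_cancel]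
    refine finite_of_carmichael Y (fun v => ?_) (fun i j hij => ?_) ?_
    · simp only [Y]; split_ifs <;> simp only [X1, X2, ← map_mul, gen_mul_mul, map_one]
    · have hij' : (i : ℕ) ≠ j := fun h => hij (Fin.ext h)
      by_cases hi : (i : ℕ) < p <;> by_cases hj : (j : ℕ) < p
      · simp only [Y, if_pos hi, if_pos hj, X1, ← map_mul, gen_mul_sq (hneq _ _ hi hj hij'), map_one]
      · by_cases hid : (i : ℕ) < d
        · simp only [Y, if_pos hi, if_neg hj]
          exact hpairs i hid _ (by omega) (by omega)
        · rw [hY2 i (by omega), hY2 j (by omega)]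
          simp only [X2, ← map_mul,
            gen_mul_sq (hneq _ _ (show (i : ℕ) - d < p by omega) (show (j : ℕ) - d < p by omega) (by omega)), map_one]
      · by_cases hjd : (j : ℕ) < d
        · simp only [Y, if_pos hj, if_neg hi]
          exact hcyclic _ _ (hpairs j hjd _ (by omega) (by omega))
        · rw [hY2 i (by omega), hY2 j (by omega)]
          simp only [X2, ← map_mul,
            gen_mul_sq (hneq _ _ (show (i : ℕ) - d < p by omega) (show (j : ℕ) - d < p by omega) (by omega)), map_one]
      · simp only [Y, if_neg hi, if_neg hj, X2, ← map_mul,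
          gen_mul_sq (hneq _ _ (show (i : ℕ) - d < p by omega) (show (j : ℕ) - d < p by omega) (by omega)), map_one]
    · have h1' : ∀ c, f1 c ∈ Subgroup.closure (Set.range Y) := by
        have hle : (⊤ : Subgroup (alternatingGroup (Fin 2 ⊕ ZMod p))) ≤ (Subgroup.closure (Set.range Y)).comap f1 := by
          rw [← closure_gen, Subgroup.closure_le]
          rintro _ ⟨v, rfl⟩
          refine Subgroup.subset_closure ⟨⟨v.val, by have := hval v; omega⟩, ?_⟩
          rw [hY1 _ (hval v)]
          simp [X1]
        exact fun c => hle (Subgroup.mem_top c)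
      have h2' : ∀ c, f2 c ∈ Subgroup.closure (Set.range Y) := by
        have hle : (⊤ : Subgroup (alternatingGroup (Fin 2 ⊕ ZMod p))) ≤ (Subgroup.closure (Set.range Y)).comap f2 := by
          rw [← closure_gen, Subgroup.closure_le]
          rintro _ ⟨v, rfl⟩
          refine Subgroup.subset_closure ⟨⟨d + v.val, by have := hval v; omega⟩, ?_⟩
          rw [hY2 _ (Nat.le_add_right _ _)]
          simp [X2]
        exact fun c => hle (Subgroup.mem_top c)
      rw [eq_top_iff, ← hgen', Subgroup.closure_le]
      rintro _ ⟨i, rfl⟩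
      induction i using Fin.addCases with
      | left i => rw [show g' (Fin.castAdd k i) = f1 (g i) from (hf1 i).symm]; exact h1' _
      | right i => rw [show g' (Fin.natAdd k i) = f2 (g i) from (hf2 i).symm]; exact h2' _

/-- Every alternating group has a presentation with at most twenty relators. -/
theorem alt_pres (m : ℕ) : Pres (alternatingGroup (Fin 2 ⊕ Fin m)) 20 := by
  by_cases hm : m ≤ 3
  · exact alt_small m hm
  obtain ⟨p, hp, hlo, hhi⟩ := Nat.exists_prime_lt_and_le_two_mul (m / 2) (by omega)
  have : Fact p.Prime := ⟨hp⟩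
  exact alt_glue m p (by omega) (by omega) (by omega)

end Cfsg.Agent.BoundedPres
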