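import Cfsg.Agent.Lib.BoundedPres.Basic

/-!
# Carmichael's presentation of the alternating group

The points are `Fin 2 ⊕ β`; the Carmichael generators are the three-cycles through the two
points on the left. The bound needs no finiteness hypothesis.
-/

set_option autoImplicit false

namespace Cfsg.Agent.BoundedPres

open Subgroup Equiv

theorem carmichael_finite {Q : Type*} [Group Q] {ι : Type*} [DecidableEq ι] (X : ι → Q)
    (s : Finset ι) (h3 : ∀ i ∈ s, X i * X i * X i = 1)
    (h2 : ∀ i ∈ s, ∀ j ∈ s, i ≠ j → X i * X j * (X i * X j) = 1) :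
    Finite (closure (X '' (s : Set ι))) ∧
      2 * Nat.card (closure (X '' (s : Set ι))) ≤ (s.card + 2).factorial := by
  classical
  induction s using Finset.induction with
  | empty =>
    rw [Finset.coe_empty, Set.image_empty, Subgroup.closure_empty]
    exact ⟨inferInstance, by simp⟩
  | insert e s he ih =>
    obtain ⟨hKfin, ih'⟩ := ih (fun i hi => h3 i (Finset.mem_insert_of_mem hi))
      (fun i hi j hj => h2 i (Finset.mem_insert_of_mem hi) j (Finset.mem_insert_of_mem hj))
    set K := closure (X '' (s : Set ι))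
    set x := X e
    have hK : ∀ i ∈ s, X i ∈ K := fun i hi => subset_closure ⟨i, hi, rfl⟩
    have hx3 : x * x * x = 1 := h3 e (Finset.mem_insert_self _ _)
    -- rewriting rules
    have hinv : ∀ i ∈ insert e s, (X i)⁻¹ = X i * X i := fun i hi =>
      inv_eq_of_mul_eq_one_left (h3 i hi)
    have hsq : ∀ i ∈ insert e s, (X i * X i)⁻¹ = X i := fun i hi =>
      inv_eq_of_mul_eq_one_right (h3 i hi)
    have hswap : ∀ i ∈ insert e s, ∀ j ∈ insert e s, i ≠ j →
        X i * X j = (X j * X j) * (X i * X i) := fun i hi j hj hij => by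
      rw [← hinv i hi, ← hinv j hj, ← mul_inv_rev]
      exact eq_inv_of_mul_eq_one_left (h2 i hi j hj hij)
    have he' := Finset.mem_insert_self e s
    have hne : ∀ i ∈ s, i ≠ e := fun i hi h => he (h ▸ hi)
    -- the coset representatives
    let R : Finset Q := {1, x, x * x} ∪ s.image fun i => x * x * X i
    have hR1 : (1 : Q) ∈ R := by simp [R]
    have hRx : x ∈ R := by simp [R]
    have hRxx : x * x ∈ R := by simp [R]
    have hRi : ∀ i ∈ s, x * x * X i ∈ R := fun i hi =>
      Finset.mem_union_right _ (Finset.mem_image_of_mem _ hi)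
    let P : Q → Prop := fun g => ∃ k ∈ K, ∃ r ∈ R, g = k * r
    have hPr : ∀ r ∈ R, ∀ i ∈ insert e s, P (r * X i) := by
      intro r hr i hi
      simp only [R, Finset.mem_union, Finset.mem_insert, Finset.mem_singleton,
        Finset.mem_image] at hr
      rcases Finset.mem_insert.1 hi with rfl | his
      · rcases hr with (rfl | rfl | rfl) | ⟨j, hj, rfl⟩
        · exact ⟨1, one_mem _, x, hRx, rfl⟩
        · exact ⟨1, one_mem _, x * x, hRxx, by rw [one_mul]⟩
        · exact ⟨1, one_mem _, 1, hR1, by rw [hx3, one_mul]⟩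
        · refine ⟨X j * X j, mul_mem (hK j hj) (hK j hj), x * x * X j, hRi j hj, ?_⟩
          have hj' : j ∈ insert i s := Finset.mem_insert_of_mem hj
          calc x * x * X j * X i = x * x * (X j * X i) := by group
            _ = x * x * ((x * x) * (X j * X j)) := by rw [hswap j hj' i he' (hne j hj)]
            _ = x * x * x * (x * X j) * X j := by group
            _ = x * X j * X j := by rw [hx3, one_mul]
            _ = (X j * X j) * (x * x) * X j := by rw [hswap i he' j hj' (hne j hj).symm]
            _ = _ := by group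
      · rcases hr with (rfl | rfl | rfl) | ⟨j, hj, rfl⟩
        · exact ⟨X i, hK i his, 1, hR1, by group⟩
        · exact ⟨X i * X i, mul_mem (hK i his) (hK i his), x * x, hRxx,
            hswap e he' i hi (hne i his).symm⟩
        · exact ⟨1, one_mem _, x * x * X i, hRi i his, by rw [one_mul]⟩
        · have hj' : j ∈ insert e s := Finset.mem_insert_of_mem hj
          rcases eq_or_ne j i with rfl | hji
          · refine ⟨X j, hK j hj, x, hRx, ?_⟩
            rw [show X j * x = X j * X e from rfl, hswap j hj' e he' (hne j hj)]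
            group
            rfl
          · refine ⟨X i * (X j * X j), mul_mem (hK i his) (mul_mem (hK j hj) (hK j hj)),
              x * x * X j, hRi j hj, ?_⟩
            calc x * x * X j * X i = x * x * (X j * X i) := by group
              _ = x * x * ((X i * X i) * (X j * X j)) := by rw [hswap j hj' i hi hji]
              _ = (X e * X e) * (X i * X i) * (X j * X j) := by group; rfl
              _ = X i * X e * (X j * X j) := by rw [← hswap i hi e he' (hne i his)]
              _ = X i * (X e * X j) * X j := by group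
              _ = X i * ((X j * X j) * (x * x)) * X j := by
                rw [hswap e he' j hj' (hne j hj).symm]
              _ = _ := by group
    have hstep : ∀ g, P g → ∀ i ∈ insert e s, P (g * X i) := by
      rintro g ⟨k, hk, r, hr, rfl⟩ i hi
      obtain ⟨k', hk', r', hr', h⟩ := hPr r hr i hi
      exact ⟨k * k', mul_mem hk hk', r', hr', by rw [mul_assoc, h, mul_assoc]⟩
    have hall : ∀ g ∈ closure (X '' ((insert e s : Finset ι) : Set ι)), P g := by
      intro g hg
      induction hg using closure_induction_right with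
      | one => exact ⟨1, one_mem _, 1, hR1, (one_mul _).symm⟩
      | mul_right g hg y hy ih2 =>
        obtain ⟨i, hi, rfl⟩ := hy
        exact hstep g ih2 i hi
      | mul_inv_cancel g hg y hy ih2 =>
        obtain ⟨i, hi, rfl⟩ := hy
        rw [hinv i hi, ← mul_assoc]
        exact hstep _ (hstep g ih2 i hi) i hi
    have hle : Finite (closure (X '' ((insert e s : Finset ι) : Set ι))) ∧
        Nat.card (closure (X '' ((insert e s : Finset ι) : Set ι))) ≤ Nat.card K * R.card := by
      rw [← Nat.card_eq_finsetCard R, ← Nat.card_prod]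
      choose kf hkf rf hrf hgf using fun g : closure (X '' ((insert e s : Finset ι) : Set ι)) =>
        hall g g.2
      have hK' : Finite K := hKfin
      have hinj : Function.Injective
          (fun g => ((⟨kf g, hkf g⟩, ⟨rf g, hrf g⟩) : K × R)) := fun a b h => by
        simp only [Prod.mk.injEq, Subtype.mk.injEq] at h
        exact Subtype.ext (by rw [hgf a, hgf b, h.1, h.2])
      exact ⟨Finite.of_injective _ hinj, Nat.card_le_card_of_injective _ hinj⟩
    have hRc : R.card ≤ s.card + 3 := by
      refine (Finset.card_union_le _ _).trans ?_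
      have h1 : ({1, x, x * x} : Finset Q).card ≤ 3 := Finset.card_le_three
      have h2 := Finset.card_image_le (s := s) (f := fun i => x * x * X i)
      omega
    refine ⟨hle.1, ?_⟩
    rw [Finset.card_insert_of_notMem he, show s.card + 1 + 2 = s.card + 2 + 1 by ring,
      Nat.factorial_succ]
    calc 2 * _ ≤ 2 * (Nat.card K * R.card) := Nat.mul_le_mul_left 2 hle.2
      _ = R.card * (2 * Nat.card K) := by ring
      _ ≤ (s.card + 2 + 1) * (s.card + 2).factorial := Nat.mul_le_mul hRc ih'


variable {β : Type*} [Fintype β] [DecidableEq β]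

set_option linter.unusedSectionVars false

/-- The transposition of the two special points. -/
def swapAB : Perm (Fin 2 ⊕ β) := swap (Sum.inl 0) (Sum.inl 1)

/-- The three-cycle through the two special points and `v`. -/
def cyc (v : β) : Perm (Fin 2 ⊕ β) := swapAB * swap (Sum.inl 1) (Sum.inr v)

theorem swapAB_mul_self : (swapAB : Perm (Fin 2 ⊕ β)) * swapAB = 1 := swap_mul_self _ _

theorem swapAB_inv : (swapAB : Perm (Fin 2 ⊕ β))⁻¹ = swapAB := swap_inv _ _

theorem sign_swapAB : Perm.sign (swapAB : Perm (Fin 2 ⊕ β)) = -1 := Perm.sign_swap (by simp)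

theorem sign_cyc (v : β) : Perm.sign (cyc v) = 1 := by
  rw [cyc, map_mul, sign_swapAB, Perm.sign_swap (by simp)]
  decide

theorem cyc_inv (v : β) : (cyc v)⁻¹ = swapAB * swap (Sum.inl 0) (Sum.inr v) := by
  have h : swapAB * swap (Sum.inl 0) (Sum.inr v) =
      swap (Sum.inl 1 : Fin 2 ⊕ β) (Sum.inr v) * swapAB := by
    have e := mul_swap_eq_swap_mul (swapAB : Perm (Fin 2 ⊕ β)) (Sum.inl 0) (Sum.inr v)
    rw [e, swapAB, swap_apply_left, swap_apply_of_ne_of_ne (by simp) (by simp)]
  rw [cyc, _root_.mul_inv_rev, swap_inv, swapAB_inv, h]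

/-- Conjugation by a permutation preserving the two special points. -/
theorem conj_cyc {σ : Perm (Fin 2 ⊕ β)} {v w : β} (hv : σ (Sum.inr v) = Sum.inr w) :
    (σ (Sum.inl 0) = Sum.inl 0 → σ (Sum.inl 1) = Sum.inl 1 → σ * cyc v * σ⁻¹ = cyc w) ∧
    (σ (Sum.inl 0) = Sum.inl 1 → σ (Sum.inl 1) = Sum.inl 0 → σ * cyc v * σ⁻¹ = (cyc w)⁻¹) := by
  have e : σ * cyc v * σ⁻¹ =
      swap (σ (Sum.inl 0)) (σ (Sum.inl 1)) * swap (σ (Sum.inl 1)) (Sum.inr w) := by
    have hconj : ∀ x y, σ * swap x y * σ⁻¹ = swap (σ x) (σ y) := fun x y => by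
      rw [mul_swap_eq_swap_mul, mul_inv_cancel_right]
    rw [cyc, swapAB, show σ * (swap (Sum.inl 0) (Sum.inl 1) * swap (Sum.inl 1) (Sum.inr v)) * σ⁻¹ =
      (σ * swap (Sum.inl 0) (Sum.inl 1) * σ⁻¹) * (σ * swap (Sum.inl 1) (Sum.inr v) * σ⁻¹) by group,
      hconj, hconj, hv]
  refine ⟨fun h0 h1 => ?_, fun h0 h1 => ?_⟩
  · rw [e, h0, h1]; rfl
  · rw [e, h0, h1, cyc_inv, swapAB, swap_comm (Sum.inl 1 : Fin 2 ⊕ β) (Sum.inl 0)]

/-- The Carmichael generators, as elements of the alternating group. -/
def gen (v : β) : alternatingGroup (Fin 2 ⊕ β) := ⟨cyc v, sign_cyc v⟩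

theorem closure_cyc : Subgroup.closure (Set.range (cyc (β := β))) = alternatingGroup (Fin 2 ⊕ β) := by
  set H := Subgroup.closure (Set.range (cyc (β := β)))
  have hle : H ≤ alternatingGroup (Fin 2 ⊕ β) := by
    rw [Subgroup.closure_le]
    rintro _ ⟨v, rfl⟩
    exact sign_cyc v
  have hc : ∀ v, cyc v ∈ H := fun v => Subgroup.subset_closure ⟨v, rfl⟩
  have hT : swapAB (β := β) ∈ Subgroup.normalizer (H : Set (Perm (Fin 2 ⊕ β))) := by
    rw [Subgroup.mem_normalizer_iff]
    have hmap : ∀ h ∈ H, swapAB * h * swapAB⁻¹ ∈ H := by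
      intro h hh
      induction hh using Subgroup.closure_induction with
      | mem y hy =>
        obtain ⟨v, rfl⟩ := hy
        rw [(conj_cyc (σ := swapAB) (v := v) (w := v) (swap_apply_of_ne_of_ne (by simp) (by simp))).2
          (swap_apply_left _ _) (swap_apply_right _ _)]
        exact inv_mem (hc v)
      | one => simp
      | mul y z _ _ iy iz =>
        have := mul_mem iy iz
        rwa [conj_mul] at this
      | inv y _ iy =>
        have := inv_mem iy
        rwa [conj_inv] at this
    intro h
    refine ⟨hmap h, fun hh => ?_⟩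
    have h2 := hmap _ hh
    rw [swapAB_inv] at h2
    rwa [show swapAB * (swapAB * h * swapAB) * swapAB =
      (swapAB * swapAB) * h * (swapAB * swapAB : Perm (Fin 2 ⊕ β)) by group, swapAB_mul_self, one_mul,
      mul_one] at h2
  have htop : Subgroup.closure ({swapAB} ∪ Set.range (cyc (β := β))) = ⊤ := by
    set K := Subgroup.closure ({swapAB} ∪ Set.range (cyc (β := β)))
    have hTK : (swapAB : Perm (Fin 2 ⊕ β)) ∈ K := Subgroup.subset_closure (Or.inl rfl)
    have h1 : ∀ v, swap (Sum.inl 1 : Fin 2 ⊕ β) (Sum.inr v) ∈ K := fun v => by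
      have := K.mul_mem hTK (Subgroup.subset_closure (Or.inr ⟨v, rfl⟩) : cyc v ∈ K)
      rwa [cyc, ← mul_assoc, swapAB_mul_self, one_mul] at this
    have h0 : ∀ x, x ≠ Sum.inl 0 → swap (Sum.inl 0 : Fin 2 ⊕ β) x ∈ K := by
      rintro (x | v) hx
      · obtain rfl : x = 1 := by fin_cases x <;> simp_all
        exact hTK
      · have := K.mul_mem (K.mul_mem hTK (h1 v)) hTK
        rwa [show swapAB * swap (Sum.inl 1) (Sum.inr v) * swapAB =
          swap (Sum.inl 0 : Fin 2 ⊕ β) (Sum.inr v) by
            nth_rewrite 2 [← swapAB_inv]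
            rw [mul_swap_eq_swap_mul, mul_inv_cancel_right, swapAB, swap_apply_right,
              swap_apply_of_ne_of_ne (by simp) (by simp)]] at this
    rw [eq_top_iff, ← Perm.closure_isSwap, Subgroup.closure_le]
    rintro σ ⟨x, y, hxy, rfl⟩
    show swap x y ∈ K
    rcases eq_or_ne x (Sum.inl 0) with rfl | hx
    · exact h0 y hxy.symm
    rcases eq_or_ne y (Sum.inl 0) with rfl | hy
    · rw [swap_comm]; exact h0 x hx
    have := K.mul_mem (K.mul_mem (h0 x hx) (h0 y hy)) (h0 x hx)
    rwa [show swap (Sum.inl 0) x * swap (Sum.inl 0) y * swap (Sum.inl 0) x = swap x y by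
      nth_rewrite 2 [← swap_inv (Sum.inl 0) x]
      rw [mul_swap_eq_swap_mul, mul_inv_cancel_right, swap_apply_left,
        swap_apply_of_ne_of_ne hy hxy.symm]] at this
  refine le_antisymm hle fun σ hσ => ?_
  have key : ∀ τ : Perm (Fin 2 ⊕ β), τ ∈ H ∨ τ * swapAB ∈ H := by
    intro τ
    have hmem : τ ∈ Subgroup.closure ({swapAB} ∪ Set.range (cyc (β := β))) := htop ▸ Subgroup.mem_top _
    induction hmem using Subgroup.closure_induction with
    | mem y hy =>
      rcases hy with hy | ⟨v, rfl⟩
      · rw [Set.mem_singleton_iff] at hy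
        right; rw [hy, swapAB_mul_self]; exact one_mem _
      · exact Or.inl (hc v)
    | one => exact Or.inl (one_mem _)
    | mul y z _ _ iy iz =>
      rw [Subgroup.mem_normalizer_iff] at hT
      rcases iy with iy | iy <;> rcases iz with iz | iz
      · exact Or.inl (mul_mem iy iz)
      · exact Or.inr (by rw [mul_assoc]; exact mul_mem iy iz)
      · refine Or.inr ?_
        have := mul_mem iy ((hT z).1 iz)
        rw [swapAB_inv] at this
        rwa [show y * swapAB * (swapAB * z * swapAB) = y * (swapAB * swapAB) * z * swapAB by group,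
          swapAB_mul_self, mul_one] at this
      · refine Or.inl ?_
        have := mul_mem iy ((hT _).1 iz)
        rw [swapAB_inv] at this
        rwa [show y * swapAB * (swapAB * (z * swapAB) * swapAB) =
          y * (swapAB * swapAB) * z * (swapAB * swapAB) by group, swapAB_mul_self, mul_one, mul_one] at this
    | inv y _ iy =>
      rw [Subgroup.mem_normalizer_iff] at hT
      rcases iy with iy | iy
      · exact Or.inl (inv_mem iy)
      · refine Or.inr ?_
        have := (hT _).1 (inv_mem iy)
        rwa [_root_.mul_inv_rev, swapAB_inv, ← mul_assoc, swapAB_mul_self, one_mul] at this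
  rcases key σ with h | h
  · exact h
  · have h2 := hle h
    rw [Perm.mem_alternatingGroup] at h2 hσ
    rw [map_mul, hσ, sign_swapAB] at h2
    exact absurd h2 (by decide)

theorem closure_gen : Subgroup.closure (Set.range (gen (β := β))) = ⊤ := by
  refine Subgroup.map_injective (alternatingGroup (Fin 2 ⊕ β)).subtype_injective ?_
  rw [MonoidHom.map_closure, ← Set.range_comp, ← MonoidHom.range_eq_map, Subgroup.range_subtype]
  exact closure_cyc

theorem two_mul_card_alt :
    2 * Nat.card (alternatingGroup (Fin 2 ⊕ β)) = (Fintype.card β + 2).factorial := by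
  have : Nontrivial (Fin 2 ⊕ β) := Sum.inl_injective.nontrivial
  rw [Nat.card_eq_fintype_card, two_mul_card_alternatingGroup, Fintype.card_perm, Fintype.card_sum,
    Fintype.card_fin, add_comm]

/-- A family with Carmichael's relations which generates bounds the group. -/
theorem finite_of_carmichael {Q : Type*} [Group Q] (Y : β → Q)
    (h3 : ∀ i, Y i * Y i * Y i = 1) (h2 : ∀ i j, i ≠ j → Y i * Y j * (Y i * Y j) = 1)
    (hgen : Subgroup.closure (Set.range Y) = ⊤) :
    Finite Q ∧ Nat.card Q ≤ Nat.card (alternatingGroup (Fin 2 ⊕ β)) := by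
  classical
  obtain ⟨hf, hle⟩ := carmichael_finite Y Finset.univ (fun i _ => h3 i) fun i _ j _ => h2 i j
  rw [Finset.coe_univ, Set.image_univ, hgen] at hf hle
  have hf' : Finite Q := Finite.of_equiv _ Subgroup.topEquiv.toEquiv
  refine ⟨hf', ?_⟩
  rw [Finset.card_univ, Nat.card_congr Subgroup.topEquiv.toEquiv, ← two_mul_card_alt] at hle
  omega

theorem swapAB_conj (v : β) :
    swapAB * swap (Sum.inl 1) (Sum.inr v) * swapAB = swap (Sum.inl 0 : Fin 2 ⊕ β) (Sum.inr v) := by
  nth_rewrite 2 [← swapAB_inv]
  rw [mul_swap_eq_swap_mul, mul_inv_cancel_right, swapAB, swap_apply_right,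
    swap_apply_of_ne_of_ne (by simp) (by simp)]

theorem swap_conj_swapAB (v : β) :
    swap (Sum.inl 1) (Sum.inr v) * swapAB * swap (Sum.inl 1) (Sum.inr v) =
      swap (Sum.inl 0 : Fin 2 ⊕ β) (Sum.inr v) := by
  nth_rewrite 2 [← swap_inv (Sum.inl 1) (Sum.inr v)]
  rw [swapAB, mul_swap_eq_swap_mul, mul_inv_cancel_right, swap_apply_left,
    swap_apply_of_ne_of_ne (by simp) (by simp)]

theorem gen_mul_mul (v : β) : gen v * gen v * gen v = 1 := by
  refine Subtype.ext ?_
  show cyc v * cyc v * cyc v = 1
  rw [cyc, show swapAB * swap (Sum.inl 1) (Sum.inr v) * (swapAB * swap (Sum.inl 1) (Sum.inr v)) *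
    (swapAB * swap (Sum.inl 1) (Sum.inr v)) = (swapAB * swap (Sum.inl 1) (Sum.inr v) * swapAB) *
      (swap (Sum.inl 1) (Sum.inr v) * swapAB * swap (Sum.inl 1 : Fin 2 ⊕ β) (Sum.inr v)) by group,
    swapAB_conj, swap_conj_swapAB, swap_mul_self]

theorem gen_mul_sq {v w : β} (h : v ≠ w) : gen v * gen w * (gen v * gen w) = 1 := by
  refine Subtype.ext ?_
  show cyc v * cyc w * (cyc v * cyc w) = 1
  set a := swap (Sum.inl 0 : Fin 2 ⊕ β) (Sum.inr v)
  set b := swap (Sum.inl 1 : Fin 2 ⊕ β) (Sum.inr w)
  have he : cyc v * cyc w = a * b := by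
    rw [cyc, cyc, ← mul_assoc, swapAB_conj]
  have hc : a * b = b * a := by
    rw [mul_swap_eq_swap_mul, swap_apply_of_ne_of_ne (by simp) (by simp),
      swap_apply_of_ne_of_ne (by simp) (by simpa using h.symm)]
  rw [he]
  nth_rewrite 2 [hc]
  rw [show a * b * (b * a) = a * (b * b) * a by group, swap_mul_self, mul_one, swap_mul_self]

end Cfsg.Agent.BoundedPres
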