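import Cfsg.Agent.Lib.BoundedPres.Alt

/-!
# Two generators for alternating groups and two of their stabilisers

Consecutive `3`-cycles generate; hence `A_n`, the stabiliser of `0` and the stabiliser of the pair
`{0, 1}` in it are generated by two elements.
-/

set_option autoImplicit false
set_option linter.unusedSectionVars false

namespace Cfsg.Agent.BoundedPres

open Equiv

section C3

variable {α : Type*} [DecidableEq α]

/-- The `3`-cycle `a ↦ b ↦ c`. -/
def c3 (a b c : α) : Perm α := swap a b * swap b c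

theorem c3_conj (σ : Perm α) (a b c : α) : σ * c3 a b c * σ⁻¹ = c3 (σ a) (σ b) (σ c) := by
  have h : ∀ x y, σ * swap x y * σ⁻¹ = swap (σ x) (σ y) := fun x y => (swap_apply_apply σ x y).symm
  rw [c3, c3, ← h, ← h]
  group

theorem c3_inv (a b c : α) : (c3 a b c)⁻¹ = c3 c b a := by
  rw [c3, c3, _root_.mul_inv_rev, swap_inv, swap_inv, swap_comm b c, swap_comm a b]

theorem c3_rot {a b c : α} (hab : a ≠ b) (hac : a ≠ c) (hbc : b ≠ c) : c3 a b c = c3 b c a := by
  refine Equiv.ext fun x => ?_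
  simp only [c3, Perm.mul_apply, swap_apply_def]
  split_ifs <;> simp_all

theorem c3_apply_left {a b c : α} (hab : a ≠ b) (hac : a ≠ c) : c3 a b c a = b := by
  simp [c3, swap_apply_of_ne_of_ne hab hac]

theorem c3_apply_mid {a b c : α} (hac : a ≠ c) (hbc : b ≠ c) : c3 a b c b = c := by
  simp [c3, swap_apply_of_ne_of_ne hac.symm hbc.symm]

theorem c3_apply_right {a b c : α} : c3 a b c c = a := by simp [c3]

theorem c3_apply_other {a b c x : α} (ha : x ≠ a) (hb : x ≠ b) (hc : x ≠ c) : c3 a b c x = x := by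
  simp [c3, swap_apply_of_ne_of_ne ha hb, swap_apply_of_ne_of_ne hb hc]

theorem sign_c3 [Fintype α] {a b c : α} (hab : a ≠ b) (hbc : b ≠ c) : Perm.sign (c3 a b c) = 1 := by
  rw [c3, map_mul, Perm.sign_swap hab, Perm.sign_swap hbc]
  rfl

end C3

/-- Consecutive `3`-cycles generate the alternating group. -/
theorem alt_le {n : ℕ} (hn : 3 ≤ n) (H : Subgroup (Perm (Fin n)))
    (h : ∀ i : ℕ, ∀ hi : i + 2 < n, c3 ⟨i, by omega⟩ ⟨i + 1, by omega⟩ (⟨i + 2, hi⟩ : Fin n) ∈ H) :
    alternatingGroup (Fin n) ≤ H := by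
  obtain ⟨m, rfl⟩ : ∃ m, n = 2 + m := ⟨n - 2, by omega⟩
  set P0 : Fin (2 + m) := ⟨0, by omega⟩
  set P1 : Fin (2 + m) := ⟨1, by omega⟩
  have key : ∀ v : ℕ, ∀ hv : v < 2 + m, 2 ≤ v → c3 P0 P1 ⟨v, hv⟩ ∈ H := by
    intro v
    induction v with
    | zero => intro hv h2; omega
    | succ v ih =>
      intro hv h2
      rcases (by omega : v = 1 ∨ v = 2 ∨ 3 ≤ v) with rfl | rfl | h3
      · exact h 0 hv
      · have hx := H.inv_mem (h 1 hv)
        have h0 := ih (by omega) le_rfl
        rw [c3_inv] at hx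
        have := H.inv_mem (H.mul_mem (H.mul_mem hx h0) (H.inv_mem hx))
        rw [c3_conj, c3_apply_other (by simp [P0]) (by simp [P0]) (by simp [P0])] at this
        rw [c3_apply_right, c3_apply_mid (by simp) (by simp [Fin.ext_iff]), c3_inv] at this
        have e := c3_rot (a := (⟨1 + 2, hv⟩ : Fin (2 + m))) (b := P0) (c := P1) (by simp [P0])
          (by simp [P1, Fin.ext_iff]) (by simp [P0, P1, Fin.ext_iff])
        have e' := c3_rot (a := P1) (b := (⟨1 + 2, hv⟩ : Fin (2 + m))) (c := P0) (by simp [P1, Fin.ext_iff])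
          (by simp [P0, P1, Fin.ext_iff]) (by simp [P0])
        exact (e'.trans e) ▸ this
      · have hx := h (v - 1) (by omega)
        have h0 := ih (by omega) (by omega)
        have := H.mul_mem (H.mul_mem hx h0) (H.inv_mem hx)
        rw [c3_conj, c3_apply_other (by simp [P0, Fin.ext_iff]; omega) (by simp [P0, Fin.ext_iff])
            (by simp [P0, Fin.ext_iff]),
          c3_apply_other (a := (⟨v - 1, _⟩ : Fin (2 + m))) (x := P1) (by simp [P1, Fin.ext_iff]; omega)
            (by simp [P1, Fin.ext_iff]; omega) (by simp [P1, Fin.ext_iff])] at this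
        convert this using 2
        conv_rhs => arg 2; rw [show (⟨v, by omega⟩ : Fin (2 + m)) = ⟨v - 1 + 1, by omega⟩ from Fin.ext (by simp; omega)]
        rw [c3_apply_mid (by simp [Fin.ext_iff]) (by simp [Fin.ext_iff])]
        exact Fin.ext (by simp; omega)
  let e : Fin 2 ⊕ Fin m ≃ Fin (2 + m) := finSumFinEquiv
  intro σ hσ
  have hmem : e.symm.permCongr σ ∈ Subgroup.closure (Set.range (cyc (β := Fin m))) := by
    rw [closure_cyc, Perm.mem_alternatingGroup, Perm.sign_permCongr]
    exact hσ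
  have hle : Subgroup.closure (Set.range (cyc (β := Fin m))) ≤
      H.comap (e.permCongrHom : Perm (Fin 2 ⊕ Fin m) →* Perm (Fin (2 + m))) := by
    rw [Subgroup.closure_le]
    rintro _ ⟨v, rfl⟩
    show e.permCongr (cyc v) ∈ H
    have : e.permCongr (cyc v) = c3 P0 P1 ⟨2 + (v : ℕ), by omega⟩ := by
      have hsw : ∀ x y, e.permCongr (swap x y) = swap (e x) (e y) := fun x y =>
        Equiv.symm_trans_swap_trans x y e
      rw [show cyc v = swapAB * swap (Sum.inl 1) (Sum.inr v) from rfl, swapAB,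
        ← Equiv.permCongrHom_coe, map_mul, Equiv.permCongrHom_coe, hsw, hsw]
      rfl
    rw [this]
    exact key _ _ (by omega)
  have := hle hmem
  have e2 : e.permCongr (e.symm.permCongr σ) = σ := Equiv.ext fun x => by simp [Equiv.permCongr_apply]
  exact e2 ▸ this

/-- A full rotation, or one fixing `0`, together with `(0 1 2)`, generates. -/
theorem exists_two_gen_alt (n : ℕ) :
    ∃ u v : alternatingGroup (Fin n), Subgroup.closure ({u, v} : Set (alternatingGroup (Fin n))) = ⊤ := by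
  rcases Nat.lt_or_ge n 3 with h3 | h3
  · refine ⟨1, 1, ?_⟩
    have : Subsingleton (alternatingGroup (Fin n)) := by
      rw [← Finite.card_le_one_iff_subsingleton, Nat.card_eq_fintype_card]
      rcases (by omega : n = 0 ∨ n = 1 ∨ n = 2) with rfl | rfl | rfl <;> decide
    exact Subgroup.eq_top_iff' _ |>.2 fun x => Subsingleton.elim 1 x ▸ one_mem _
  obtain ⟨k, rfl⟩ : ∃ k, n = k + 3 := ⟨n - 3, by omega⟩
  let p : ∀ i, i < k + 3 → Fin (k + 3) := fun i h => ⟨i, h⟩
  set u : Perm (Fin (k + 3)) := c3 0 1 2 with hu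
  have hu' : u = c3 (p 0 (by omega)) (p 1 (by omega)) (p 2 (by omega)) := by
    simp only [hu, p]; congr 1
  set σ : Perm (Fin (k + 3)) :=
    if Odd (k + 3) then finRotate (k + 3) else Equiv.Perm.decomposeFin.symm (0, finRotate (k + 2)) with hσ
  have hσsign : Perm.sign σ = 1 := by
    rw [hσ]; split_ifs with h
    · rw [sign_finRotate, Even.neg_one_pow]; simpa [parity_simps] using h
    · rw [Equiv.Perm.decomposeFin.symm_sign, if_pos rfl, one_mul, sign_finRotate, Even.neg_one_pow]
      rw [Nat.not_odd_iff_even] at h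
      simpa [parity_simps] using h
  have husign : Perm.sign u = 1 := by rw [hu']; exact sign_c3 (by simp [p]) (by simp [p])
  have hσi : ∀ i (h : i + 1 < k + 3), (Odd (k + 3) ∨ 1 ≤ i) → σ (p i (by omega)) = p (i + 1) h := by
    intro i h hi
    rw [hσ]; split_ifs with ho
    · exact Fin.ext (by rw [coe_finRotate_of_ne_last (by simp [p, Fin.ext_iff]; omega)])
    · obtain ⟨j, rfl⟩ : ∃ j, i = j + 1 := ⟨i - 1, by rcases hi with hi | hi <;> [exact absurd hi ho; omega]⟩
      rw [show p (j + 1) (by omega) = (⟨j, by omega⟩ : Fin (k + 2)).succ from rfl,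
        Equiv.Perm.decomposeFin_symm_apply_succ, swap_self, Equiv.refl_apply]
      exact Fin.ext (by rw [Fin.val_succ, coe_finRotate_of_ne_last (by simp [Fin.ext_iff]; omega)])
  refine ⟨⟨u, husign⟩, ⟨σ, hσsign⟩, ?_⟩
  set K := Subgroup.closure ({⟨u, husign⟩, ⟨σ, hσsign⟩} : Set (alternatingGroup (Fin (k + 3))))
  have hmem_u : u ∈ K.map (alternatingGroup _).subtype := ⟨_, Subgroup.subset_closure (Or.inl rfl), rfl⟩
  have hmem_σ : σ ∈ K.map (alternatingGroup _).subtype := ⟨_, Subgroup.subset_closure (Or.inr rfl), rfl⟩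
  generalize hH : K.map (alternatingGroup _).subtype = H at hmem_u hmem_σ
  have key : ∀ i : ℕ, ∀ hi : i + 2 < k + 3,
      c3 (p i (by omega)) (p (i + 1) (by omega)) (p (i + 2) hi) ∈ H := by
    intro i
    induction i with
    | zero => intro _; exact hu' ▸ hmem_u
    | succ i ih =>
      intro hi
      have h0 := ih (by omega)
      by_cases hok : Odd (k + 3) ∨ 1 ≤ i
      · have := H.mul_mem (H.mul_mem hmem_σ h0) (H.inv_mem hmem_σ)
        rwa [c3_conj, hσi i (by omega) hok, hσi (i + 1) (by omega) (hok.imp id fun h => by omega),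
          hσi (i + 2) (by omega) (hok.imp id fun h => by omega)] at this
      · push Not at hok
        obtain ⟨hno, hi0⟩ := hok
        obtain rfl : i = 0 := by omega
        have h00 : σ (p 0 (by omega)) = p 0 (by omega) := by
          rw [hσ, if_neg hno]; exact Equiv.Perm.decomposeFin_symm_apply_zero _ _
        have hy := H.mul_mem (H.mul_mem hmem_σ h0) (H.inv_mem hmem_σ)
        rw [c3_conj, h00, hσi 1 (by omega) (Or.inr le_rfl), hσi 2 (by omega) (Or.inr (by omega))] at hy
        have hx := H.inv_mem h0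
        rw [c3_inv] at hx
        have := H.inv_mem (H.mul_mem (H.mul_mem hx hy) (H.inv_mem hx))
        rw [c3_conj, c3_apply_right, c3_apply_left (by simp [p]) (by simp [p]),
          c3_apply_other (by simp [p]) (by simp [p]) (by simp [p]), c3_inv] at this
        rwa [c3_rot (by simp [p]) (by simp [p]) (by simp [p])] at this
  have hle := alt_le (by omega) H key
  rw [eq_top_iff]
  intro x _
  obtain ⟨y, hy, e⟩ := hH ▸ hle x.2
  exact Subtype.ext e ▸ hy

/-- Two even permutations generate the stabiliser of `0`. -/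
theorem exists_point_stab (k : ℕ) : ∃ u v : alternatingGroup (Fin (k + 1)),
    (u : Perm (Fin (k + 1))) 0 = 0 ∧ (v : Perm (Fin (k + 1))) 0 = 0 ∧
      ∀ g : alternatingGroup (Fin (k + 1)), (g : Perm (Fin (k + 1))) 0 = 0 →
        g ∈ Subgroup.closure ({u, v} : Set (alternatingGroup (Fin (k + 1)))) := by
  obtain ⟨u, v, huv⟩ := exists_two_gen_alt k
  let s : Perm (Fin k) →* Perm (Fin (k + 1)) :=
    { toFun := fun e => Equiv.Perm.decomposeFin.symm (0, e)
      map_one' := by rw [Equiv.Perm.decomposeFin_symm_of_one, swap_self]; rfl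
      map_mul' := fun a b => Equiv.ext fun x => by
        refine Fin.cases ?_ (fun y => ?_) x <;> simp }
  have hs : ∀ e, Perm.sign (s e) = Perm.sign e := fun e => by
    show Perm.sign (Equiv.Perm.decomposeFin.symm (0, e)) = _
    rw [Equiv.Perm.decomposeFin.symm_sign, if_pos rfl, one_mul]
  have hs0 : ∀ e, s e 0 = 0 := fun e => Equiv.Perm.decomposeFin_symm_apply_zero _ _
  let t : alternatingGroup (Fin k) →* alternatingGroup (Fin (k + 1)) :=
    (s.comp (alternatingGroup (Fin k)).subtype).codRestrict _ fun e => (hs e).trans e.2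
  refine ⟨t u, t v, hs0 _, hs0 _, fun g hg => ?_⟩
  obtain ⟨⟨q, e⟩, he⟩ := Equiv.Perm.decomposeFin.symm.surjective (g : Perm (Fin (k + 1)))
  obtain rfl : q = 0 := by rw [← hg, ← he, Equiv.Perm.decomposeFin_symm_apply_zero]
  have hev : Perm.sign e = 1 := by rw [← hs e]; exact (congrArg Perm.sign he).trans g.2
  have h1 : t ⟨e, hev⟩ ∈ (Subgroup.closure {u, v}).map t := ⟨_, huv ▸ Subgroup.mem_top _, rfl⟩
  rw [MonoidHom.map_closure, Set.image_insert_eq, Set.image_singleton] at h1
  exact (show t ⟨e, hev⟩ = g from Subtype.ext he) ▸ h1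

/-- Two even permutations generate the stabiliser of `{0, 1}`. -/
theorem exists_pair_stab (m : ℕ) : ∃ u v : alternatingGroup (Fin (2 + m)),
    (∀ x : Fin (2 + m), (x : ℕ) < 2 → (((u : Perm (Fin (2 + m))) x : ℕ) < 2)) ∧
    (∀ x : Fin (2 + m), (x : ℕ) < 2 → (((v : Perm (Fin (2 + m))) x : ℕ) < 2)) ∧
      ∀ g : alternatingGroup (Fin (2 + m)), (∀ x : Fin (2 + m), (x : ℕ) < 2 →
          (((g : Perm (Fin (2 + m))) x : ℕ) < 2)) →
        g ∈ Subgroup.closure ({u, v} : Set (alternatingGroup (Fin (2 + m)))) := by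
  let E := Equiv.altCongrHom (finSumFinEquiv : Fin 2 ⊕ Fin m ≃ Fin (2 + m))
  let t : Perm (Fin m) →* alternatingGroup (Fin (2 + m)) := E.toMonoidHom.comp lft
  have hE : ∀ (g : alternatingGroup (Fin 2 ⊕ Fin m)) (x : Fin 2 ⊕ Fin m),
      (E g : Perm (Fin (2 + m))) (finSumFinEquiv x) = finSumFinEquiv ((g : Perm _) x) := fun g x => by
    show (finSumFinEquiv.permCongr (g : Perm (Fin 2 ⊕ Fin m))) (finSumFinEquiv x) = _
    simp [Equiv.permCongr_apply]
  have hpres : ∀ π, ∀ x : Fin (2 + m), (x : ℕ) < 2 → (((t π : Perm (Fin (2 + m))) x : ℕ) < 2) := by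
    intro π x hx
    rw [show x = finSumFinEquiv (Sum.inl ⟨x, hx⟩) from Fin.ext rfl]
    show (((E (lft π) : Perm (Fin (2 + m))) _ : Fin _) : ℕ) < 2
    rw [hE, lft_coe, Equiv.sumCongr_apply, Sum.map_inl]
    exact (parity (Perm.sign π) ⟨x, hx⟩).2
  obtain ⟨g₁, g₂, hgen⟩ : ∃ g₁ g₂ : Perm (Fin m), Subgroup.closure ({g₁, g₂} : Set (Perm (Fin m))) = ⊤ := by
    rcases Nat.lt_or_ge m 2 with h | h
    · refine ⟨1, 1, eq_top_iff.2 fun x _ => ?_⟩
      rw [show x = 1 from Equiv.ext fun i => Fin.ext (by omega)]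
      exact one_mem _
    · obtain ⟨m', rfl⟩ : ∃ m', m = m' + 2 := ⟨m - 2, by omega⟩
      refine ⟨finRotate (m' + 2), swap 0 (finRotate (m' + 2) 0), ?_⟩
      rw [eq_top_iff, ← Perm.closure_cycle_adjacent_swap (isCycle_finRotate (n := m')) support_finRotate 0]
  refine ⟨t g₁, t g₂, hpres g₁, hpres g₂, fun g hg => ?_⟩
  set g' := E.symm g
  obtain ⟨⟨τ, π⟩, hτπ⟩ := Perm.mem_sumCongrHom_range_of_perm_mapsTo_inl (σ := (g' : Perm (Fin 2 ⊕ Fin m))) (by
    rintro _ ⟨i, rfl⟩
    have h := hg (finSumFinEquiv (Sum.inl i)) i.2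
    rw [show g = E g' from (E.apply_symm_apply g).symm, hE] at h
    rcases hx : (g' : Perm (Fin 2 ⊕ Fin m)) (Sum.inl i) with j | j
    · exact ⟨j, rfl⟩
    · rw [hx] at h; simp at h; omega)
  have hg' : g' = lft π := by
    refine Subtype.ext (hτπ.symm.trans ?_)
    have hs : Perm.sign (g' : Perm (Fin 2 ⊕ Fin m)) = 1 := g'.2
    rw [← hτπ] at hs
    rw [show Perm.sumCongrHom (Fin 2) (Fin m) (τ, π) = sumCongr τ π from rfl, Perm.sign_sumCongr] at hs
    rw [lft_coe, show Perm.sumCongrHom (Fin 2) (Fin m) (τ, π) = sumCongr τ π from rfl]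
    have : ∀ τ : Perm (Fin 2), τ = parity (Perm.sign τ) := by decide
    rw [this τ, show Perm.sign τ = Perm.sign π from by
      rcases Int.units_eq_one_or (Perm.sign τ) with a | a <;>
        rcases Int.units_eq_one_or (Perm.sign π) with b | b <;> rw [a, b] at hs ⊢ <;>
          first | rfl | exact absurd hs (by decide)]
  have h1 : t π ∈ (Subgroup.closure {g₁, g₂}).map t := ⟨_, hgen ▸ Subgroup.mem_top _, rfl⟩
  rw [MonoidHom.map_closure, Set.image_insert_eq, Set.image_singleton] at h1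
  exact (show t π = g by show E (lft π) = g; rw [← hg', E.apply_symm_apply]) ▸ h1

end Cfsg.Agent.BoundedPres
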