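import Mathlib

/-!
# Presentations with a bounded number of relators

`Pres G r`: the group `G` has a finite presentation with at most `r` relators (and any finite
number of generators), stated by the universal property against groups in `Type`.
-/

set_option autoImplicit false

namespace Cfsg.Agent.BoundedPres

universe u v

/-- `G` has a finite presentation with at most `r` relators. -/
def Pres (G : Type u) [Group G] (r : ℕ) : Prop :=
  ∃ (k : ℕ) (g : Fin k → G) (R : List (FreeGroup (Fin k))), R.length ≤ r ∧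
    Subgroup.closure (Set.range g) = ⊤ ∧ (∀ w ∈ R, FreeGroup.lift g w = 1) ∧
    ∀ (Q : Type) [Group Q] (g' : Fin k → Q), (∀ w ∈ R, FreeGroup.lift g' w = 1) →
      ∃ f : G →* Q, ∀ i, f (g i) = g' i

theorem lift_map {α : Type*} {G : Type*} [Group G] {H : Type*} [Group H] (f : G →* H) (g : α → G)
    (w : FreeGroup α) : f (FreeGroup.lift g w) = FreeGroup.lift (f ∘ g) w := by
  have : f.comp (FreeGroup.lift g) = FreeGroup.lift (f ∘ g) := FreeGroup.ext_hom _ _ fun a => by simp
  exact DFunLike.congr_fun this w

theorem lift_surjective {α : Type*} {G : Type*} [Group G] {g : α → G}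
    (h : Subgroup.closure (Set.range g) = ⊤) : Function.Surjective (FreeGroup.lift g) := by
  rw [← MonoidHom.range_eq_top, FreeGroup.range_lift_eq_closure, h]

theorem Pres.mono {G : Type u} [Group G] {r s : ℕ} (h : Pres G r) (hrs : r ≤ s) : Pres G s :=
  let ⟨k, g, R, hR, rest⟩ := h; ⟨k, g, R, hR.trans hrs, rest⟩

theorem Pres.of_equiv {G : Type u} [Group G] {H : Type v} [Group H] {r : ℕ} (h : Pres G r)
    (e : G ≃* H) : Pres H r := by
  obtain ⟨k, g, R, hR, hg, hrel, huniv⟩ := h
  refine ⟨k, e ∘ g, R, hR, ?_, fun w hw => ?_, fun Q _ g' hg' => ?_⟩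
  · have := MonoidHom.map_closure e.toMonoidHom (Set.range g)
    rw [hg, Subgroup.map_top_of_surjective _ e.surjective, ← Set.range_comp] at this
    exact this.symm
  · have := lift_map e.toMonoidHom g w
    rw [hrel w hw, map_one] at this
    exact this.symm
  · obtain ⟨f, hf⟩ := huniv Q g' hg'
    exact ⟨f.comp e.symm.toMonoidHom, fun i => by simp [hf]⟩

/-- From an isomorphism with a presented group. -/
theorem Pres.of_presented {G : Type u} [Group G] {k : ℕ} {rels : Finset (FreeGroup (Fin k))} {r : ℕ}
    (hr : rels.card ≤ r) (e : PresentedGroup (↑rels : Set (FreeGroup (Fin k))) ≃* G) : Pres G r := by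
  refine Pres.of_equiv ⟨k, PresentedGroup.of, rels.toList, by simpa using hr,
    PresentedGroup.closure_range_of _, fun w hw => ?_, fun Q _ g' hg' => ?_⟩ e
  · have : FreeGroup.lift (PresentedGroup.of (rels := (↑rels : Set (FreeGroup (Fin k))))) =
        PresentedGroup.mk _ := FreeGroup.ext_hom _ _ fun a => by simp [PresentedGroup.of]
    rw [this]
    exact PresentedGroup.one_of_mem (by simpa using hw)
  · exact ⟨PresentedGroup.toGroup (fun w hw => hg' w (by simpa using hw)),
      fun i => PresentedGroup.toGroup.of _⟩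

/-- Generators, relators and an order bound give a presentation. -/
theorem Pres.of_card {G : Type u} [Group G] [Finite G] {k r : ℕ} {g : Fin k → G}
    {R : List (FreeGroup (Fin k))} (hR : R.length ≤ r) (hg : Subgroup.closure (Set.range g) = ⊤)
    (hrel : ∀ w ∈ R, FreeGroup.lift g w = 1)
    (hbound : ∀ (Q : Type) [Group Q] (g' : Fin k → Q), Subgroup.closure (Set.range g') = ⊤ →
      (∀ w ∈ R, FreeGroup.lift g' w = 1) → Finite Q ∧ Nat.card Q ≤ Nat.card G) : Pres G r := by
  refine ⟨k, g, R, hR, hg, hrel, fun Q _ g' hg' => ?_⟩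
  set S : Set (FreeGroup (Fin k)) := {w | w ∈ R}
  let π : PresentedGroup S →* G := PresentedGroup.toGroup (f := g) hrel
  have hπ : ∀ i, π (PresentedGroup.of i) = g i := fun i => PresentedGroup.toGroup.of _
  have hsurj : Function.Surjective π := by
    rw [← MonoidHom.range_eq_top, eq_top_iff, ← hg, Subgroup.closure_le]
    rintro _ ⟨i, rfl⟩
    exact ⟨_, hπ i⟩
  obtain ⟨hfin, hle⟩ := hbound (PresentedGroup S) PresentedGroup.of (PresentedGroup.closure_range_of _)
    (fun w hw => by
      have : FreeGroup.lift (PresentedGroup.of (rels := S)) = PresentedGroup.mk _ :=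
        FreeGroup.ext_hom _ _ fun a => by simp [PresentedGroup.of]
      rw [this]
      exact PresentedGroup.one_of_mem hw)
  have := hfin
  let e := MulEquiv.ofBijective π (hsurj.bijective_of_nat_card_le hle)
  have hσ : ∀ w ∈ S, FreeGroup.lift g' w = 1 := hg'
  refine ⟨(PresentedGroup.toGroup hσ).comp e.symm.toMonoidHom, fun i => ?_⟩
  have : e.symm (g i) = PresentedGroup.of i := by
    rw [MulEquiv.symm_apply_eq]
    exact (hπ i).symm
  simp [this]

/-- Killing the normal closure of one element costs one relator. -/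
theorem Pres.quotient {G : Type u} [Group G] {r : ℕ} (h : Pres G r) (N : Subgroup G) [N.Normal] (z : G)
    (hN : N = Subgroup.normalClosure {z}) : Pres (G ⧸ N) (r + 1) := by
  obtain ⟨k, g, R, hR, hg, hrel, huniv⟩ := h
  obtain ⟨wz, hwz⟩ := lift_surjective hg z
  refine ⟨k, QuotientGroup.mk' N ∘ g, wz :: R, by simp [hR], ?_, fun w hw => ?_, fun Q _ g' hg' => ?_⟩
  · have := MonoidHom.map_closure (QuotientGroup.mk' N) (Set.range g)
    rw [hg, Subgroup.map_top_of_surjective _ (QuotientGroup.mk'_surjective N), ← Set.range_comp] at this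
    exact this.symm
  · rw [← lift_map]
    rcases List.mem_cons.1 hw with rfl | hw
    · rw [hwz]
      exact (QuotientGroup.eq_one_iff z).2 (hN ▸ Subgroup.subset_normalClosure rfl)
    · rw [hrel w hw, map_one]
  · obtain ⟨f, hf⟩ := huniv Q g' fun w hw => hg' w (List.mem_cons_of_mem _ hw)
    have hz : f z = 1 := by
      rw [← hwz, lift_map, show f ∘ g = g' from funext hf]
      exact hg' wz List.mem_cons_self
    have hle : N ≤ f.ker := by
      rw [hN]
      exact Subgroup.normalClosure_le_normal (by simpa using hz)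
    exact ⟨QuotientGroup.lift N f hle, fun i => by simp [hf]⟩

/-- Tietze: on any generating pair, two more relators suffice. -/
theorem Pres.twoGen {G : Type u} [Group G] {r : ℕ} (h : Pres G r) {a b : G}
    (hab : Subgroup.closure ({a, b} : Set G) = ⊤) :
    ∃ rels : Finset (FreeGroup (Fin 2)), rels.card ≤ r + 2 ∧
      ∃ e : PresentedGroup (↑rels : Set (FreeGroup (Fin 2))) ≃* G,
        e (PresentedGroup.of 0) = a ∧ e (PresentedGroup.of 1) = b := by
  classical
  obtain ⟨k, g, R, hR, hg, hrel, huniv⟩ := h
  have hab' : Subgroup.closure (Set.range ![a, b]) = ⊤ := by rw [Matrix.range_cons_cons_empty]; exact hab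
  choose w hw using fun i => lift_surjective hab' (g i)
  choose v hv using fun j => lift_surjective hg (![a, b] j)
  set L : List (FreeGroup (Fin 2)) := R.map (FreeGroup.lift w) ++
    [(FreeGroup.of 0)⁻¹ * FreeGroup.lift w (v 0), (FreeGroup.of 1)⁻¹ * FreeGroup.lift w (v 1)] with hL
  refine ⟨L.toFinset, (List.toFinset_card_le L).trans (by simp [L, hR]), ?_⟩
  have hmap : ∀ u : FreeGroup (Fin k), FreeGroup.lift ![a, b] (FreeGroup.lift w u) = FreeGroup.lift g u :=
    fun u => by rw [lift_map]; exact congrArg (FreeGroup.lift · u) (funext hw)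
  have hπrel : ∀ x ∈ (↑L.toFinset : Set (FreeGroup (Fin 2))), FreeGroup.lift ![a, b] x = 1 := by
    intro x hx
    simp only [L, List.coe_toFinset, Set.mem_ofPred_eq, List.mem_append, List.mem_map, List.mem_cons,
      List.not_mem_nil, or_false] at hx
    rcases hx with ⟨u, hu, rfl⟩ | rfl | rfl
    · rw [hmap, hrel u hu]
    · rw [map_mul, map_inv, hmap, hv]; simp
    · rw [map_mul, map_inv, hmap, hv]; simp
  let π := PresentedGroup.toGroup hπrel
  let mk := PresentedGroup.mk (↑L.toFinset : Set (FreeGroup (Fin 2)))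
  have hmk1 : ∀ x ∈ L, mk x = 1 := fun x hx => PresentedGroup.one_of_mem (by simpa using hx)
  have hgq : ∀ u, mk (FreeGroup.lift w u) = FreeGroup.lift (fun i => mk (w i)) u := fun u => lift_map mk w u
  obtain ⟨f, hf⟩ := huniv _ (fun i => mk (w i)) fun u hu => by
    rw [← hgq]
    exact hmk1 _ (List.mem_append_left _ (List.mem_map.2 ⟨u, hu, rfl⟩))
  have hfw : ∀ u, f (FreeGroup.lift g u) = mk (FreeGroup.lift w u) := fun u => by
    rw [lift_map, hgq]; exact congrArg (FreeGroup.lift · u) (funext hf)
  have hfab : ∀ j, f (![a, b] j) = PresentedGroup.of j := by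
    intro j
    rw [← hv j, hfw]
    have : mk ((FreeGroup.of j)⁻¹ * FreeGroup.lift w (v j)) = 1 := by
      apply hmk1
      fin_cases j <;> simp [L]
    rw [map_mul, map_inv, inv_mul_eq_one] at this
    exact this.symm
  have h1 : f.comp π = MonoidHom.id _ := PresentedGroup.ext fun j => by
    rw [MonoidHom.comp_apply, PresentedGroup.toGroup.of, hfab, MonoidHom.id_apply]
  have h2 : π.comp f = MonoidHom.id _ := MonoidHom.eq_of_eqOn_dense hab' (by
    rintro _ ⟨j, rfl⟩
    rw [MonoidHom.comp_apply, hfab, PresentedGroup.toGroup.of, MonoidHom.id_apply])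
  exact ⟨π.toMulEquiv f h1 h2, PresentedGroup.toGroup.of hπrel, PresentedGroup.toGroup.of hπrel⟩

end Cfsg.Agent.BoundedPres
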