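import Cfsg.Agent.Lib.BoundedPres.SLPres
import Cfsg.Agent.S2278
import Cfsg.Agent.S0801

/-!
# Two-generator presentations of the groups `PSL_n(q)` with at most eighty relators
-/

set_option autoImplicit false
set_option linter.unusedSectionVars false

namespace Cfsg.Agent.BoundedPres

open Equiv Matrix SL2Presentation
open scoped MatrixGroups

variable {F : Type*} [Field F] [Fintype F]

/-- Relabelling of coordinates. -/
def slReindex {ι κ : Type*} [Fintype ι] [DecidableEq ι] [Fintype κ] [DecidableEq κ] (e : ι ≃ κ) :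
    SpecialLinearGroup ι F ≃* SpecialLinearGroup κ F where
  toFun A := ⟨Matrix.reindex e e A.1, by rw [Matrix.reindex_apply, det_submatrix_equiv_self]; exact A.2⟩
  invFun A := ⟨Matrix.reindex e.symm e.symm A.1, by
    rw [Matrix.reindex_apply, det_submatrix_equiv_self]; exact A.2⟩
  left_inv A := Subtype.ext (by simp)
  right_inv A := Subtype.ext (by simp)
  map_mul' A B := Subtype.ext (show Matrix.reindex e e (A.1 * B.1) =
      Matrix.reindex e e A.1 * Matrix.reindex e e B.1 by simp [submatrix_mul_equiv])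

theorem exists_normalClosure_center {G : Type*} [Group G] (hc : IsCyclic (Subgroup.center G)) :
    ∃ z : G, Subgroup.center G = Subgroup.normalClosure {z} := by
  obtain ⟨z, hz⟩ := hc.exists_generator
  refine ⟨(z : G), le_antisymm (fun x hx => ?_)
    (Subgroup.normalClosure_le_normal (Set.singleton_subset_iff.2 z.2))⟩
  obtain ⟨k, hk⟩ := Subgroup.mem_zpowers_iff.1 (hz ⟨x, hx⟩)
  have h1 := congrArg (Subgroup.center G).subtype hk
  rw [map_zpow] at h1
  rw [show x = (z : G) ^ k from h1.symm]
  exact Subgroup.zpow_mem _ (Subgroup.subset_normalClosure (Set.mem_singleton _)) k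

theorem isCyclic_center {ι : Type*} [Fintype ι] [DecidableEq ι] :
    IsCyclic (Subgroup.center (SpecialLinearGroup ι F)) := by
  have : NeZero (max (Fintype.card ι) 1) := ⟨by omega⟩
  exact isCyclic_of_surjective (SpecialLinearGroup.center_equiv_rootsOfUnity (n := ι) (R := F)).symm
    (MulEquiv.surjective _)

theorem closure_pair_image {G H : Type*} [Group G] [Group H] (f : G →* H) (hf : Function.Surjective f)
    {a b : G} (h : Subgroup.closure ({a, b} : Set G) = ⊤) :
    Subgroup.closure ({f a, f b} : Set H) = ⊤ := by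
  have := MonoidHom.map_closure f ({a, b} : Set G)
  rw [h, Subgroup.map_top_of_surjective _ hf, Set.image_insert_eq, Set.image_singleton] at this
  exact this.symm

theorem two_gen_two (hq : 4 ≤ Fintype.card F) :
    ∃ a b : SL(2, F), Subgroup.closure ({a, b} : Set SL(2, F)) = ⊤ := by
  classical
  obtain ⟨ω, hω⟩ := IsCyclic.exists_generator (α := Fˣ)
  have hord : orderOf ω = Fintype.card F - 1 := by
    rw [orderOf_eq_card_of_forall_mem_zpowers hω, Nat.card_eq_fintype_card, Fintype.card_units]
  by_cases h2 : (2 : F) = 0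
  · have : CharP F 2 := CharTwo.of_one_ne_zero_of_two_eq_zero one_ne_zero h2
    have hr : ringChar F = 2 := ringChar.eq F 2
    set b : SL(2, F) := uL 1 * tL with hbdef
    refine ⟨dL ω, b, ?_⟩
    set H := Subgroup.closure ({dL ω, b} : Set SL(2, F))
    have hd : dL ω ∈ H := Subgroup.subset_closure (Or.inl rfl)
    have hb : b ∈ H := Subgroup.subset_closure (Or.inr rfl)
    set e : F := (ω : F) ^ 2 + 1 with he
    have hu : uL e ∈ H := by
      have h1 : uL e * b = dL ω * (b * dL ω) := by
        refine Subtype.ext ?_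
        show _ * (_ * _) = _ * ((_ * _) * _)
        rw [uL_val, uL_val, dL_coe]
        show !![1, e; 0, 1] * (!![1, (1 : F); 0, 1] * !![0, 1; -1, 0]) = _
        rw [show (tL : SL(2, F)).1 = !![0, 1; -1, 0] from rfl]
        ext i j; fin_cases i <;> fin_cases j <;>
          simp [Matrix.mul_apply, Fin.sum_univ_two, CharTwo.neg_eq, e] <;> ring_nf
        · rw [h2]; simp
      have := H.mul_mem (H.mul_mem hd (H.mul_mem hb hd)) (H.inv_mem hb)
      rwa [← h1, mul_inv_cancel_right] at this
    have he0 : e ≠ 0 := by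
      intro h0
      have h3 : ω ^ 2 = 1 := Units.ext (by
        rw [Units.val_pow_eq_pow_val, Units.val_one]
        linear_combination h0 - h2)
      have := Nat.le_of_dvd two_pos (hord ▸ orderOf_dvd_of_pow_eq_one h3)
      omega
    have hdd : ∀ c : Fˣ, dL c ∈ H := fun c => by
      obtain ⟨k, rfl⟩ := hω c
      simp only [map_zpow]
      exact zpow_mem hd k
    have hU : ∀ x, uL x ∈ H := by
      intro x
      obtain ⟨c, hc⟩ := FiniteField.isSquare_of_char_two hr (x / e)
      rcases eq_or_ne c 0 with rfl | hc0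
      · rw [mul_zero, div_eq_zero_iff] at hc
        rw [hc.resolve_right he0, uL_zero]
        exact one_mem _
      · have := H.mul_mem (H.mul_mem (hdd (Units.mk0 c hc0)) hu) (H.inv_mem (hdd (Units.mk0 c hc0)))
        rw [dL_conj, Units.val_mk0] at this
        rwa [show c ^ 2 * e = x by rw [sq, ← hc, div_mul_cancel₀ _ he0]] at this
    refine closure_eq_top ω hω H hU hd ?_
    have := H.mul_mem (H.inv_mem (hU 1)) hb
    rwa [hbdef, inv_mul_cancel_left] at this
  · have hgen : Subfield.closure ({(ω : F)} : Set F) = ⊤ := by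
      rw [eq_top_iff]
      intro x _
      rcases eq_or_ne x 0 with rfl | hx
      · exact zero_mem _
      · obtain ⟨k, hk⟩ := hω (Units.mk0 x hx)
        have h := congrArg Units.val hk
        simp only [Units.val_zpow_eq_zpow_val, Units.val_mk0] at h
        rw [← h]
        exact zpow_mem (Subfield.subset_closure (s := {(ω : F)}) rfl) k
    rcases Cfsg.Agent.S0801.result h2 (ω : F) ω.ne_zero hgen with ⟨h, -⟩ | ⟨h9, hsq, -⟩
    · refine ⟨⟨!![1, 0; 1, 1], by simp [det_fin_two]⟩, ⟨!![1, (ω : F); 0, 1], by simp [det_fin_two]⟩, ?_⟩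
      rw [eq_top_iff, ← h]
      refine Subgroup.closure_mono ?_
      rintro g (hg | hg)
      · exact Or.inl (Subtype.ext hg)
      · exact Or.inr (Subtype.ext hg)
    · exfalso
      have h4 : ω ^ 4 = 1 := Units.ext (by
        rw [Units.val_pow_eq_pow_val, Units.val_one]
        linear_combination ((ω : F) ^ 2 - 1) * hsq)
      have := Nat.le_of_dvd (by norm_num) (hord ▸ orderOf_dvd_of_pow_eq_one h4)
      omega

open Fin.NatCast in
theorem two_gen_large (n : ℕ) :
    ∃ a b : SpecialLinearGroup (Fin (n + 4)) F,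
      Subgroup.closure ({a, b} : Set (SpecialLinearGroup (Fin (n + 4)) F)) = ⊤ := by
  classical
  obtain ⟨ω, hω⟩ := IsCyclic.exists_generator (α := Fˣ)
  set σ := finRotate (n + 4)
  set ε : F := (((Perm.sign σ : ℤˣ) : ℤ) : F) with hε
  have hεε : ε * ε = 1 := by
    rw [hε, ← Int.cast_mul, ← Units.val_mul, Int.units_mul_self]; simp
  set s : Fin (n + 4) → F := Function.update 1 0 ε with hs
  have hs0 : ∀ x, s x ≠ 0 := fun x => by
    rcases eq_or_ne x 0 with rfl | h
    · rw [hs, Function.update_self]; exact left_ne_zero_of_mul_eq_one hεε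
    · rw [hs, Function.update_of_ne h]; simp
  let w : SpecialLinearGroup (Fin (n + 4)) F := ⟨σ⁻¹.permMatrix F * diagonal s, by
    rw [det_mul, det_permutation, det_diagonal, hs, Finset.prod_update_of_mem (Finset.mem_univ _), map_inv,
      Int.units_inv_eq_self]
    simpa [hε] using hεε⟩
  have hw : ∀ x y, w.1 x y = if x = σ y then s y else 0 := fun x y => by
    show (σ⁻¹.permMatrix F * diagonal s) x y = _
    rw [mul_diagonal, Equiv.Perm.permMatrix, PEquiv.toMatrix_apply]
    by_cases h : x = σ y
    · subst h; simp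
    · have : σ⁻¹ x ≠ y := fun e => h (by rw [← e]; simp)
      simp [h, Perm.inv_def] at this ⊢
      simp [this]
  set d : Fin (n + 4) → Fˣ := Function.update (Function.update 1 2 ω) 3 ω⁻¹ with hd
  have h01 : (0 : Fin (n + 4)) ≠ 1 := by simp
  have hv0 : ((0 : Fin (n + 4)) : ℕ) = 0 := rfl
  have hv1 : ((1 : Fin (n + 4)) : ℕ) = 1 := Nat.mod_eq_of_lt (show 1 < n + 4 by omega)
  have hn2 : ((2 : Fin (n + 4)) : ℕ) = 2 := Nat.mod_eq_of_lt (show 2 < n + 4 by omega)
  have hn3 : ((3 : Fin (n + 4)) : ℕ) = 3 := Nat.mod_eq_of_lt (show 3 < n + 4 by omega)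
  have h23 : (2 : Fin (n + 4)) ≠ 3 := fun h => by have := congrArg Fin.val h; omega
  let D : SpecialLinearGroup (Fin (n + 4)) F := ⟨diagonal fun x => (d x : F), by
    rw [det_diagonal, ← Units.coe_prod, hd, Finset.prod_update_of_mem (Finset.mem_univ _),
      Finset.prod_update_of_mem (by simpa using h23)]
    simp⟩
  let tv : ∀ (i j : Fin (n + 4)), i ≠ j → F → SpecialLinearGroup (Fin (n + 4)) F :=
    fun i j h t => SpecialLinearGroup.transvection h t
  have htv : ∀ i j (h : i ≠ j) t, (tv i j h t).1 = 1 + Matrix.single i j t := fun i j h t => rfl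
  have htv_mul : ∀ i j (h : i ≠ j) t u, tv i j h t * tv i j h u = tv i j h (t + u) := fun i j h t u => by
    refine Subtype.ext ?_
    show _ * _ = _
    rw [htv, htv, htv, single_add]
    simp [mul_add, add_mul, single_mul_single_of_ne _ _ _ _ h.symm, add_assoc]
  have hd0 : d 0 = 1 := by
    rw [hd, Function.update_of_ne (fun h => by have := congrArg Fin.val h; omega),
      Function.update_of_ne (fun h => by have := congrArg Fin.val h; omega)]
    rfl
  have hd1 : d 1 = 1 := by
    rw [hd, Function.update_of_ne (fun h => by have := congrArg Fin.val h; omega),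
      Function.update_of_ne (fun h => by have := congrArg Fin.val h; omega)]
    rfl
  have hd2 : d 2 = ω := by rw [hd, Function.update_of_ne h23, Function.update_self]
  have hDconj : ∀ i j (h : i ≠ j) t u, (d i : F) * t = u * (d j : F) →
      D * tv i j h t = tv i j h u * D := fun i j h t u he => by
    refine Subtype.ext ?_
    show diagonal _ * _ = _ * diagonal _
    rw [htv, htv]
    ext x y
    rw [diagonal_mul, mul_diagonal]
    rcases eq_or_ne x y with rfl | hxy
    · have : Matrix.single i j t x x = 0 ∧ Matrix.single i j u x x = 0 := by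
        constructor <;> rw [Matrix.single_apply, if_neg] <;> rintro ⟨rfl, rfl⟩ <;> exact h rfl
      simp [this.1, this.2, mul_comm]
    · rw [Matrix.add_apply, Matrix.add_apply, Matrix.one_apply_ne hxy, zero_add, zero_add,
        Matrix.single_apply, Matrix.single_apply]
      split_ifs with hc
      · obtain ⟨rfl, rfl⟩ := hc; exact he
      · simp
  set x₁ := tv 0 1 h01 1
  refine ⟨w, x₁ * D, ?_⟩
  set H := Subgroup.closure ({w, x₁ * D} : Set (SpecialLinearGroup (Fin (n + 4)) F))
  have hwH : w ∈ H := Subgroup.subset_closure (Or.inl rfl)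
  have hxH : x₁ ∈ H := by
    have hc : Commute x₁ D := (hDconj 0 1 h01 1 1 (by rw [hd0, hd1]; ring)).symm
    have hDk : ∀ k : ℕ, (D ^ k).1 = diagonal fun x => ((d x : F)) ^ k := by
      intro k
      induction k with
      | zero => simp
      | succ k ih =>
        rw [pow_succ]
        show (D ^ k).1 * diagonal _ = _
        rw [ih, diagonal_mul_diagonal]
        simp [pow_succ]
    have hDq : D ^ (Fintype.card F - 1) = 1 := by
      refine Subtype.ext ((hDk _).trans ?_)
      simp [FiniteField.pow_card_sub_one_eq_one _ (Units.ne_zero _)]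
    have hxk : ∀ k : ℕ, x₁ ^ k = tv 0 1 h01 k := by
      intro k
      induction k with
      | zero => refine Subtype.ext ?_; rw [htv]; simp
      | succ k ih => rw [pow_succ, ih, htv_mul, Nat.cast_succ]
    have hxq : x₁ ^ Fintype.card F = 1 := by
      rw [hxk, FiniteField.cast_card_eq_zero]; refine Subtype.ext ?_; rw [htv]; simp
    have hm := H.pow_mem (Subgroup.subset_closure (Or.inr rfl) : x₁ * D ∈ H) (Fintype.card F - 1)
    rw [hc.mul_pow, hDq, mul_one, eq_inv_of_mul_eq_one_left
      (show x₁ ^ (Fintype.card F - 1) * x₁ = 1 by rw [← pow_succ, Nat.sub_add_cancel Fintype.card_pos, hxq])] at hm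
    exact (Subgroup.inv_mem_iff _).1 hm
  have hDH : D ∈ H := by
    have := H.mul_mem (H.inv_mem hxH) (Subgroup.subset_closure (Or.inr rfl) : x₁ * D ∈ H)
    rwa [inv_mul_cancel_left] at this
  let S : Fin (n + 4) → Fin (n + 4) → Set F := fun i j => {t | ∀ h : i ≠ j, tv i j h t ∈ H}
  have hstep : ∀ i j (h : i ≠ j) t, t ∈ S i j →
      t * s i * (s j)⁻¹ ∈ S (σ i) (σ j) := fun i j h t ht' h' => by
    have ht := ht' h
    have e : w * tv i j h t = tv (σ i) (σ j) (σ.injective.ne h) (t * s i * (s j)⁻¹) * w := by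
      refine Subtype.ext ?_
      show w.1 * _ = _ * w.1
      rw [htv, htv, mul_add, mul_one, add_mul, one_mul]
      congr 1
      ext x y
      rw [Matrix.mul_apply, Matrix.mul_apply,
        Finset.sum_eq_single i (fun z _ hz => by simp [Ne.symm hz]) (by simp),
        Finset.sum_eq_single (σ j) (fun z _ hz => by simp [Ne.symm hz]) (by simp), hw, hw]
      simp only [Matrix.single_apply, σ.injective.eq_iff]
      by_cases hxa : x = σ i <;> by_cases hyb : y = j <;> simp [hxa, hyb, Ne.symm]
      · field_simp [hs0 j]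
    have := H.mul_mem (H.mul_mem hwH ht) (H.inv_mem hwH)
    rwa [e, mul_inv_cancel_right] at this
  have hsucc : ∀ i : Fin (n + 4), σ i = i + 1 := fun i => finRotate_apply ..
  have hne : ∀ i : Fin (n + 4), i ≠ i + 1 := fun i h => by simp at h
  have h12 : (1 : Fin (n + 4)) ≠ 1 + 1 := hne 1
  -- all of the root group (1, 2)
  have hfull : ∀ t, t ∈ S 1 (1 + 1) := by
    have hbase : ∃ t ≠ 0, t ∈ S 1 (1 + 1) := by
      refine ⟨1 * s 0 * (s 1)⁻¹, by simp [hs0], ?_⟩
      have := hstep 0 1 h01 1 (fun _ => hxH)
      rwa [hsucc, hsucc, zero_add] at this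
    have hscale : ∀ t, t ∈ S 1 (1 + 1) → ((ω⁻¹ : Fˣ) : F) * t ∈ S 1 (1 + 1) := fun t ht' h' => by
      have ht := ht' h'
      have e := hDconj 1 (1 + 1) h12 t ((ω⁻¹ : Fˣ) * t) (by
        rw [hd1, show (1 : Fin (n + 4)) + 1 = 2 from Fin.ext (by
          rw [Fin.val_add, hv1, hn2]; exact Nat.mod_eq_of_lt (by omega)), hd2, Units.val_one, one_mul,
          mul_comm, ← mul_assoc, ← Units.val_mul, mul_inv_cancel, Units.val_one, one_mul])
      have := H.mul_mem (H.mul_mem hDH ht) (H.inv_mem hDH)
      rwa [e, mul_inv_cancel_right] at this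
    obtain ⟨t₀, ht₀, ht₀S⟩ := hbase
    intro t
    rcases eq_or_ne t 0 with rfl | ht
    · intro _
      show tv _ _ _ 0 ∈ H
      rw [show tv (1 : Fin (n + 4)) (1 + 1) h12 0 = 1 by refine Subtype.ext ?_; rw [htv]; simp]
      exact one_mem _
    · obtain ⟨k, hk⟩ := mem_powers_iff_mem_zpowers.2
        (show Units.mk0 (t / t₀) (div_ne_zero ht ht₀) ∈ Subgroup.zpowers ω⁻¹ by
          rw [Subgroup.zpowers_inv]; exact hω _)
      have hall : ∀ k : ℕ, ((ω⁻¹ ^ k : Fˣ) : F) * t₀ ∈ S 1 (1 + 1) := by
        intro k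
        induction k with
        | zero => simpa using ht₀S
        | succ k ih =>
          have := hscale _ ih
          rwa [← mul_assoc, ← Units.val_mul, ← pow_succ'] at this
      have := hall k
      simp only at hk
      rwa [hk, Units.val_mk0, div_mul_cancel₀ _ ht₀] at this
  have hadj : ∀ (i : Fin (n + 4)) t, tv i (i + 1) (hne i) t ∈ H := by
    have : ∀ (l : ℕ) t, t ∈ S (1 + (l : Fin (n + 4))) (1 + (l : Fin (n + 4)) + 1) := by
      intro l
      induction l with
      | zero => simpa only [Nat.cast_zero, add_zero] using hfull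
      | succ l ih =>
        intro t
        set i := (1 : Fin (n + 4)) + (l : Fin (n + 4)) with hi
        have := hstep i (i + 1) (hne i) (t * s (i + 1) * (s i)⁻¹) (ih _)
        rw [show t * s (i + 1) * (s i)⁻¹ * s i * (s (i + 1))⁻¹ = t by field_simp [hs0], hsucc, hsucc] at this
        rwa [Nat.cast_succ, ← add_assoc, ← hi]
    intro i t
    have h := this ((i - 1 : Fin (n + 4)) : ℕ) t
    rw [show (1 : Fin (n + 4)) + (((i - 1 : Fin (n + 4)) : ℕ) : Fin (n + 4)) = i by
      rw [Fin.cast_val_eq_self]; abel] at h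
    exact h (hne i)
  refine GL.SL_eq_top_of_transvection_mem fun i j hij t => ?_
  have hall : ∀ (l : ℕ) (i j : Fin (n + 4)) (h : i ≠ j), j = i + (l : Fin (n + 4)) → l < n + 4 →
      ∀ t, tv i j h t ∈ H := by
    intro l
    induction l with
    | zero => intro i j h he _; exact absurd (by simpa using he) h.symm
    | succ l ih =>
      intro i j h he hl t
      rcases Nat.eq_zero_or_pos l with rfl | hl0
      · rw [zero_add, Nat.cast_one] at he
        subst he
        exact hadj i t
      · set k := i + (l : Fin (n + 4))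
        have hik : i ≠ k := fun e => by
          have e' : ((l : Fin (n + 4)) : ℕ) = 0 := by
            rw [left_eq_add.1 e]; rfl
          rw [Fin.val_natCast, Nat.mod_eq_of_lt (by omega)] at e'
          omega
        have hkj : j = k + 1 := by rw [he, Nat.cast_succ, ← add_assoc]
        subst hkj
        have e : tv i k hik t * tv k (k + 1) (hne k) 1 * (tv i k hik t)⁻¹ * (tv k (k + 1) (hne k) 1)⁻¹ =
            tv i (k + 1) h t := by
          rw [mul_inv_eq_iff_eq_mul, mul_inv_eq_iff_eq_mul]
          refine Subtype.ext ?_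
          show _ * _ = _ * _ * _
          simp only [htv, mul_add, add_mul, one_mul, mul_one, single_mul_single_same,
            single_mul_single_of_ne _ _ _ _ (hne k).symm, single_mul_single_of_ne _ _ _ _ hik.symm,
            single_mul_single_of_ne _ _ _ _ h.symm, Matrix.zero_mul, add_zero, zero_add]
          abel
        rw [← e]
        exact mul_mem (mul_mem (mul_mem (ih i k hik rfl (by omega) t) (hadj k 1))
          (inv_mem (ih i k hik rfl (by omega) t))) (inv_mem (hadj k 1))
  exact hall ((j - i : Fin (n + 4)) : ℕ) i j hij (by rw [Fin.cast_val_eq_self]; abel) (j - i).isLt t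

theorem psl_presentation (n : ℕ) (hn : 2 ≤ n) (h2 : n = 2 → 4 ≤ Fintype.card F) :
    ∃ rels : Finset (FreeGroup (Fin 2)), rels.card ≤ 80 ∧
      Nonempty (PresentedGroup (↑rels : Set (FreeGroup (Fin 2))) ≃* ProjectiveSpecialLinearGroup (Fin n) F) := by
  have : NeZero n := ⟨by omega⟩
  have hpair : ∃ a b : SpecialLinearGroup (Fin n) F,
      Subgroup.closure ({a, b} : Set (SpecialLinearGroup (Fin n) F)) = ⊤ := by
    rcases (show n = 2 ∨ n = 3 ∨ 4 ≤ n by omega) with h | h | h
    · subst h; exact two_gen_two (h2 rfl)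
    · subst h
      obtain ⟨u, g, -, -, hc⟩ := Cfsg.Agent.S2278.result (F := F)
      exact ⟨u, g * u * g⁻¹, hc⟩
    · obtain ⟨k, rfl⟩ := Nat.exists_eq_add_of_le h
      rw [add_comm]; exact two_gen_large k
  have hpres : Pres (ProjectiveSpecialLinearGroup (Fin n) F) 70 := by
    rcases (show n = 2 ∨ 3 ≤ n by omega) with h | h
    · subst h
      obtain ⟨rels, hr, ⟨e⟩⟩ := (Cfsg.Agent.S2286.result (F := F)).2.1
      exact (Pres.of_presented hr e).mono (by norm_num)
    · obtain ⟨k, rfl⟩ := Nat.exists_eq_add_of_le h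
      have hsl : Pres (SpecialLinearGroup (Fin (3 + k)) F) 69 :=
        (sl_pres (F := F) (m := k + 1)).of_equiv
          (slReindex (finSumFinEquiv.trans (finCongr (by omega))))
      obtain ⟨z, hz⟩ := exists_normalClosure_center (isCyclic_center (F := F) (ι := Fin (3 + k)))
      exact hsl.quotient (Subgroup.center _) z hz
  obtain ⟨a, b, hab⟩ := hpair
  obtain ⟨rels, hcard, e, -, -⟩ := hpres.twoGen
    (closure_pair_image (QuotientGroup.mk' (Subgroup.center _)) (QuotientGroup.mk'_surjective _) hab)
  exact ⟨rels, hcard.trans (by norm_num), ⟨e⟩⟩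

end Cfsg.Agent.BoundedPres
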