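import Cfsg.Agent.Lib.BoundedPres.AltGen

/-!
# A seven relator presentation of the alternating group of degree `p + 2`

Generated by the translation, a multiplication by a primitive root and one three-cycle.
-/

set_option autoImplicit false
set_option linter.unusedSectionVars false

namespace Cfsg.Agent.BoundedPres

open Subgroup Equiv

variable {γ : Type*} [Fintype γ] [DecidableEq γ]

/-- The parity correction on the two special points. -/
def parity : ℤˣ →* Perm (Fin 2) where
  toFun e := if e = 1 then 1 else swap 0 1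
  map_one' := by simp
  map_mul' := by decide

theorem sign_parity : ∀ e : ℤˣ, Perm.sign (parity e) = e := by decide

/-- An arbitrary permutation of the free points, corrected to an even one. -/
def lft : Perm γ →* alternatingGroup (Fin 2 ⊕ γ) where
  toFun π := ⟨sumCongr (parity (Perm.sign π)) π, by
    rw [Perm.mem_alternatingGroup, Perm.sign_sumCongr, sign_parity, Int.units_mul_self]⟩
  map_one' := by
    refine Subtype.ext (Equiv.ext fun x => ?_)
    rcases x with x | x <;> simp
  map_mul' π ρ := by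
    refine Subtype.ext (Equiv.ext fun x => ?_)
    rcases x with x | x <;> simp [map_mul]

theorem lft_coe (π : Perm γ) : (lft π : Perm (Fin 2 ⊕ γ)) = sumCongr (parity (Perm.sign π)) π := rfl

theorem lft_conj (π : Perm γ) (v : γ) :
    lft π * gen v * (lft π)⁻¹ = gen (π v) ^ ((Perm.sign π : ℤˣ) : ℤ) := by
  have h := conj_cyc (σ := (lft π : Perm (Fin 2 ⊕ γ))) (v := v) (w := π v) rfl
  refine Subtype.ext ?_
  rw [Subgroup.coe_mul, Subgroup.coe_mul, Subgroup.coe_inv]
  rcases Int.units_eq_one_or (Perm.sign π) with e | e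
  · rw [e, Units.val_one, zpow_one]
    exact h.1 (by simp [lft_coe, e, parity]) (by simp [lft_coe, e, parity])
  · rw [e, Units.val_neg, Units.val_one, zpow_neg_one, Subgroup.coe_inv]
    exact h.2 (by simp [lft_coe, e, parity]) (by simp [lft_coe, e, parity])

theorem zpow_unit_zpow {Q : Type*} [Group Q] (x : Q) (e : ℤˣ) : (x ^ (e : ℤ)) ^ (e : ℤ) = x := by
  rw [← zpow_mul, ← Units.val_mul, Int.units_mul_self, Units.val_one, zpow_one]

theorem zpow_unit_inj {Q : Type*} [Group Q] {x y : Q} (e : ℤˣ) (h : x ^ (e : ℤ) = y ^ (e : ℤ)) : x = y := by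
  rw [← zpow_unit_zpow x e, h, zpow_unit_zpow]

theorem sq_zpow_unit {Q : Type*} [Group Q] {x y : Q} (e : ℤˣ) (h : x * y * (x * y) = 1) :
    x ^ (e : ℤ) * y ^ (e : ℤ) * (x ^ (e : ℤ) * y ^ (e : ℤ)) = 1 := by
  rcases Int.units_eq_one_or e with rfl | rfl
  · simpa using h
  · rw [Units.val_neg, Units.val_one, zpow_neg_one, zpow_neg_one]
    have h2 : y * x * (y * x) = 1 := by
      calc y * x * (y * x) = x⁻¹ * (x * y * (x * y)) * x := by group
        _ = 1 := by rw [h, mul_one, inv_mul_cancel]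
    rw [← _root_.mul_inv_rev, ← _root_.mul_inv_rev, h2, inv_one]

theorem conj_sq {Q : Type*} [Group Q] {x y : Q} (g : Q) (h : x * y * (x * y) = 1) :
    g * x * g⁻¹ * (g * y * g⁻¹) * (g * x * g⁻¹ * (g * y * g⁻¹)) = 1 := by
  calc g * x * g⁻¹ * (g * y * g⁻¹) * (g * x * g⁻¹ * (g * y * g⁻¹)) = g * (x * y * (x * y)) * g⁻¹ := by group
    _ = 1 := by rw [h, mul_one, mul_inv_cancel]

theorem sign_eq_one_of_pow {π : Perm γ} {n : ℕ} (hn : Odd n) (h : π ^ n = 1) : Perm.sign π = 1 := by
  have h1 := congrArg Perm.sign h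
  rw [map_pow, map_one] at h1
  obtain ⟨k, rfl⟩ := hn
  rwa [pow_succ, pow_mul, Int.units_sq, one_pow, one_mul] at h1

theorem addRight_pow {p : ℕ} (k : ℕ) :
    (Equiv.addRight (1 : ZMod p)) ^ k = Equiv.addRight (k : ZMod p) := by
  induction k with
  | zero => ext x; simp
  | succ k ih => ext x; simp [pow_succ, Perm.mul_apply, ih, add_assoc, add_comm (1 : ZMod p)]

theorem sign_addRight {p : ℕ} [Fact p.Prime] (hp : p ≠ 2) :
    Perm.sign (Equiv.addRight (1 : ZMod p)) = 1 :=
  sign_eq_one_of_pow ((Fact.out : p.Prime).odd_of_ne_two hp) (by rw [addRight_pow, ZMod.natCast_self]; ext x; simp)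

/-- The translation. -/
def transl (p : ℕ) [Fact p.Prime] : alternatingGroup (Fin 2 ⊕ ZMod p) := lft (Equiv.addRight 1)

theorem transl_pow {p : ℕ} [Fact p.Prime] (hp : p ≠ 2) (k : ℕ) (v : ZMod p) :
    transl p ^ k * gen v * (transl p ^ k)⁻¹ = gen (v + k) := by
  rw [transl, ← map_pow, lft_conj, map_pow, sign_addRight hp, one_pow, Units.val_one, zpow_one,
    addRight_pow]
  rfl

theorem piece_pres (p : ℕ) [Fact p.Prime] (hp : p ≠ 2) :
    Pres (alternatingGroup (Fin 2 ⊕ ZMod p)) 7 := by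
  classical
  obtain ⟨r, hr⟩ := IsCyclic.exists_generator (α := (ZMod p)ˣ)
  set A := transl p with hA
  set μ : Perm (ZMod p) := Units.mulLeft r with hμ
  set e : ℤˣ := Perm.sign μ
  set B := lft μ
  set X : alternatingGroup (Fin 2 ⊕ ZMod p) := gen (0 : ZMod p)
  set a : FreeGroup (Fin 3) := FreeGroup.of 0
  set b : FreeGroup (Fin 3) := FreeGroup.of 1
  set x : FreeGroup (Fin 3) := FreeGroup.of 2
  let Xw : ZMod p → FreeGroup (Fin 3) := fun i => a ^ i.val * x * (a ^ i.val)⁻¹
  have hXw : ∀ i, FreeGroup.lift ![A, B, X] (Xw i) = gen i := fun i => by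
    simp only [Xw, a, x, map_mul, map_pow, map_inv, FreeGroup.lift_apply_of]
    show A ^ i.val * gen 0 * (A ^ i.val)⁻¹ = gen i
    rw [hA, transl_pow hp, zero_add, ZMod.natCast_zmod_val]
  have hgenX : ∀ u, FreeGroup.lift ![A, B, X] (FreeGroup.lift Xw u) = FreeGroup.lift gen u := fun u => by
    rw [lift_map]; exact congrArg (FreeGroup.lift · u) (funext hXw)
  obtain ⟨ua, hua⟩ := lift_surjective (closure_gen (β := ZMod p)) A
  obtain ⟨ub, hub⟩ := lift_surjective (closure_gen (β := ZMod p)) B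
  refine Pres.of_card (g := ![A, B, X]) (R := [a ^ p, x * x * x,
      b * a * b⁻¹ * (a ^ (r : ZMod p).val)⁻¹, b * x * b⁻¹ * (x ^ (e : ℤ))⁻¹,
      x * (a * x * a⁻¹) * (x * (a * x * a⁻¹)),
      a⁻¹ * FreeGroup.lift Xw ua, b⁻¹ * FreeGroup.lift Xw ub]) le_rfl ?_ ?_ ?_
  · rw [eq_top_iff, ← closure_gen, Subgroup.closure_le]
    rintro _ ⟨v, rfl⟩
    rw [← hXw v]
    rw [← FreeGroup.range_lift_eq_closure]
    exact ⟨Xw v, rfl⟩
  · have hAp : A ^ p = 1 := by
      rw [hA, transl, ← map_pow, addRight_pow, ZMod.natCast_self,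
        show (Equiv.addRight (0 : ZMod p)) = 1 from Equiv.ext fun y => add_zero y, map_one]
    simp only [List.forall_mem_cons, List.not_mem_nil, IsEmpty.forall_iff, implies_true, and_true,
      a, b, x, map_mul, map_pow, map_inv, map_zpow, FreeGroup.lift_apply_of, hgenX, hua, hub]
    refine ⟨hAp, gen_mul_mul 0, ?_, ?_, ?_, inv_mul_cancel _, inv_mul_cancel _⟩
    · rw [mul_inv_eq_one]
      show B * A * B⁻¹ = A ^ (r : ZMod p).val
      rw [hA, transl, show B = lft μ from rfl, ← map_inv, ← map_mul, ← map_mul, ← map_pow,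
        addRight_pow, ZMod.natCast_zmod_val]
      congr 1
      ext y
      show μ (μ⁻¹ y + 1) = y + (r : ZMod p)
      have hμa : ∀ z, μ z = (r : ZMod p) * z := fun z => by simp [μ]
      have h2 : (r : ZMod p) * μ⁻¹ y = y := by rw [← hμa, ← Perm.mul_apply, mul_inv_cancel, Perm.one_apply]
      rw [hμa, mul_add, mul_one, h2]
    · rw [mul_inv_eq_one]
      show B * X * B⁻¹ = X ^ (e : ℤ)
      rw [lft_conj]
      simp [μ, X, e]
    · have := hXw (1 : ZMod p)
      simp only [Xw, ZMod.val_one, pow_one, a, x, map_mul, map_inv, FreeGroup.lift_apply_of] at this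
      show X * (A * X * A⁻¹) * (X * (A * X * A⁻¹)) = 1
      rw [show A * X * A⁻¹ = gen 1 from this]
      exact gen_mul_sq zero_ne_one
  · intro Q _ g' hgen' hrel
    simp only [List.forall_mem_cons, List.not_mem_nil, IsEmpty.forall_iff, implies_true, and_true,
      a, b, x, map_mul, map_pow, map_inv, map_zpow, FreeGroup.lift_apply_of, lift_map] at hrel
    obtain ⟨hap, hx3, hba, hbx, hx1, ha, hb⟩ := hrel
    rw [mul_inv_eq_one] at hba hbx
    rw [inv_mul_eq_one] at ha hb
    set aQ := g' 0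
    set bQ := g' 1
    set xQ := g' 2
    let Y : ZMod p → Q := fun i => aQ ^ i.val * xQ * (aQ ^ i.val)⁻¹
    have hY : (FreeGroup.lift g') ∘ Xw = Y := funext fun i => by simp [Y, Xw, a, x, aQ, xQ]
    rw [hY] at ha hb
    have hYk : ∀ k : ℕ, aQ ^ k * xQ * (aQ ^ k)⁻¹ = Y (k : ZMod p) := fun k => by
      have e1 : aQ ^ k = aQ ^ (k % p) := by
        nth_rewrite 1 [← Nat.mod_add_div k p]
        rw [pow_add, pow_mul, hap, one_pow, mul_one]
      simp only [Y, ZMod.val_natCast, ← e1]
    have hY0 : Y 0 = xQ := by simp [Y]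
    have hshift : ∀ (k : ℕ) (i : ZMod p), aQ ^ k * Y i * (aQ ^ k)⁻¹ = Y (i + k) := fun k i => by
      rw [show i + (k : ZMod p) = ((k + i.val : ℕ) : ZMod p) by push_cast; rw [ZMod.natCast_zmod_val]; ring,
        ← hYk, pow_add]
      simp only [Y]
      group
    have hbY : ∀ i, bQ * Y i * bQ⁻¹ = Y ((r : ZMod p) * i) ^ (e : ℤ) := fun i => by
      have h1 : bQ * aQ ^ i.val * bQ⁻¹ = aQ ^ ((r : ZMod p).val * i.val) := by
        rw [← conj_pow, hba, ← pow_mul]
      rw [show (r : ZMod p) * i = (((r : ZMod p).val * i.val : ℕ) : ZMod p) by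
        push_cast; rw [ZMod.natCast_zmod_val, ZMod.natCast_zmod_val], ← hYk, conj_zpow, ← hbx, ← h1]
      simp only [Y]
      group
    have hd : ∀ d : ZMod p, d ≠ 0 → xQ * Y d * (xQ * Y d) = 1 := by
      intro d hd0
      obtain ⟨k, hk⟩ := mem_powers_iff_mem_zpowers.2 (hr (Units.mk0 d hd0))
      have hk' : d = (r : ZMod p) ^ k := by
        have := congrArg Units.val hk
        simpa using this.symm
      subst hk'
      clear hd0 hk
      induction k with
      | zero => simpa [Y, ZMod.val_one] using hx1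
      | succ k ih =>
        have := sq_zpow_unit e (conj_sq bQ ih)
        rwa [hbx, hbY, zpow_unit_zpow, zpow_unit_zpow, ← pow_succ'] at this
    refine finite_of_carmichael Y (fun i => ?_) (fun i j hij => ?_) ?_
    · calc Y i * Y i * Y i = aQ ^ i.val * (xQ * xQ * xQ) * (aQ ^ i.val)⁻¹ := by simp only [Y]; group
        _ = 1 := by rw [hx3, mul_one, mul_inv_cancel]
    · have h := conj_sq (aQ ^ i.val) (hd (j - i) (sub_ne_zero.2 hij.symm))
      rw [hshift, ZMod.natCast_zmod_val, sub_add_cancel] at h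
      nth_rewrite 1 [← hY0] at h
      rw [← hY0, hshift, ZMod.natCast_zmod_val, zero_add] at h
      exact h
    · rw [eq_top_iff, ← hgen', Subgroup.closure_le]
      have hmem : ∀ u, FreeGroup.lift Y u ∈ Subgroup.closure (Set.range Y) := fun u => by
        rw [← FreeGroup.range_lift_eq_closure]; exact ⟨u, rfl⟩
      rintro _ ⟨i, rfl⟩
      fin_cases i
      · show aQ ∈ Subgroup.closure (Set.range Y)
        rw [ha]; exact hmem ua
      · show bQ ∈ Subgroup.closure (Set.range Y)
        rw [hb]; exact hmem ub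
      · exact Subgroup.subset_closure ⟨0, hY0⟩

end Cfsg.Agent.BoundedPres
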