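import Cfsg.Agent.Lib.BoundedPres.SLModel
import Cfsg.Agent.Lib.SL2Presentation.SteinbergNCard

/-!
# The forty relators and the order bound

`relList a l` are the relators tying a copy of the alternating group (`a`) to one of `SL₂` (`l`).
Groups generated by the two copies and satisfying them satisfy Steinberg's relations.
-/

set_option autoImplicit false
set_option linter.unusedSectionVars false

namespace Cfsg.Agent.BoundedPres

open Equiv Matrix SL2Presentation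
open scoped MatrixGroups

variable {F : Type*} [Field F] {m : ℕ}


/-- A permutation moving the special points to `i`, `j`. -/
def mv (i j : (Fin 2 ⊕ Fin m)) : Perm (Fin 2 ⊕ Fin m) := swap (swap (Sum.inl 0 : Fin 2 ⊕ Fin m) i (Sum.inl 1 : Fin 2 ⊕ Fin m)) j * swap (Sum.inl 0 : Fin 2 ⊕ Fin m) i

theorem mv_left {i j : (Fin 2 ⊕ Fin m)} (h : i ≠ j) : mv i j (Sum.inl 0 : Fin 2 ⊕ Fin m) = i := by
  rw [mv, Perm.mul_apply, swap_apply_left, swap_apply_of_ne_of_ne ?_ h]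
  intro he
  have := congrArg (swap (Sum.inl 0 : Fin 2 ⊕ Fin m) i) he
  rw [swap_apply_self, swap_apply_right] at this
  exact absurd this (by simp)

theorem mv_right (i j : (Fin 2 ⊕ Fin m)) : mv i j (Sum.inl 1 : Fin 2 ⊕ Fin m) = j := by rw [mv, Perm.mul_apply, swap_apply_left]

/-- Copy of `SL₂` at `σ`, for bare functions. -/
def psiF {X : Type*} [Group X] (a : alternatingGroup (Fin 2 ⊕ Fin m) → X) (l : SL(2, F) → X) (σ : Perm (Fin 2 ⊕ Fin m))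
    (A : SL(2, F)) : X :=
  a (ev σ) * l (swp (Perm.sign σ) A) * (a (ev σ))⁻¹

/-- Copy of `SL₂` at an ordered pair, for bare functions. -/
def LF {X : Type*} [Group X] (a : alternatingGroup (Fin 2 ⊕ Fin m) → X) (l : SL(2, F) → X) (i j : (Fin 2 ⊕ Fin m))
    (A : SL(2, F)) : X := psiF a l (mv i j) A

theorem map_LF {X Y : Type*} [Group X] [Group Y] (f : X →* Y) (a : alternatingGroup (Fin 2 ⊕ Fin m) → X)
    (l : SL(2, F) → X) (i j : (Fin 2 ⊕ Fin m)) (A : SL(2, F)) : f (LF a l i j A) = LF (f ∘ a) (f ∘ l) i j A := by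
  simp [LF, psiF]

variable [NeZero m]

/-- The third base point. -/
def c₀ : (Fin 2 ⊕ Fin m) := Sum.inr 0

/-- The relators. -/
def relList {X : Type*} [Group X] (ω : Fˣ) (a : alternatingGroup (Fin 2 ⊕ Fin m) → X) (l : SL(2, F) → X) : List X :=
  ([finRotate m, swap 0 (finRotate m 0)].flatMap fun π => (gens ω).map fun A =>
      a (lft π) * l A * (a (lft π))⁻¹ * (l (swp (Perm.sign π) A))⁻¹) ++
  ((gens ω).map fun A => LF a l (Sum.inl 0 : Fin 2 ⊕ Fin m) (Sum.inl 1 : Fin 2 ⊕ Fin m) (dL ω) * LF a l (Sum.inl 1 : Fin 2 ⊕ Fin m) c₀ A * (LF a l (Sum.inl 0 : Fin 2 ⊕ Fin m) (Sum.inl 1 : Fin 2 ⊕ Fin m) (dL ω))⁻¹ *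
      (LF a l (Sum.inl 1 : Fin 2 ⊕ Fin m) c₀ (dg ω⁻¹ A))⁻¹) ++
  ((gens ω).map fun A => LF a l (Sum.inl 0 : Fin 2 ⊕ Fin m) (Sum.inl 1 : Fin 2 ⊕ Fin m) (dL ω) * LF a l (Sum.inl 0 : Fin 2 ⊕ Fin m) c₀ A * (LF a l (Sum.inl 0 : Fin 2 ⊕ Fin m) (Sum.inl 1 : Fin 2 ⊕ Fin m) (dL ω))⁻¹ *
      (LF a l (Sum.inl 0 : Fin 2 ⊕ Fin m) c₀ (dg ω A))⁻¹) ++
  ([((Sum.inl 0 : Fin 2 ⊕ Fin m), (Sum.inl 1 : Fin 2 ⊕ Fin m)), ((Sum.inl 1 : Fin 2 ⊕ Fin m), (Sum.inl 0 : Fin 2 ⊕ Fin m))].flatMap fun ij => ([0, 1, 2].flatMap fun k : ℕ =>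
      [LF a l ij.1 ij.2 (uL 1) * LF a l ij.2 c₀ (uL ((ω : F) ^ k)) *
          (LF a l ij.1 c₀ (uL ((ω : F) ^ k)) * LF a l ij.2 c₀ (uL ((ω : F) ^ k)) * LF a l ij.1 ij.2 (uL 1))⁻¹,
        LF a l ij.1 ij.2 (uL 1) * LF a l ij.1 c₀ (uL ((ω : F) ^ k)) *
          (LF a l ij.1 c₀ (uL ((ω : F) ^ k)) * LF a l ij.1 ij.2 (uL 1))⁻¹,
        LF a l ij.1 ij.2 (uL 1) * LF a l c₀ ij.2 (uL ((ω : F) ^ k)) *
          (LF a l c₀ ij.2 (uL ((ω : F) ^ k)) * LF a l ij.1 ij.2 (uL 1))⁻¹])) ++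
  (if h : 2 ≤ m then (gens ω).flatMap fun A => (gens ω).map fun B =>
      LF a l (Sum.inl 0 : Fin 2 ⊕ Fin m) (Sum.inl 1 : Fin 2 ⊕ Fin m) A * LF a l c₀ (Sum.inr ⟨1, h⟩) B *
        (LF a l c₀ (Sum.inr ⟨1, h⟩) B * LF a l (Sum.inl 0 : Fin 2 ⊕ Fin m) (Sum.inl 1 : Fin 2 ⊕ Fin m) A)⁻¹
    else []) ++
  [a (gen 0) * (LF a l (Sum.inl 0 : Fin 2 ⊕ Fin m) (Sum.inl 1 : Fin 2 ⊕ Fin m) tL⁻¹ * LF a l (Sum.inl 1 : Fin 2 ⊕ Fin m) c₀ tL⁻¹)⁻¹]

theorem length_relList {X : Type*} [Group X] (ω : Fˣ) (a : alternatingGroup (Fin 2 ⊕ Fin m) → X) (l : SL(2, F) → X) :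
    (relList ω a l).length ≤ 40 := by
  unfold relList
  split_ifs <;> simp [gens]

theorem map_relList {X Y : Type*} [Group X] [Group Y] (f : X →* Y) (ω : Fˣ)
    (a : alternatingGroup (Fin 2 ⊕ Fin m) → X) (l : SL(2, F) → X) :
    (relList ω a l).map f = relList ω (f ∘ a) (f ∘ l) := by
  unfold relList
  split_ifs <;> simp [gens, map_LF]

theorem exists_perm_three {n : ℕ} (i j k : Fin 2 ⊕ Fin n) (c : Fin 2 ⊕ Fin n) (hc0 : c ≠ Sum.inl 0) (hc1 : c ≠ Sum.inl 1)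
    (hij : i ≠ j) (hik : i ≠ k) (hjk : j ≠ k) :
    ∃ σ : Perm (Fin 2 ⊕ Fin n), σ (Sum.inl 0) = i ∧ σ (Sum.inl 1) = j ∧ σ c = k := by
  refine ⟨swap (mv i j c) k * mv i j, ?_, ?_, ?_⟩
  · rw [Perm.mul_apply, mv_left hij, swap_apply_of_ne_of_ne ?_ hik]
    intro h
    exact hc0 ((mv i j).injective (h.symm.trans (mv_left hij).symm))
  · rw [Perm.mul_apply, mv_right, swap_apply_of_ne_of_ne ?_ hjk]
    intro h
    exact hc1 ((mv i j).injective (h.symm.trans (mv_right i j).symm))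
  · rw [Perm.mul_apply, swap_apply_left]

/-- An `A_n`-invariant property of triples holds everywhere once it holds at the two base triples. -/
theorem triple_ind {P : (Fin 2 ⊕ Fin m) → (Fin 2 ⊕ Fin m) → (Fin 2 ⊕ Fin m) → Prop}
    (hinv : ∀ (ρ : alternatingGroup (Fin 2 ⊕ Fin m)) i j k, P i j k →
      P ((ρ : Perm (Fin 2 ⊕ Fin m)) i) ((ρ : Perm (Fin 2 ⊕ Fin m)) j) ((ρ : Perm (Fin 2 ⊕ Fin m)) k))
    (h1 : P (Sum.inl 0 : Fin 2 ⊕ Fin m) (Sum.inl 1 : Fin 2 ⊕ Fin m) c₀) (h2 : P (Sum.inl 1 : Fin 2 ⊕ Fin m) (Sum.inl 0 : Fin 2 ⊕ Fin m) c₀) {i j k : (Fin 2 ⊕ Fin m)} (hij : i ≠ j) (hik : i ≠ k) (hjk : j ≠ k) :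
    P i j k := by
  obtain ⟨σ, h0, hβ, hc⟩ := exists_perm_three i j k c₀ (by simp [c₀]) (by simp [c₀]) hij hik hjk
  rcases Int.units_eq_one_or (Perm.sign σ) with he | he
  · have := hinv ⟨σ, he⟩ _ _ _ h1
    simp only at this
    rwa [h0, hβ, hc] at this
  · have := hinv ⟨σ * swapAB, by rw [Perm.mem_alternatingGroup, map_mul, he, sign_swapAB]; decide⟩ _ _ _ h2
    simp only [Perm.mul_apply, swapAB, swap_apply_left, swap_apply_right] at this
    rwa [c₀, swap_apply_of_ne_of_ne (by simp) (by simp), ← c₀, h0, hβ, hc] at this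

section Bound

variable [Fintype F] {Q : Type*} [Group Q] (a : alternatingGroup (Fin 2 ⊕ Fin m) →* Q) (φ : SL(2, F) →* Q) (ω : Fˣ)

/-- The copy of `SL₂` at an ordered pair. -/
def L (i j : (Fin 2 ⊕ Fin m)) : SL(2, F) →* Q := psi a φ (mv i j)

theorem LF_eq (i j : (Fin 2 ⊕ Fin m)) (A : SL(2, F)) : LF a φ i j A = L a φ i j A := rfl

variable {a φ ω}
variable (hω : ∀ c : Fˣ, c ∈ Subgroup.zpowers ω) (hG : ∀ x ∈ relList ω a φ, x = 1)
include hω hG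

theorem stab (π : Perm (Fin m)) (A : SL(2, F)) :
    a (lft π) * φ A * (a (lft π))⁻¹ = φ (swp (Perm.sign π) A) := by
  let S : Submonoid (Perm (Fin m)) :=
    { carrier := {π | ∀ A, a (lft π) * φ A * (a (lft π))⁻¹ = φ (swp (Perm.sign π) A)}
      one_mem' := fun A => by simp [swp]
      mul_mem' := fun {π ρ} hπ hρ A => by
        rw [map_mul, map_mul, show a (lft π) * a (lft ρ) * φ A * (a (lft π) * a (lft ρ))⁻¹ =
          a (lft π) * (a (lft ρ) * φ A * (a (lft ρ))⁻¹) * (a (lft π))⁻¹ by group, hρ, hπ, map_mul]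
        rcases Int.units_eq_one_or (Perm.sign π) with h | h <;>
          rcases Int.units_eq_one_or (Perm.sign ρ) with h' | h' <;> simp [h, h', swp, sw_sw] }
  have hgen : ∀ π ∈ [finRotate m, swap 0 (finRotate m 0)], π ∈ S := by
    intro π hπ
    have e : (MulAut.conj (a (lft π))).toMonoidHom.comp φ = φ.comp (swp (Perm.sign π)) := by
      refine hom_ext_gens ω hω fun A hA => mul_inv_eq_one.1 (hG _ ?_)
      unfold relList
      simp only [List.mem_append, List.mem_flatMap, List.mem_map]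
      exact Or.inl (Or.inl (Or.inl (Or.inl (Or.inl ⟨π, hπ, A, hA, rfl⟩))))
    exact fun A => DFunLike.congr_fun e A
  have htop : Subgroup.closure {π : Perm (Fin m) | π ∈ [finRotate m, swap 0 (finRotate m 0)]} = ⊤ := by
    obtain ⟨m', rfl⟩ : ∃ m', m = m' + 1 := ⟨m - 1, by have := NeZero.ne m; omega⟩
    rcases m' with _ | m'
    · refine Subgroup.ext fun x => ?_
      rw [show x = 1 from Equiv.ext fun i => Fin.ext (by omega)]
      simp
    · rw [eq_top_iff, ← Perm.closure_cycle_adjacent_swap (isCycle_finRotate (n := m')) support_finRotate 0]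
      refine Subgroup.closure_mono fun x hx => ?_
      simpa using hx
  have : π ∈ S := by
    have hmem : π ∈ Subgroup.closure {π : Perm (Fin m) | π ∈ [finRotate m, swap 0 (finRotate m 0)]} :=
      htop ▸ Subgroup.mem_top _
    rw [← Subgroup.mem_toSubmonoid, Subgroup.closure_toSubmonoid_of_finite] at hmem
    exact (Submonoid.closure_le.2 fun x hx => hgen x hx) hmem
  exact this A

theorem psi_fix {σ : Perm (Fin 2 ⊕ Fin m)} (h0 : σ (Sum.inl 0 : Fin 2 ⊕ Fin m) = (Sum.inl 0 : Fin 2 ⊕ Fin m)) (h1 : σ (Sum.inl 1 : Fin 2 ⊕ Fin m) = (Sum.inl 1 : Fin 2 ⊕ Fin m)) (A : SL(2, F)) : psi a φ σ A = φ A := by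
  obtain ⟨⟨τ, π⟩, rfl⟩ := Perm.mem_sumCongrHom_range_of_perm_mapsTo_inl (σ := σ) (by
    rintro _ ⟨x, rfl⟩
    fin_cases x
    · exact ⟨0, h0.symm⟩
    · exact ⟨1, h1.symm⟩)
  have hτ : τ = 1 := by
    ext x
    fin_cases x
    · exact congrArg Fin.val (Sum.inl_injective h0)
    · exact congrArg Fin.val (Sum.inl_injective h1)
  subst hτ
  have hs : Perm.sign (Perm.sumCongrHom (Fin 2) (Fin m) (1, π)) = Perm.sign π := by
    show Perm.sign (sumCongr 1 π) = _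
    rw [Perm.sign_sumCongr, map_one, one_mul]
  have hev : ev (Perm.sumCongrHom (Fin 2) (Fin m) (1, π)) = lft π := by
    refine Subtype.ext ?_
    show sumCongr 1 π * tw (Perm.sign (Perm.sumCongrHom (Fin 2) (Fin m) (1, π))) = sumCongr (parity (Perm.sign π)) π
    rw [hs]
    show sumCongr 1 π * sumCongr (parity (Perm.sign π)) 1 = _
    rw [Perm.sumCongr_mul, one_mul, mul_one]
  rw [psi_apply, hev, hs, stab hω hG, swp_swp]

theorem psi_congr {σ τ : Perm (Fin 2 ⊕ Fin m)} (h0 : σ (Sum.inl 0 : Fin 2 ⊕ Fin m) = τ (Sum.inl 0 : Fin 2 ⊕ Fin m)) (h1 : σ (Sum.inl 1 : Fin 2 ⊕ Fin m) = τ (Sum.inl 1 : Fin 2 ⊕ Fin m)) (A : SL(2, F)) :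
    psi a φ σ A = psi a φ τ A := by
  have hfix : ∀ B, psi a φ (τ⁻¹ * σ) B = φ B := fun B => psi_fix hω hG
    (by rw [Perm.mul_apply, h0, ← Perm.mul_apply, inv_mul_cancel, Perm.one_apply])
    (by rw [Perm.mul_apply, h1, ← Perm.mul_apply, inv_mul_cancel, Perm.one_apply]) B
  rcases Int.units_eq_one_or (Perm.sign τ) with he | he
  · have e : σ = ((⟨τ, he⟩ : alternatingGroup (Fin 2 ⊕ Fin m)) : Perm (Fin 2 ⊕ Fin m)) * (τ⁻¹ * σ) := by simp
    conv_lhs => rw [e, psi_mul, hfix]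
    conv_rhs => rw [show τ = ((⟨τ, he⟩ : alternatingGroup (Fin 2 ⊕ Fin m)) : Perm (Fin 2 ⊕ Fin m)) * 1 by simp, psi_mul, psi_one]
  · set ρ : alternatingGroup (Fin 2 ⊕ Fin m) := ⟨τ * swapAB, by
      rw [Perm.mem_alternatingGroup, map_mul, he, sign_swapAB]; decide⟩
    have hτ : τ = (ρ : Perm (Fin 2 ⊕ Fin m)) * 1 * swapAB := by
      show τ = τ * swapAB * 1 * swapAB
      rw [mul_one, mul_assoc, swapAB_mul_self, mul_one]
    set δ := τ⁻¹ * σ
    have hcomm : swapAB * δ = δ * swapAB := by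
      rw [show δ * swapAB = δ * swap (Sum.inl 0 : Fin 2 ⊕ Fin m) (Sum.inl 1 : Fin 2 ⊕ Fin m) from rfl, mul_swap_eq_swap_mul,
        show δ (Sum.inl 0 : Fin 2 ⊕ Fin m) = (Sum.inl 0 : Fin 2 ⊕ Fin m) by simp [δ, h0], show δ (Sum.inl 1 : Fin 2 ⊕ Fin m) = (Sum.inl 1 : Fin 2 ⊕ Fin m) by simp [δ, h1]]
      rfl
    have e : σ = (ρ : Perm (Fin 2 ⊕ Fin m)) * δ * swapAB := by
      show σ = τ * swapAB * δ * swapAB
      rw [mul_assoc (τ * swapAB), ← hcomm, ← mul_assoc, mul_assoc τ, swapAB_mul_self, mul_one]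
      simp [δ]
    conv_lhs => rw [e, psi_mul_swapAB, psi_mul, hfix]
    conv_rhs => rw [hτ, psi_mul_swapAB, psi_mul, psi_one]

theorem L_eq {σ : Perm (Fin 2 ⊕ Fin m)} {i j : (Fin 2 ⊕ Fin m)} (hij : i ≠ j) (h0 : σ (Sum.inl 0 : Fin 2 ⊕ Fin m) = i) (h1 : σ (Sum.inl 1 : Fin 2 ⊕ Fin m) = j) (A : SL(2, F)) :
    L a φ i j A = psi a φ σ A :=
  psi_congr hω hG (by rw [mv_left hij, h0]) (by rw [mv_right, h1]) A

theorem L_swap {i j : (Fin 2 ⊕ Fin m)} (hij : i ≠ j) (A : SL(2, F)) : L a φ j i A = L a φ i j (sw A) := by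
  rw [L_eq hω hG hij.symm (σ := mv i j * swapAB) (by simp [swapAB, mv_right])
    (by simp [swapAB, mv_left hij]), psi_mul_swapAB]
  rfl

theorem L_conj (ρ : alternatingGroup (Fin 2 ⊕ Fin m)) {i j : (Fin 2 ⊕ Fin m)} (hij : i ≠ j) (A : SL(2, F)) :
    a ρ * L a φ i j A * (a ρ)⁻¹ = L a φ ((ρ : Perm (Fin 2 ⊕ Fin m)) i) ((ρ : Perm (Fin 2 ⊕ Fin m)) j) A := by
  rw [L_eq hω hG ((ρ : Perm (Fin 2 ⊕ Fin m)).injective.ne hij) (σ := (ρ : Perm (Fin 2 ⊕ Fin m)) * mv i j)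
    (by simp [mv_left hij]) (by simp [mv_right]), psi_mul]
  rfl

theorem torus_base (c : Fˣ) (A : SL(2, F)) :
    L a φ (Sum.inl 0 : Fin 2 ⊕ Fin m) (Sum.inl 1 : Fin 2 ⊕ Fin m) (dL c) * L a φ (Sum.inl 1 : Fin 2 ⊕ Fin m) c₀ A * (L a φ (Sum.inl 0 : Fin 2 ⊕ Fin m) (Sum.inl 1 : Fin 2 ⊕ Fin m) (dL c))⁻¹ = L a φ (Sum.inl 1 : Fin 2 ⊕ Fin m) c₀ (dg c⁻¹ A) ∧
      L a φ (Sum.inl 0 : Fin 2 ⊕ Fin m) (Sum.inl 1 : Fin 2 ⊕ Fin m) (dL c) * L a φ (Sum.inl 0 : Fin 2 ⊕ Fin m) c₀ A * (L a φ (Sum.inl 0 : Fin 2 ⊕ Fin m) (Sum.inl 1 : Fin 2 ⊕ Fin m) (dL c))⁻¹ = L a φ (Sum.inl 0 : Fin 2 ⊕ Fin m) c₀ (dg c A) := by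
  set h := L a φ (Sum.inl 0 : Fin 2 ⊕ Fin m) (Sum.inl 1 : Fin 2 ⊕ Fin m)
  have e1 : (MulAut.conj (h (dL ω))).toMonoidHom.comp (L a φ (Sum.inl 1 : Fin 2 ⊕ Fin m) c₀) = (L a φ (Sum.inl 1 : Fin 2 ⊕ Fin m) c₀).comp (dg ω⁻¹) := by
    refine hom_ext_gens ω hω fun A hA => mul_inv_eq_one.1 (hG _ ?_)
    unfold relList
    simp only [List.mem_append, List.mem_flatMap, List.mem_map]
    exact Or.inl (Or.inl (Or.inl (Or.inl (Or.inr ⟨A, hA, rfl⟩))))
  have e2 : (MulAut.conj (h (dL ω))).toMonoidHom.comp (L a φ (Sum.inl 0 : Fin 2 ⊕ Fin m) c₀) = (L a φ (Sum.inl 0 : Fin 2 ⊕ Fin m) c₀).comp (dg ω) := by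
    refine hom_ext_gens ω hω fun A hA => mul_inv_eq_one.1 (hG _ ?_)
    unfold relList
    simp only [List.mem_append, List.mem_flatMap, List.mem_map]
    exact Or.inl (Or.inl (Or.inl (Or.inr ⟨A, hA, rfl⟩)))
  obtain ⟨n, rfl⟩ := mem_powers_iff_mem_zpowers.2 (hω c)
  simp only
  induction n generalizing A with
  | zero => simp [dg_one]
  | succ n ih =>
    have f1 := DFunLike.congr_fun e1 A
    have f2 := DFunLike.congr_fun e2 A
    simp only [MonoidHom.comp_apply, MulEquiv.toMonoidHom_eq_coe, MonoidHom.coe_coe, MulAut.conj_apply] at f1 f2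
    constructor
    · rw [pow_succ, map_mul, map_mul, show h (dL (ω ^ n)) * h (dL ω) * L a φ (Sum.inl 1 : Fin 2 ⊕ Fin m) c₀ A *
        (h (dL (ω ^ n)) * h (dL ω))⁻¹ = h (dL (ω ^ n)) * (h (dL ω) * L a φ (Sum.inl 1 : Fin 2 ⊕ Fin m) c₀ A * (h (dL ω))⁻¹) *
          (h (dL (ω ^ n)))⁻¹ by group, f1, (ih _).1, dg_dg, _root_.mul_inv_rev, mul_comm]
    · rw [pow_succ, map_mul, map_mul, show h (dL (ω ^ n)) * h (dL ω) * L a φ (Sum.inl 0 : Fin 2 ⊕ Fin m) c₀ A *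
        (h (dL (ω ^ n)) * h (dL ω))⁻¹ = h (dL (ω ^ n)) * (h (dL ω) * L a φ (Sum.inl 0 : Fin 2 ⊕ Fin m) c₀ A * (h (dL ω))⁻¹) *
          (h (dL (ω ^ n)))⁻¹ by group, f2, (ih _).2, dg_dg]

/-- The torus element of the pair `i, j` on the roots meeting it. -/
theorem torus {i j k : (Fin 2 ⊕ Fin m)} (hij : i ≠ j) (hik : i ≠ k) (hjk : j ≠ k) (c : Fˣ) (t : F) :
    let h := L a φ i j (dL c)
    h * L a φ j k (uL t) * h⁻¹ = L a φ j k (uL ((c⁻¹ : Fˣ) * t)) ∧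
    h * L a φ k j (uL t) * h⁻¹ = L a φ k j (uL (c * t)) ∧
    h * L a φ i k (uL t) * h⁻¹ = L a φ i k (uL (c * t)) ∧
    h * L a φ k i (uL t) * h⁻¹ = L a φ k i (uL ((c⁻¹ : Fˣ) * t)) := by
  let P : (Fin 2 ⊕ Fin m) → (Fin 2 ⊕ Fin m) → (Fin 2 ⊕ Fin m) → Prop := fun i j k => i ≠ j → i ≠ k → j ≠ k → ∀ (c : Fˣ) (t : F),
    let h := L a φ i j (dL c)
    h * L a φ j k (uL t) * h⁻¹ = L a φ j k (uL ((c⁻¹ : Fˣ) * t)) ∧
    h * L a φ k j (uL t) * h⁻¹ = L a φ k j (uL (c * t)) ∧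
    h * L a φ i k (uL t) * h⁻¹ = L a φ i k (uL (c * t)) ∧
    h * L a φ k i (uL t) * h⁻¹ = L a φ k i (uL ((c⁻¹ : Fˣ) * t))
  have hαβ : (Sum.inl 0 : Fin 2 ⊕ Fin m) ≠ (Sum.inl 1 : Fin 2 ⊕ Fin m) := by simp
  have hαc : (Sum.inl 0 : Fin 2 ⊕ Fin m) ≠ c₀ := by simp [c₀]
  have hβc : (Sum.inl 1 : Fin 2 ⊕ Fin m) ≠ c₀ := by simp [c₀]
  refine triple_ind (P := P) ?_ ?_ ?_ hij hik hjk hij hik hjk c t
  · intro ρ i j k hP h1 h2 h3 c t
    have n1 : i ≠ j := fun h => h1 (congrArg _ h)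
    have n2 : i ≠ k := fun h => h2 (congrArg _ h)
    have n3 : j ≠ k := fun h => h3 (congrArg _ h)
    obtain ⟨p1, p2, p3, p4⟩ := hP n1 n2 n3 c t
    have key : ∀ (x y : (Fin 2 ⊕ Fin m)) (hxy : x ≠ y) (s : F),
        L a φ i j (dL c) * L a φ x y (uL t) * (L a φ i j (dL c))⁻¹ = L a φ x y (uL s) →
        L a φ ((ρ : Perm (Fin 2 ⊕ Fin m)) i) ((ρ : Perm (Fin 2 ⊕ Fin m)) j) (dL c) * L a φ ((ρ : Perm (Fin 2 ⊕ Fin m)) x) ((ρ : Perm (Fin 2 ⊕ Fin m)) y) (uL t) *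
          (L a φ ((ρ : Perm (Fin 2 ⊕ Fin m)) i) ((ρ : Perm (Fin 2 ⊕ Fin m)) j) (dL c))⁻¹ =
          L a φ ((ρ : Perm (Fin 2 ⊕ Fin m)) x) ((ρ : Perm (Fin 2 ⊕ Fin m)) y) (uL s) := by
      intro x y hxy s hs
      rw [← L_conj hω hG ρ n1, ← L_conj hω hG ρ hxy, ← L_conj hω hG ρ hxy, ← hs]
      group
    exact ⟨key j k n3 _ p1, key k j n3.symm _ p2, key i k n2 _ p3, key k i n2.symm _ p4⟩
  · intro _ _ _ c t
    refine ⟨?_, ?_, ?_, ?_⟩
    · rw [(torus_base hω hG c _).1, dg_uL]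
    · rw [L_swap hω hG hβc, L_swap hω hG hβc, (torus_base hω hG c _).1, dg_sw_uL, inv_inv]
    · rw [(torus_base hω hG c _).2, dg_uL]
    · rw [L_swap hω hG hαc, L_swap hω hG hαc, (torus_base hω hG c _).2, dg_sw_uL]
  · intro _ _ _ c t
    have hh : L a φ (Sum.inl 1 : Fin 2 ⊕ Fin m) (Sum.inl 0 : Fin 2 ⊕ Fin m) (dL c) = L a φ (Sum.inl 0 : Fin 2 ⊕ Fin m) (Sum.inl 1 : Fin 2 ⊕ Fin m) (dL c⁻¹) := by rw [L_swap hω hG hαβ, sw_dL]
    simp only [hh]
    refine ⟨?_, ?_, ?_, ?_⟩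
    · rw [(torus_base hω hG c⁻¹ _).2, dg_uL]
    · rw [L_swap hω hG hαc, L_swap hω hG hαc, (torus_base hω hG c⁻¹ _).2, dg_sw_uL, inv_inv]
    · rw [(torus_base hω hG c⁻¹ _).1, dg_uL, inv_inv]
    · rw [L_swap hω hG hβc, L_swap hω hG hβc, (torus_base hω hG c⁻¹ _).1, dg_sw_uL, inv_inv]

theorem self_torus {i j : (Fin 2 ⊕ Fin m)} (c : Fˣ) (t : F) :
    L a φ i j (dL c) * L a φ i j (uL t) * (L a φ i j (dL c))⁻¹ = L a φ i j (uL ((c : F) ^ 2 * t)) := by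
  rw [← map_inv, ← map_mul, ← map_mul, dL_conj]

theorem self_torus' {i j : (Fin 2 ⊕ Fin m)} (hij : i ≠ j) (c : Fˣ) (t : F) :
    L a φ i j (dL c) * L a φ j i (uL t) * (L a φ i j (dL c))⁻¹ =
      L a φ j i (uL (((c⁻¹ : Fˣ) : F) ^ 2 * t)) := by
  rw [show L a φ i j (dL c) = L a φ j i (dL c⁻¹) by rw [L_swap hω hG hij.symm, sw_dL]]
  exact self_torus hω hG _ _

omit hω hG in
theorem cover {P : F → F → Prop} (hω : ∀ c : Fˣ, c ∈ Subgroup.zpowers ω) (f : Fˣ → Fˣ → Fˣ)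
    (hf : ∀ a : Fˣ, ∃ a' : Fˣ, f a' (a' ^ 2) = a ^ 3) (h0 : ∀ t, P 0 t) (h0' : ∀ s, P s 0)
    (hbase : ∀ k : ℕ, k < 3 → P 1 ((ω : F) ^ k))
    (hinv : ∀ (a b : Fˣ) s t, P s t → P ((a ^ 2 * b⁻¹ : Fˣ) * s) ((f a b : Fˣ) * t)) (s t : F) : P s t := by
  rcases eq_or_ne s 0 with rfl | hs
  · exact h0 t
  rcases eq_or_ne t 0 with rfl | ht
  · exact h0' s
  set S := Units.mk0 s hs
  set T := Units.mk0 t ht
  obtain ⟨n, hn⟩ := mem_powers_iff_mem_zpowers.2 (hω (T * (f 1 S⁻¹)⁻¹))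
  obtain ⟨a', ha'⟩ := hf (ω ^ (n / 3))
  have h1 : P 1 (((ω ^ n : Fˣ) : Fˣ) : F) := by
    have := hinv a' (a' ^ 2) 1 _ (hbase (n % 3) (Nat.mod_lt _ (by norm_num)))
    rw [ha', mul_inv_cancel, Units.val_one, one_mul] at this
    rwa [← Units.val_pow_eq_pow_val, ← Units.val_mul, ← pow_mul, ← pow_add,
      show n / 3 * 3 + n % 3 = n from Nat.div_add_mod' n 3] at this
  have := hinv 1 S⁻¹ 1 _ h1
  rw [one_pow, one_mul, inv_inv, mul_one, ← Units.val_mul, show ω ^ n = T * (f 1 S⁻¹)⁻¹ from hn,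
    mul_comm, inv_mul_cancel_right] at this
  exact this

theorem x_zero (i j : (Fin 2 ⊕ Fin m)) : L a φ i j (uL 0) = 1 := by rw [uL_zero, map_one]

theorem relations {i j k : (Fin 2 ⊕ Fin m)} (hij : i ≠ j) (hik : i ≠ k) (hjk : j ≠ k) (s t : F) :
    L a φ i j (uL s) * L a φ j k (uL t) =
        L a φ i k (uL (s * t)) * L a φ j k (uL t) * L a φ i j (uL s) ∧
      L a φ i j (uL s) * L a φ i k (uL t) = L a φ i k (uL t) * L a φ i j (uL s) ∧
      L a φ i j (uL s) * L a φ k j (uL t) = L a φ k j (uL t) * L a φ i j (uL s) := by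
  let P : (Fin 2 ⊕ Fin m) → (Fin 2 ⊕ Fin m) → (Fin 2 ⊕ Fin m) → Prop := fun i j k => i ≠ j → i ≠ k → j ≠ k → ∀ n : ℕ, n < 3 →
    (L a φ i j (uL 1) * L a φ j k (uL ((ω : F) ^ n)) =
        L a φ i k (uL ((ω : F) ^ n)) * L a φ j k (uL ((ω : F) ^ n)) * L a φ i j (uL 1) ∧
      L a φ i j (uL 1) * L a φ i k (uL ((ω : F) ^ n)) = L a φ i k (uL ((ω : F) ^ n)) * L a φ i j (uL 1) ∧
      L a φ i j (uL 1) * L a φ k j (uL ((ω : F) ^ n)) = L a φ k j (uL ((ω : F) ^ n)) * L a φ i j (uL 1))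
  have hbase : ∀ (x y : (Fin 2 ⊕ Fin m)), (x, y) ∈ [((Sum.inl 0 : Fin 2 ⊕ Fin m), (Sum.inl 1 : Fin 2 ⊕ Fin m)), ((Sum.inl 1 : Fin 2 ⊕ Fin m), (Sum.inl 0 : Fin 2 ⊕ Fin m))] → P x y c₀ := by
    intro x y hxy _ _ _ n hn
    have hn' : n ∈ [0, 1, 2] := by interval_cases n <;> simp
    refine ⟨?_, ?_, ?_⟩ <;> refine mul_inv_eq_one.1 (hG _ ?_) <;> unfold relList <;>
      simp only [List.mem_append, List.mem_flatMap] <;>
      refine Or.inl (Or.inl (Or.inr ⟨(x, y), hxy, n, hn', ?_⟩))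
    · exact List.mem_cons_self
    · exact List.mem_cons_of_mem _ List.mem_cons_self
    · exact List.mem_cons_of_mem _ (List.mem_cons_of_mem _ List.mem_cons_self)
  have hP : P i j k := by
    refine triple_ind (P := P) ?_ (hbase _ _ List.mem_cons_self)
      (hbase _ _ (List.mem_cons_of_mem _ List.mem_cons_self)) hij hik hjk
    intro ρ x y z hP h1 h2 h3 n hn
    have n1 : x ≠ y := fun h => h1 (congrArg _ h)
    have n2 : x ≠ z := fun h => h2 (congrArg _ h)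
    have n3 : y ≠ z := fun h => h3 (congrArg _ h)
    obtain ⟨p1, p2, p3⟩ := hP n1 n2 n3 n hn
    simp only [← L_conj hω hG ρ n1, ← L_conj hω hG ρ n2, ← L_conj hω hG ρ n3, ← L_conj hω hG ρ n3.symm,
      conj_mul, p1, p2, p3, and_self]
  -- scaling by the two torus elements
  set H1 := fun c => L a φ i j (dL c)
  set H2 := fun c => L a φ j k (dL c)
  have kij : ∀ (b : Fˣ) (t : F), H2 b * L a φ i j (uL t) * (H2 b)⁻¹ = L a φ i j (uL ((b⁻¹ : Fˣ) * t)) :=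
    fun b t => (torus hω hG hjk hij.symm hik.symm b t).2.2.2
  have kik : ∀ (b : Fˣ) (t : F), H2 b * L a φ i k (uL t) * (H2 b)⁻¹ = L a φ i k (uL (b * t)) :=
    fun b t => (torus hω hG hjk hij.symm hik.symm b t).2.1
  have kjk : ∀ (b : Fˣ) (t : F), H2 b * L a φ j k (uL t) * (H2 b)⁻¹ = L a φ j k (uL ((b : F) ^ 2 * t)) :=
    fun b t => self_torus hω hG b t
  have kkj : ∀ (b : Fˣ) (t : F),
      H2 b * L a φ k j (uL t) * (H2 b)⁻¹ = L a φ k j (uL (((b⁻¹ : Fˣ) : F) ^ 2 * t)) :=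
    fun b t => self_torus' hω hG hjk b t
  have l := fun (c : Fˣ) (t : F) => torus hω hG hij hik hjk c t
  have lij : ∀ (c : Fˣ) (t : F), H1 c * L a φ i j (uL t) * (H1 c)⁻¹ = L a φ i j (uL ((c : F) ^ 2 * t)) :=
    fun c t => self_torus hω hG c t
  refine ⟨?_, ?_, ?_⟩
  · refine cover (P := fun s t => L a φ i j (uL s) * L a φ j k (uL t) =
      L a φ i k (uL (s * t)) * L a φ j k (uL t) * L a φ i j (uL s)) hω (fun a b => b ^ 2 * a⁻¹)
      (fun a => ⟨a, by group⟩) (fun t => by simp [x_zero hω hG]) (fun s => by simp [x_zero hω hG])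
      (fun n hn => by simpa using (hP hij hik hjk n hn).1) (fun c b s t hst => ?_) s t
    have e1 : H2 b * (H1 c * L a φ i j (uL s) * (H1 c)⁻¹) * (H2 b)⁻¹ = L a φ i j (uL ((c ^ 2 * b⁻¹ : Fˣ) * s)) := by
      rw [lij, kij]; congr 2; push_cast; ring
    have e2 : H2 b * (H1 c * L a φ j k (uL t) * (H1 c)⁻¹) * (H2 b)⁻¹ = L a φ j k (uL ((b ^ 2 * c⁻¹ : Fˣ) * t)) := by
      rw [(l c t).1, kjk]; congr 2; push_cast; ring
    have e3 : H2 b * (H1 c * L a φ i k (uL (s * t)) * (H1 c)⁻¹) * (H2 b)⁻¹ =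
        L a φ i k (uL (((c ^ 2 * b⁻¹ : Fˣ) * s) * ((b ^ 2 * c⁻¹ : Fˣ) * t))) := by
      rw [(l c (s * t)).2.2.1, kik]; congr 2; push_cast; field_simp
    rw [← e1, ← e2, ← e3]
    simp only [conj_mul, hst]
  · refine cover (P := fun s t => L a φ i j (uL s) * L a φ i k (uL t) =
      L a φ i k (uL t) * L a φ i j (uL s)) hω (fun a b => a * b)
      (fun a => ⟨a, by rw [pow_succ' a 2]⟩) (fun t => by simp [x_zero hω hG]) (fun s => by simp [x_zero hω hG])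
      (fun n hn => (hP hij hik hjk n hn).2.1) (fun c b s t hst => ?_) s t
    have e1 : H2 b * (H1 c * L a φ i j (uL s) * (H1 c)⁻¹) * (H2 b)⁻¹ = L a φ i j (uL ((c ^ 2 * b⁻¹ : Fˣ) * s)) := by
      rw [lij, kij]; congr 2; push_cast; ring
    have e2 : H2 b * (H1 c * L a φ i k (uL t) * (H1 c)⁻¹) * (H2 b)⁻¹ = L a φ i k (uL ((c * b : Fˣ) * t)) := by
      rw [(l c t).2.2.1, kik]; congr 2; push_cast; ring
    rw [← e1, ← e2]
    simp only [conj_mul, hst]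
  · refine cover (P := fun s t => L a φ i j (uL s) * L a φ k j (uL t) =
      L a φ k j (uL t) * L a φ i j (uL s)) hω (fun a b => a * b⁻¹ ^ 2)
      (fun a => ⟨a⁻¹, by group⟩) (fun t => by simp [x_zero hω hG]) (fun s => by simp [x_zero hω hG])
      (fun n hn => (hP hij hik hjk n hn).2.2) (fun c b s t hst => ?_) s t
    have e1 : H2 b * (H1 c * L a φ i j (uL s) * (H1 c)⁻¹) * (H2 b)⁻¹ = L a φ i j (uL ((c ^ 2 * b⁻¹ : Fˣ) * s)) := by
      rw [lij, kij]; congr 2; push_cast; ring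
    have e2 : H2 b * (H1 c * L a φ k j (uL t) * (H1 c)⁻¹) * (H2 b)⁻¹ = L a φ k j (uL ((c * b⁻¹ ^ 2 : Fˣ) * t)) := by
      rw [(l c t).2.1, kkj]; congr 2; push_cast; ring
    rw [← e1, ← e2]
    simp only [conj_mul, hst]

theorem disjoint_comm {i j k l : (Fin 2 ⊕ Fin m)} (hij : i ≠ j) (hik : i ≠ k) (hil : i ≠ l) (hjk : j ≠ k) (hjl : j ≠ l)
    (hkl : k ≠ l) (A B : SL(2, F)) : Commute (L a φ i j A) (L a φ k l B) := by
  have hm : 2 ≤ m := by
    have h4 : ({i, j, k, l} : Finset (Fin 2 ⊕ Fin m)).card = 4 := by simp [hij, hik, hil, hjk, hjl, hkl]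
    have := Finset.card_le_univ ({i, j, k, l} : Finset (Fin 2 ⊕ Fin m))
    simp [h4] at this
    omega
  set d₀ : (Fin 2 ⊕ Fin m) := Sum.inr ⟨1, hm⟩
  have hcd : (c₀ : (Fin 2 ⊕ Fin m)) ≠ d₀ := by simp [c₀, d₀, Fin.ext_iff]
  have hbase : ∀ A B, Commute (L a φ (Sum.inl 0 : Fin 2 ⊕ Fin m) (Sum.inl 1 : Fin 2 ⊕ Fin m) A) (L a φ c₀ d₀ B) := by
    have hg : ∀ A ∈ gens ω, ∀ B ∈ gens ω, Commute (L a φ (Sum.inl 0 : Fin 2 ⊕ Fin m) (Sum.inl 1 : Fin 2 ⊕ Fin m) A) (L a φ c₀ d₀ B) := by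
      intro A hA B hB
      refine mul_inv_eq_one.1 (hG _ ?_)
      unfold relList
      simp only [dif_pos hm, List.mem_append, List.mem_flatMap, List.mem_map]
      exact Or.inl (Or.inr ⟨A, hA, B, hB, rfl⟩)
    intro A B
    have hA : A ∈ Subgroup.closure {g : SL(2, F) | g ∈ gens ω} := by
      rw [closure_gens ω hω]; exact Subgroup.mem_top _
    induction hA using Subgroup.closure_induction with
    | one => rw [map_one]; exact Commute.one_left _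
    | mul x y _ _ hx hy => rw [map_mul]; exact hx.mul_left hy
    | inv x _ hx => rw [map_inv]; exact hx.inv_left
    | mem x hx =>
      have hB : B ∈ Subgroup.closure {g : SL(2, F) | g ∈ gens ω} := by
        rw [closure_gens ω hω]; exact Subgroup.mem_top _
      induction hB using Subgroup.closure_induction with
      | one => rw [map_one]; exact Commute.one_right _
      | mul y z _ _ hy hz => rw [map_mul]; exact hy.mul_right hz
      | inv y _ hy => rw [map_inv]; exact hy.inv_right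
      | mem y hy => exact hg x hx y hy
  obtain ⟨σ, h0, h1, hc⟩ := exists_perm_three i j k c₀ (by simp [c₀]) (by simp [c₀]) hij hik hjk
  have hdd : σ d₀ ≠ i ∧ σ d₀ ≠ j ∧ σ d₀ ≠ k := by
    rw [← h0, ← h1, ← hc]
    exact ⟨σ.injective.ne (by simp [d₀]), σ.injective.ne (by simp [d₀]), σ.injective.ne hcd.symm⟩
  set τ := swap (σ d₀) l * σ
  have t0 : τ (Sum.inl 0 : Fin 2 ⊕ Fin m) = i := by simp [τ, h0, swap_apply_of_ne_of_ne hdd.1.symm hil]
  have t1 : τ (Sum.inl 1 : Fin 2 ⊕ Fin m) = j := by simp [τ, h1, swap_apply_of_ne_of_ne hdd.2.1.symm hjl]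
  have t2 : τ c₀ = k := by simp [τ, hc, swap_apply_of_ne_of_ne hdd.2.2.symm hkl]
  have t3 : τ d₀ = l := by simp [τ]
  rcases Int.units_eq_one_or (Perm.sign τ) with he | he
  · have h := (hbase A B).map (MulAut.conj (a ⟨τ, he⟩)).toMonoidHom
    simp only [MulEquiv.toMonoidHom_eq_coe, MonoidHom.coe_coe, MulAut.conj_apply,
      L_conj hω hG _ (show (Sum.inl 0 : Fin 2 ⊕ Fin m) ≠ (Sum.inl 1 : Fin 2 ⊕ Fin m) by simp), L_conj hω hG _ hcd] at h
    simpa [t0, t1, t2, t3] using h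
  · have he' : Perm.sign (τ * swapAB) = 1 := by rw [map_mul, he, sign_swapAB]; decide
    have h := (hbase (sw A) B).map (MulAut.conj (a ⟨τ * swapAB, he'⟩)).toMonoidHom
    simp only [MulEquiv.toMonoidHom_eq_coe, MonoidHom.coe_coe, MulAut.conj_apply,
      L_conj hω hG _ (show (Sum.inl 0 : Fin 2 ⊕ Fin m) ≠ (Sum.inl 1 : Fin 2 ⊕ Fin m) by simp), L_conj hω hG _ hcd, Perm.mul_apply, swapAB, swap_apply_left,
      swap_apply_right] at h
    rw [swap_apply_of_ne_of_ne (by simp [c₀]) (by simp [c₀]), swap_apply_of_ne_of_ne (by simp [d₀]) (by simp [d₀]),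
      t0, t1, t2, t3, L_swap hω hG hij, sw_sw] at h
    exact h

theorem bound (hgen : Subgroup.closure (Set.range a ∪ Set.range φ) = ⊤) :
    Finite Q ∧ Nat.card Q ≤ Nat.card (Matrix.SpecialLinearGroup (Fin (m + 2)) F) := by
  let e : Fin (m + 1 + 1) ≃ (Fin 2 ⊕ Fin m) := (Fintype.equivFinOfCardEq (by simp; omega)).symm
  set X := Subgroup.closure {g : Q | ∃ i j : (Fin 2 ⊕ Fin m), i ≠ j ∧ ∃ t, g = L a φ i j (uL t)}
  have hLX : ∀ (i j : (Fin 2 ⊕ Fin m)), i ≠ j → ∀ A, L a φ i j A ∈ X := by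
    intro i j hij A
    have hle : (⊤ : Subgroup SL(2, F)) ≤ X.comap (L a φ i j) := by
      rw [← GL.SL_eq_top_of_transvection_mem (H := X.comap (L a φ i j)) ?_]
      intro p q hpq t
      have e1 : ∀ u : SL(2, F), (Matrix.SpecialLinearGroup.transvection hpq t).1 = u.1 →
          L a φ i j u ∈ X → Matrix.SpecialLinearGroup.transvection hpq t ∈ X.comap (L a φ i j) := fun u hu hm => by
        rw [Subgroup.mem_comap, show Matrix.SpecialLinearGroup.transvection hpq t = u from Subtype.ext hu]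
        exact hm
      fin_cases p <;> fin_cases q
      · exact absurd rfl hpq
      · exact e1 (uL t) (by ext x y; fin_cases x <;> fin_cases y <;>
          simp [Matrix.SpecialLinearGroup.transvection_coe, uL_val])
          (Subgroup.subset_closure ⟨i, j, hij, t, rfl⟩)
      · exact e1 (sw (uL t)) (by ext x y; fin_cases x <;> fin_cases y <;>
          simp [Matrix.SpecialLinearGroup.transvection_coe, uL_val, sw_val])
          (by rw [← L_swap hω hG hij]; exact Subgroup.subset_closure ⟨j, i, hij.symm, t, rfl⟩)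
      · exact absurd rfl hpq
    exact hle (Subgroup.mem_top A)
  have hXconj : ∀ (g : alternatingGroup (Fin 2 ⊕ Fin m)), ∀ x ∈ X, a g * x * (a g)⁻¹ ∈ X := by
    intro g x hx
    refine conj_mem_of_closure (a g) ?_ hx
    rintro _ ⟨i, j, hij, t, rfl⟩
    rw [L_conj hω hG g hij]
    exact hLX _ _ ((g : Perm (Fin 2 ⊕ Fin m)).injective.ne hij) _
  have ha : ∀ g, a g ∈ X := by
    have hgen0 : ∀ v, gen v ∈ X.comap a := by
      have h0 : gen 0 ∈ X.comap a := by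
        rw [Subgroup.mem_comap]
        have : a (gen 0) = L a φ (Sum.inl 0 : Fin 2 ⊕ Fin m) (Sum.inl 1 : Fin 2 ⊕ Fin m) tL⁻¹ * L a φ (Sum.inl 1 : Fin 2 ⊕ Fin m) c₀ tL⁻¹ := by
          refine mul_inv_eq_one.1 (hG _ ?_)
          unfold relList
          exact List.mem_append_right _ List.mem_cons_self
        rw [this]
        exact mul_mem (hLX _ _ (by simp) _) (hLX _ _ (by simp [c₀]) _)
      intro v
      have := hXconj (lft (swap 0 v)) _ h0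
      rw [← map_inv, ← map_mul, ← map_mul, lft_conj, swap_apply_left, map_zpow] at this
      rw [Subgroup.mem_comap]
      rcases Int.units_eq_one_or (Perm.sign (swap (0 : Fin m) v)) with he | he <;> rw [he] at this
      · simpa using this
      · simpa using this
    have hle : (⊤ : Subgroup (alternatingGroup (Fin 2 ⊕ Fin m))) ≤ X.comap a := by
      rw [← closure_gen, Subgroup.closure_le]
      rintro _ ⟨v, rfl⟩
      exact hgen0 v
    exact fun g => hle (Subgroup.mem_top g)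
  have htop : X = ⊤ := by
    rw [eq_top_iff, ← hgen, Subgroup.closure_le]
    rintro _ (⟨g, rfl⟩ | ⟨A, rfl⟩)
    · exact ha g
    · have := hLX (Sum.inl 0 : Fin 2 ⊕ Fin m) (Sum.inl 1 : Fin 2 ⊕ Fin m) (by simp) A
      rwa [L_eq hω hG (show (Sum.inl 0 : Fin 2 ⊕ Fin m) ≠ (Sum.inl 1 : Fin 2 ⊕ Fin m) by simp) (σ := 1) rfl rfl, psi_one] at this
  let T0 : Rels F (m + 1 + 1) Q :=
    { x := fun i j t => L a φ (e i) (e j) (uL t)
      add := fun i j _ t u => by rw [uL_add, map_mul]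
      comm := fun i j k l hij hkl hil hjk t u => by
        rcases eq_or_ne i k with rfl | hik
        · rcases eq_or_ne j l with rfl | hjl
          · rw [← map_mul, ← map_mul, ← uL_add, ← uL_add, add_comm t u]
          · exact (relations hω hG (e.injective.ne hij) (e.injective.ne hkl) (e.injective.ne hjl) t u).2.1
        · rcases eq_or_ne j l with rfl | hjl
          · exact (relations hω hG (e.injective.ne hij) (e.injective.ne hik) (e.injective.ne hjk) t u).2.2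
          · exact disjoint_comm hω hG (e.injective.ne hij) (e.injective.ne hik) (e.injective.ne hil)
              (e.injective.ne hjk) (e.injective.ne hjl) (e.injective.ne hkl) _ _
      chain := fun i j l hij hjl hil t u =>
        (relations hω hG (e.injective.ne hij) (e.injective.ne hil) (e.injective.ne hjl) t u).1 }
  let T : StN F (m + 1 + 1) Q :=
    { T0 with
      rel := fun i j hij t u ht => by
        obtain ⟨k, hki, hkj⟩ : ∃ k : Fin (m + 1 + 1), k ≠ i ∧ k ≠ j := by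
          have : ({i, j} : Finset (Fin (m + 1 + 1)))ᶜ.Nonempty := by
            rw [← Finset.card_pos, Finset.card_compl, Fintype.card_fin, Finset.card_pair hij]
            have := NeZero.ne m
            omega
          obtain ⟨k, hk⟩ := this
          exact ⟨k, by simp at hk; exact hk.1, by simp at hk; exact hk.2⟩
        exact T0.rel_of_third hij hki hkj t u ht
      gen := by
        rw [eq_top_iff, ← htop, Subgroup.closure_le]
        rintro _ ⟨i, j, hij, t, rfl⟩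
        exact Subgroup.subset_closure ⟨e.symm i, e.symm j, e.symm.injective.ne hij, t, by simp [T0]⟩ }
  obtain ⟨hfin, hle⟩ := T.card_bound (m + 1)
  exact ⟨hfin, hle.trans_eq (by rw [GL.card_SL_prod]; simp)⟩

end Bound

end Cfsg.Agent.BoundedPres
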