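import Cfsg.Agent.Lib.BoundedPres.SLBound
import Cfsg.Agent.S2286

/-!
# A presentation of `SL_n` with sixty-nine relators, for every `n ≥ 3`
-/

set_option autoImplicit false
set_option linter.unusedSectionVars false

namespace Cfsg.Agent.BoundedPres

open Equiv Matrix SL2Presentation
open scoped MatrixGroups

variable {F : Type*} [Field F] {m : ℕ}

theorem LF_model_coe {i j : Fin 2 ⊕ Fin m} (A : SL(2, F)) :
    (LF (permM (F := F)) phiM i j A).1 =
      (fromBlocks A.1 0 0 1).submatrix ⇑(mv i j)⁻¹ ⇑(mv i j)⁻¹ := psiM_coe (mv i j) A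

theorem LF_model_uL {i j : Fin 2 ⊕ Fin m} (hij : i ≠ j) (t : F) :
    (LF (permM (F := F)) phiM i j (uL t)).1 = 1 + Matrix.single i j t := by
  have := psiM_uL (F := F) (mv i j) t
  rwa [mv_left hij, mv_right] at this

theorem mv_base : mv (Sum.inl 0 : Fin 2 ⊕ Fin m) (Sum.inl 1) = 1 := by
  simp [mv, ← Perm.one_def]

theorem diagonal_fromBlocks (r : Fˣ) (d : Fin 2 ⊕ Fin m → F) (hd : d (Sum.inl 0) = r * d (Sum.inl 1))
    (A : SL(2, F)) :
    diagonal d * fromBlocks A.1 0 0 1 = fromBlocks (dg r A).1 0 0 1 * diagonal d := by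
  ext x y
  rw [diagonal_mul, mul_diagonal]
  rcases x with x | x <;> rcases y with y | y
  · fin_cases x <;> fin_cases y <;> simp [dg_val, hd] <;> field_simp
  · simp
  · simp
  · rcases eq_or_ne x y with rfl | h
    · simp [mul_comm]
    · simp [Matrix.one_apply_ne h]

theorem LF_model_torus {i j : Fin 2 ⊕ Fin m} (hij : i ≠ j) (c r : Fˣ)
    (hd : Sum.elim ![(c : F), ((c⁻¹ : Fˣ) : F)] 1 i = r * Sum.elim ![(c : F), ((c⁻¹ : Fˣ) : F)] 1 j)
    (A : SL(2, F)) :
    LF (permM (F := F)) phiM (Sum.inl 0 : Fin 2 ⊕ Fin m) (Sum.inl 1) (dL c) * LF (permM (F := F)) phiM i j A *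
      (LF (permM (F := F)) phiM (Sum.inl 0 : Fin 2 ⊕ Fin m) (Sum.inl 1) (dL c))⁻¹ =
      LF (permM (F := F)) phiM i j (dg r A) := by
  rw [mul_inv_eq_iff_eq_mul]
  refine Subtype.ext ?_
  set d : Fin 2 ⊕ Fin m → F := Sum.elim ![(c : F), ((c⁻¹ : Fˣ) : F)] 1
  have hD : (LF (permM (F := F)) phiM (Sum.inl 0 : Fin 2 ⊕ Fin m) (Sum.inl 1) (dL c)).1 = diagonal d := by
    rw [LF_model_coe, mv_base, inv_one, Perm.coe_one, submatrix_id_id, dL_coe]
    ext x y
    rcases x with x | x <;> rcases y with y | y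
    · fin_cases x <;> fin_cases y <;> simp [d]
    · simp
    · simp
    · rcases eq_or_ne x y with rfl | h
      · simp [d]
      · simp [Matrix.one_apply_ne h, h]
  show _ * _ = _ * _
  rw [hD, LF_model_coe, LF_model_coe]
  set σ := mv i j
  have e : diagonal d = (diagonal (d ∘ σ)).submatrix ⇑σ⁻¹ ⇑σ⁻¹ := by
    rw [submatrix_diagonal_equiv]
    congr 1
    funext x
    simp
  rw [e, submatrix_mul_equiv, submatrix_mul_equiv, diagonal_fromBlocks r (d ∘ σ) (by
    simp only [Function.comp_apply, σ, mv_left hij, mv_right]; exact hd)]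

theorem LF_model_tL_inv {i j : Fin 2 ⊕ Fin m} (hij : i ≠ j) (x y : Fin 2 ⊕ Fin m) :
    (LF (permM (F := F)) phiM i j tL⁻¹).1 x y =
      if x = swap i j y then (if y = j then -1 else 1) else 0 := by
  rw [LF_model_coe, submatrix_apply]
  have h1 : ∀ x y : Fin 2 ⊕ Fin m, fromBlocks (tL⁻¹ : SL(2, F)).1 0 0 (1 : Matrix (Fin m) (Fin m) F) x y =
      if x = swap (Sum.inl 0) (Sum.inl 1) y then (if y = Sum.inl 1 then -1 else 1) else 0 := by
    have ht : (tL⁻¹ : SL(2, F)).1 = !![0, -1; 1, 0] := by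
      rw [Matrix.SpecialLinearGroup.coe_inv]
      simp [tL, adjugate_fin_two]
    intro x y
    rcases x with x | x <;> rcases y with y | y
    · fin_cases x <;> fin_cases y <;> simp [ht]
    · simp [swap_apply_of_ne_of_ne]
    · fin_cases y <;> simp
    · simp [swap_apply_of_ne_of_ne, Matrix.one_apply]
  rw [h1]
  set σ := mv i j
  have h2 : ((σ⁻¹ x = swap (Sum.inl 0) (Sum.inl 1) (σ⁻¹ y)) ↔ x = swap i j y) := by
    rw [Perm.inv_eq_iff_eq, ← Perm.mul_apply, mul_swap_eq_swap_mul, Perm.mul_apply,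
      show σ (Sum.inl 0) = i from mv_left hij, show σ (Sum.inl 1) = j from mv_right i j,
      show σ (σ⁻¹ y) = y by simp]
  have h3 : (σ⁻¹ y = Sum.inl 1) ↔ y = j := by
    rw [Perm.inv_eq_iff_eq, show σ (Sum.inl 1) = j from mv_right i j]
  simp only [h2, h3]

variable [NeZero m]

theorem model_good (ω : Fˣ) : ∀ x ∈ relList (m := m) ω (permM (F := F)) phiM, x = 1 := by
  intro x hx
  have hαβ : (Sum.inl 0 : Fin 2 ⊕ Fin m) ≠ Sum.inl 1 := by simp
  have hαc : (Sum.inl 0 : Fin 2 ⊕ Fin m) ≠ c₀ := by simp [c₀]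
  have hβc : (Sum.inl 1 : Fin 2 ⊕ Fin m) ≠ c₀ := by simp [c₀]
  unfold relList at hx
  simp only [List.mem_append, List.mem_flatMap, List.mem_map] at hx
  rcases hx with ((((hx | hx) | hx) | hx) | hx) | hx
  · obtain ⟨π, -, A, -, rfl⟩ := hx
    rw [mul_inv_eq_one]
    refine Subtype.ext ?_
    rw [permM_conj, phiM_swp, lft_coe]
    show _ = (fromBlocks A.1 0 0 1).submatrix _ _
    rw [phiM_val]
    ext u v
    have hf : ∀ u, (sumCongr (parity (Perm.sign π)) π : Perm (Fin 2 ⊕ Fin m))⁻¹ u =
        sumCongr (parity (Perm.sign π)) π⁻¹ u := by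
      intro u
      rw [Perm.inv_eq_iff_eq]
      rcases u with u | u
      · show Sum.inl u = Sum.inl (parity (Perm.sign π) (parity (Perm.sign π) u))
        rw [← Perm.mul_apply, ← map_mul, Int.units_mul_self, map_one, Perm.one_apply]
      · show Sum.inr u = Sum.inr (π (π⁻¹ u))
        rw [← Perm.mul_apply, mul_inv_cancel, Perm.one_apply]
    simp only [submatrix_apply, hf]
    rcases u with u | u <;> rcases v with v | v <;> simp [tw, Matrix.one_apply]
  · obtain ⟨A, -, rfl⟩ := hx
    rw [mul_inv_eq_one, LF_model_torus hβc ω ω⁻¹ (by simp [c₀])]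
  · obtain ⟨A, -, rfl⟩ := hx
    rw [mul_inv_eq_one, LF_model_torus hαc ω ω (by simp [c₀])]
  · obtain ⟨⟨i, j⟩, hij', k, -, hx⟩ := hx
    obtain ⟨hij, hic, hjc⟩ : i ≠ j ∧ i ≠ c₀ ∧ j ≠ c₀ := by
      simp only [List.mem_cons, Prod.mk.injEq, List.not_mem_nil, or_false] at hij'
      rcases hij' with ⟨rfl, rfl⟩ | ⟨rfl, rfl⟩
      · exact ⟨hαβ, hαc, hβc⟩
      · exact ⟨hαβ.symm, hβc, hαc⟩
    simp only [List.mem_cons, List.not_mem_nil, or_false] at hx
    rcases hx with rfl | rfl | rfl <;> rw [mul_inv_eq_one] <;> refine Subtype.ext ?_ <;>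
      simp only [Matrix.SpecialLinearGroup.coe_mul, LF_model_uL hij, LF_model_uL hic, LF_model_uL hjc,
        LF_model_uL hjc.symm, mul_add, add_mul, one_mul, mul_one, single_mul_single_same,
        single_mul_single_of_ne _ _ _ _ hjc.symm, single_mul_single_of_ne _ _ _ _ hij.symm,
        single_mul_single_of_ne _ _ _ _ hic.symm, single_mul_single_of_ne _ _ _ _ hjc,
        
        Matrix.zero_mul, add_zero, zero_add] <;> abel
  · split_ifs at hx with h
    · obtain ⟨A, -, hx'⟩ := List.mem_flatMap.1 hx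
      obtain ⟨B, -, rfl⟩ := List.mem_map.1 hx'
      rw [mul_inv_eq_one]
      refine Subtype.ext ?_
      set d₀ : Fin 2 ⊕ Fin m := Sum.inr ⟨1, h⟩
      have hcd : (c₀ : Fin 2 ⊕ Fin m) ≠ d₀ := by simp [c₀, d₀, Fin.ext_iff]
      set M : Matrix (Fin 2 ⊕ Fin m) (Fin 2 ⊕ Fin m) F :=
        (LF (permM (F := F)) phiM (Sum.inl 0) (Sum.inl 1) A).1 - 1
      set N : Matrix (Fin 2 ⊕ Fin m) (Fin 2 ⊕ Fin m) F := (LF (permM (F := F)) phiM c₀ d₀ B).1 - 1
      have key : ∀ (i j : Fin 2 ⊕ Fin m) (hij : i ≠ j) (C : SL(2, F)) (x y : Fin 2 ⊕ Fin m),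
          ((LF (permM (F := F)) phiM i j C).1 - 1) x y ≠ 0 → (x = i ∨ x = j) ∧ (y = i ∨ y = j) := by
        intro i j hij C x y hxy
        rw [Matrix.sub_apply, LF_model_coe, submatrix_apply] at hxy
        set σ := mv i j
        have hσ : ∀ z, (∃ l, σ⁻¹ z = Sum.inl l) → z = i ∨ z = j := by
          rintro z ⟨l, hl⟩
          rw [Perm.inv_eq_iff_eq] at hl
          fin_cases l
          · exact Or.inl (hl.trans (mv_left hij))
          · exact Or.inr (hl.trans (mv_right i j))
        rcases hu : σ⁻¹ x with u | u <;> rcases hv : σ⁻¹ y with v | v <;> rw [hu, hv] at hxy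
        · exact ⟨hσ x ⟨u, hu⟩, hσ y ⟨v, hv⟩⟩
        · exfalso; apply hxy
          rw [fromBlocks_apply₁₂, Matrix.zero_apply, Matrix.one_apply_ne, sub_zero]
          intro e; rw [e, hv] at hu; exact Sum.inr_ne_inl hu
        · exfalso; apply hxy
          rw [fromBlocks_apply₂₁, Matrix.zero_apply, Matrix.one_apply_ne, sub_zero]
          intro e; rw [e, hv] at hu; exact Sum.inl_ne_inr hu
        · exfalso; apply hxy
          rw [fromBlocks_apply₂₂, Matrix.one_apply, Matrix.one_apply]
          by_cases e : x = y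
          · rw [if_pos e, if_pos (Sum.inr_injective (hu.symm.trans ((congrArg _ e).trans hv))), sub_self]
          · rw [if_neg e, if_neg (fun e' => e (σ⁻¹.injective (by rw [hu, hv, e']))), sub_zero]
      have hMN : M * N = 0 ∧ N * M = 0 := by
        constructor <;> ext x y <;> rw [Matrix.mul_apply, Matrix.zero_apply] <;>
          refine Finset.sum_eq_zero fun z _ => by_contra fun hz => ?_ <;>
          simp only [mul_eq_zero, not_or] at hz
        · rcases (key _ _ hαβ A x z hz.1).2 with rfl | rfl <;>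
            rcases (key _ _ hcd B _ y hz.2).1 with e | e <;> simp [c₀, d₀] at e
        · rcases (key _ _ hcd B x z hz.1).2 with rfl | rfl <;>
            rcases (key _ _ hαβ A _ y hz.2).1 with e | e <;> simp [c₀, d₀] at e
      show _ * _ = _ * _
      rw [show (LF (permM (F := F)) phiM (Sum.inl 0) (Sum.inl 1) A).1 = 1 + M by simp [M],
        show (LF (permM (F := F)) phiM c₀ d₀ B).1 = 1 + N by simp [N]]
      simp only [mul_add, add_mul, one_mul, mul_one, hMN.1, hMN.2]
      abel
    · simp at hx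
  · simp only [List.mem_cons, List.not_mem_nil, or_false] at hx
    subst hx
    rw [mul_inv_eq_one]
    refine Subtype.ext ?_
    show _ = _ * _
    ext x y
    rw [Matrix.mul_apply, Finset.sum_eq_single (swap (Sum.inl 1) c₀ y)]
    · rw [LF_model_tL_inv hαβ, LF_model_tL_inv hβc, if_pos rfl]
      show ((cyc (0 : Fin m))⁻¹).permMatrix F x y = _
      have he : cyc (0 : Fin m) y = swap (Sum.inl 0) (Sum.inl 1) (swap (Sum.inl 1) c₀ y) := rfl
      by_cases hxy : x = swap (Sum.inl 0) (Sum.inl 1) (swap (Sum.inl 1) c₀ y)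
      · have : ((cyc (0 : Fin m))⁻¹) x = y := by rw [Perm.inv_eq_iff_eq, he]; exact hxy
        rw [if_pos hxy, Equiv.Perm.permMatrix, PEquiv.toMatrix_apply]
        simp only [Equiv.toPEquiv_apply, this, Option.mem_some_iff, if_true]
        rcases eq_or_ne y c₀ with rfl | h1
        · simp
        · rw [if_neg h1, mul_one]
          rw [if_neg]
          intro h2
          rw [swap_apply_eq_iff, swap_apply_left] at h2
          exact h1 h2
      · have : ((cyc (0 : Fin m))⁻¹) x ≠ y := by
          intro h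
          rw [Perm.inv_eq_iff_eq, he] at h
          exact hxy h
        rw [if_neg hxy, zero_mul, Equiv.Perm.permMatrix, PEquiv.toMatrix_apply, if_neg]
        simpa [Perm.inv_def] using this
    · intro z _ hz
      rw [LF_model_tL_inv hβc, if_neg hz, mul_zero]
    · simp

theorem model_generates [Fintype F] :
    Subgroup.closure (Set.range (permM (F := F) (m := m)) ∪ Set.range phiM) = ⊤ := by
  refine GL.SL_eq_top_of_transvection_mem fun i j hij t => ?_
  have hA : ∀ g, permM (F := F) g ∈ Subgroup.closure (Set.range (permM (F := F) (m := m)) ∪ Set.range phiM) :=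
    fun g => Subgroup.subset_closure (Or.inl ⟨g, rfl⟩)
  have e : SpecialLinearGroup.transvection hij t = LF (permM (F := F)) phiM i j (uL t) := by
    refine Subtype.ext ?_
    rw [LF_model_uL hij]
    simp [SpecialLinearGroup.transvection_coe]
  rw [e, LF, psiF]
  exact mul_mem (mul_mem (hA _) (Subgroup.subset_closure (Or.inr ⟨_, rfl⟩))) (inv_mem (hA _))

theorem sl_pres [Fintype F] : Pres (SpecialLinearGroup (Fin 2 ⊕ Fin m) F) 69 := by
  classical
  obtain ⟨ω, hω⟩ := IsCyclic.exists_generator (α := Fˣ)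
  obtain ⟨rels2, hr2, ⟨e2⟩⟩ := (Cfsg.Agent.S2286.result (F := F)).1
  obtain ⟨kL, gL, RL, hRL, hgL, hrL, huL⟩ := Pres.of_presented hr2 e2
  obtain ⟨kA, gA, RA, hRA, hgA, hrA, huA⟩ := alt_pres m
  let a1 : Fin kA → FreeGroup (Fin (kA + kL)) := fun i => FreeGroup.of (Fin.castAdd kL i)
  let a2 : Fin kL → FreeGroup (Fin (kA + kL)) := fun i => FreeGroup.of (Fin.natAdd kA i)
  choose wA hwA using lift_surjective hgA
  choose wL hwL using lift_surjective hgL
  let WA := fun c => FreeGroup.lift a1 (wA c)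
  let WL := fun c => FreeGroup.lift a2 (wL c)
  let g0 : Fin (kA + kL) → SpecialLinearGroup (Fin 2 ⊕ Fin m) F :=
    Fin.append (permM ∘ gA) (phiM ∘ gL)
  have hl1 : ∀ u, FreeGroup.lift g0 (FreeGroup.lift a1 u) = permM (FreeGroup.lift gA u) := fun u => by
    rw [lift_map, lift_map]
    exact congrArg (FreeGroup.lift · u) (funext fun i => by
      simp only [a1, g0, Function.comp_apply, FreeGroup.lift_apply_of, Fin.append_left])
  have hl2 : ∀ u, FreeGroup.lift g0 (FreeGroup.lift a2 u) = phiM (FreeGroup.lift gL u) := fun u => by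
    rw [lift_map, lift_map]
    exact congrArg (FreeGroup.lift · u) (funext fun i => by
      simp only [a2, g0, Function.comp_apply, FreeGroup.lift_apply_of, Fin.append_right])
  have hcard : Nat.card (SpecialLinearGroup (Fin 2 ⊕ Fin m) F) =
      Nat.card (SpecialLinearGroup (Fin (m + 2)) F) :=
    Nat.card_congr (Equiv.subtypeEquiv (Matrix.reindex ((finSumFinEquiv).trans (finCongr (add_comm 2 m)))
      ((finSumFinEquiv).trans (finCongr (add_comm 2 m)))) fun A => by rw [Matrix.reindex_apply, det_submatrix_equiv_self])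
  refine Pres.of_card (g := g0)
    (R := RA.map (FreeGroup.lift a1) ++ RL.map (FreeGroup.lift a2) ++ relList ω WA WL) ?_ ?_ ?_ ?_
  · have := length_relList ω WA WL
    simp only [List.length_append, List.length_map]
    omega
  · rw [eq_top_iff, ← model_generates, Subgroup.closure_le]
    rintro _ (⟨c, rfl⟩ | ⟨c, rfl⟩)
    · rw [← FreeGroup.range_lift_eq_closure]
      exact ⟨WA c, by rw [hl1, hwA]⟩
    · rw [← FreeGroup.range_lift_eq_closure]
      exact ⟨WL c, by rw [hl2, hwL]⟩
  · intro u hu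
    simp only [List.mem_append, List.mem_map] at hu
    rcases hu with (⟨r, hr, rfl⟩ | ⟨r, hr, rfl⟩) | hu
    · rw [hl1, hrA r hr, map_one]
    · rw [hl2, hrL r hr, map_one]
    · have := List.mem_map_of_mem (f := FreeGroup.lift g0) hu
      rw [map_relList, show (FreeGroup.lift g0) ∘ WA = permM from funext fun c => by
          simp only [Function.comp_apply, WA, hl1, hwA],
        show (FreeGroup.lift g0) ∘ WL = phiM from funext fun c => by
          simp only [Function.comp_apply, WL, hl2, hwL]] at this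
      exact model_good ω _ this
  · intro Q _ g' hgen' hrel
    obtain ⟨fA, hfA⟩ := huA Q (g' ∘ Fin.castAdd kL) fun r hr => by
      have := hrel _ (List.mem_append_left _ (List.mem_append_left _ (List.mem_map.2 ⟨r, hr, rfl⟩)))
      rwa [lift_map, show FreeGroup.lift g' ∘ a1 = g' ∘ Fin.castAdd kL from
        funext fun i => by simp [a1]] at this
    obtain ⟨fL, hfL⟩ := huL Q (g' ∘ Fin.natAdd kA) fun r hr => by
      have := hrel _ (List.mem_append_left _ (List.mem_append_right _ (List.mem_map.2 ⟨r, hr, rfl⟩)))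
      rwa [lift_map, show FreeGroup.lift g' ∘ a2 = g' ∘ Fin.natAdd kA from
        funext fun i => by simp [a2]] at this
    have hLA : (FreeGroup.lift g') ∘ WA = fA := funext fun c => by
      conv_rhs => rw [← hwA c, lift_map, show fA ∘ gA = _ from funext hfA]
      show FreeGroup.lift g' (FreeGroup.lift a1 (wA c)) = _
      rw [lift_map]
      exact congrArg (FreeGroup.lift · (wA c)) (funext fun i => by simp [a1])
    have hLL : (FreeGroup.lift g') ∘ WL = fL := funext fun c => by
      conv_rhs => rw [← hwL c, lift_map, show fL ∘ gL = _ from funext hfL]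
      show FreeGroup.lift g' (FreeGroup.lift a2 (wL c)) = _
      rw [lift_map]
      exact congrArg (FreeGroup.lift · (wL c)) (funext fun i => by simp [a2])
    rw [hcard]
    refine bound (a := fA) (φ := fL) (ω := ω) hω ?_ ?_
    · intro x hx
      rw [← hLA, ← hLL, ← map_relList, List.mem_map] at hx
      obtain ⟨u, hu, rfl⟩ := hx
      exact hrel u (List.mem_append_right _ hu)
    · rw [eq_top_iff, ← hgen', Subgroup.closure_le]
      rintro _ ⟨i, rfl⟩
      induction i using Fin.addCases with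
      | left i => exact Subgroup.subset_closure (Or.inl ⟨gA i, hfA i⟩)
      | right i => exact Subgroup.subset_closure (Or.inr ⟨gL i, hfL i⟩)

end Cfsg.Agent.BoundedPres
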