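import Cfsg.Agent.Lib.BoundedPres.SpSlim
import Cfsg.Agent.Lib.SympAmalgam.Amalgam
import Cfsg.Agent.Lib.TwoGen.Symp

/-!
# The slim generators inside the symplectic group

Permutations of the planes, the copy of `SL₂` on each plane and the root elements of the pairs of planes,
as isometries of `sympBilin n F`.
-/

set_option autoImplicit false
set_option linter.unusedSectionVars false
set_option linter.unusedSimpArgs false

namespace Cfsg.Agent.BoundedPres.Slim

open Matrix SL2Presentation Equiv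
open Cfsg.Agent.ClassicalSimple Cfsg.Agent.SympAmalgam
open scoped MatrixGroups

variable {F : Type*} [Field F] {n : ℕ}

local notation "V" => Fin n ⊕ Fin n → F

/-- An isometry from a form preserving linear map. -/
noncomputable def isoOf (f : V →ₗ[F] V) (hf : ∀ x z, sympBilin n F (f x) (f z) = sympBilin n F x z) :
    SpB (sympBilin n F) :=
  symplecticEquiv (TwoGen.ofMap f hf)

theorem isoOf_smul (f : V →ₗ[F] V) (hf : ∀ x z, sympBilin n F (f x) (f z) = sympBilin n F x z) (x : V) :
    isoOf f hf • x = f x := by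
  rw [isoOf, symplecticEquiv_smul, TwoGen.ofMap_mulVec]

/-! ### Planes -/

/-- The linear map acting by `A` on the plane `j`. -/
def planeMap (j : Fin n) (A : SL(2, F)) : V →ₗ[F] V where
  toFun x := Sum.elim
    (fun l => if l = j then A.1 0 0 * x (Sum.inl j) + A.1 0 1 * x (Sum.inr j) else x (Sum.inl l))
    (fun l => if l = j then A.1 1 0 * x (Sum.inl j) + A.1 1 1 * x (Sum.inr j) else x (Sum.inr l))
  map_add' x z := by
    refine funext fun t => ?_
    rcases t with i | i <;> simp only [Sum.elim_inl, Sum.elim_inr, Pi.add_apply] <;> split_ifs <;> ring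
  map_smul' c x := by
    refine funext fun t => ?_
    rcases t with i | i <;> simp only [Sum.elim_inl, Sum.elim_inr, Pi.smul_apply, smul_eq_mul, RingHom.id_apply] <;>
      split_ifs <;> ring

theorem planeMap_pres (j : Fin n) (A : SL(2, F)) (x z : V) :
    sympBilin n F (planeMap j A x) (planeMap j A z) = sympBilin n F x z := by
  rw [TwoGen.sympBilin_eq_sum, TwoGen.sympBilin_eq_sum]
  refine Finset.sum_congr rfl fun i _ => ?_
  by_cases h : i = j
  · subst h
    have hd : A.1 0 0 * A.1 1 1 - A.1 0 1 * A.1 1 0 = 1 := (det_fin_two A.1).symm.trans A.2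
    simp [planeMap]
    linear_combination (x (Sum.inr i) * z (Sum.inl i) - x (Sum.inl i) * z (Sum.inr i)) * hd
  · simp [planeMap, h]

/-- The copy of `SL₂` on the plane `j`. -/
noncomputable def plane (j : Fin n) : SL(2, F) →* SpB (sympBilin n F) where
  toFun A := isoOf (planeMap j A) (planeMap_pres j A)
  map_one' := SpB.ext' fun x => by
    rw [isoOf_smul, one_smul]
    refine funext fun t => ?_
    rcases t with i | i <;> simp [planeMap] <;> rintro rfl <;> rfl
  map_mul' A B := SpB.ext' fun x => by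
    rw [mul_smul, isoOf_smul, isoOf_smul, isoOf_smul]
    refine funext fun t => ?_
    rcases t with i | i <;> by_cases h : i = j <;>
      simp [planeMap, h, Matrix.mul_apply, Fin.sum_univ_two] <;> ring

theorem plane_inl (j : Fin n) (A : SL(2, F)) (x : V) (l : Fin n) :
    (plane j A • x) (Sum.inl l) =
      if l = j then A.1 0 0 * x (Sum.inl j) + A.1 0 1 * x (Sum.inr j) else x (Sum.inl l) :=
  congrFun (isoOf_smul _ (planeMap_pres j A) x) (Sum.inl l)

theorem plane_inr (j : Fin n) (A : SL(2, F)) (x : V) (l : Fin n) :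
    (plane j A • x) (Sum.inr l) =
      if l = j then A.1 1 0 * x (Sum.inl j) + A.1 1 1 * x (Sum.inr j) else x (Sum.inr l) :=
  congrFun (isoOf_smul _ (planeMap_pres j A) x) (Sum.inr l)

/-! ### Pairs -/

/-- The root map of the pair `i`, `j`. -/
def pairMap (i j : Fin n) (t : F) : V →ₗ[F] V where
  toFun x := Sum.elim
    (fun l => x (Sum.inl l) + (if l = i then t * x (Sum.inr j) else 0) + if l = j then t * x (Sum.inr i) else 0)
    (fun l => x (Sum.inr l))
  map_add' x z := by
    refine funext fun s => ?_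
    rcases s with l | l <;> simp only [Sum.elim_inl, Sum.elim_inr, Pi.add_apply]
    split_ifs <;> ring
  map_smul' c x := by
    refine funext fun s => ?_
    rcases s with l | l <;> simp only [Sum.elim_inl, Sum.elim_inr, Pi.smul_apply, smul_eq_mul, RingHom.id_apply]
    split_ifs <;> ring

theorem pairMap_pres (i j : Fin n) (t : F) (x z : V) :
    sympBilin n F (pairMap i j t x) (pairMap i j t z) = sympBilin n F x z := by
  rw [TwoGen.sympBilin_eq_sum, TwoGen.sympBilin_eq_sum]
  simp only [pairMap, LinearMap.coe_mk, AddHom.coe_mk, Sum.elim_inl, Sum.elim_inr, mul_add, add_mul, mul_ite,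
    ite_mul, mul_zero, zero_mul, Finset.sum_sub_distrib, Finset.sum_add_distrib, Finset.sum_ite_eq',
    Finset.mem_univ, if_true]
  ring

/-- The root element of the pair `i`, `j`. -/
noncomputable def Ym (i j : Fin n) (t : F) : SpB (sympBilin n F) := isoOf (pairMap i j t) (pairMap_pres i j t)

theorem Ym_inl (i j : Fin n) (t : F) (x : V) (l : Fin n) :
    (Ym i j t • x) (Sum.inl l) =
      x (Sum.inl l) + (if l = i then t * x (Sum.inr j) else 0) + if l = j then t * x (Sum.inr i) else 0 :=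
  congrFun (isoOf_smul _ (pairMap_pres i j t) x) (Sum.inl l)

theorem Ym_inr (i j : Fin n) (t : F) (x : V) (l : Fin n) : (Ym i j t • x) (Sum.inr l) = x (Sum.inr l) :=
  congrFun (isoOf_smul _ (pairMap_pres i j t) x) (Sum.inr l)

theorem Ym_symm (i j : Fin n) (t : F) : Ym i j t = Ym j i t := SpB.ext' fun (x : V) => funext fun s => by
  rcases s with l | l
  · rw [Ym_inl, Ym_inl]; ring
  · rw [Ym_inr, Ym_inr]

theorem Ym_comm (i j k l : Fin n) (t u : F) : Ym i j t * Ym k l u = Ym k l u * Ym i j t :=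
  SpB.ext' fun (x : V) => funext fun s => by
    rw [mul_smul, mul_smul]
    rcases s with m | m
    · simp only [Ym_inl, Ym_inr]; ring
    · simp only [Ym_inr]

theorem Ym_add (i j : Fin n) (s t : F) : Ym i j (s + t) = Ym i j s * Ym i j t :=
  SpB.ext' fun (x : V) => funext fun z => by
    rw [mul_smul]
    rcases z with m | m
    · simp only [Ym_inl, Ym_inr]; split_ifs <;> ring
    · simp only [Ym_inr]

theorem Ym_zero (i j : Fin n) : Ym i j (0 : F) = 1 := psi_zero (Ym_add i j)

theorem Ym_inv (i j : Fin n) (t : F) : (Ym i j t)⁻¹ = Ym i j (-t) :=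
  inv_eq_of_mul_eq_one_right (by rw [← Ym_add, add_neg_cancel, Ym_zero])

theorem tLinv_val : (tL⁻¹ : SL(2, F)).1 = !![0, -1; 1, 0] := by
  rw [Matrix.SpecialLinearGroup.coe_inv]
  simp [tL, adjugate_fin_two]

theorem tL_mat : (tL : SL(2, F)).1 = !![0, 1; -1, 0] := rfl

theorem VVm_inl {i j : Fin n} (hij : i ≠ j) (t : F) (x : V) (l : Fin n) :
    (VV (plane j) (Ym i j) t • x) (Sum.inl l) =
      x (Sum.inl l) + if l = i then t * x (Sum.inl j) else 0 := by
  rw [VV, ← map_inv, mul_smul, mul_smul]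
  simp only [plane_inl, plane_inr, Ym_inl, Ym_inr, tLinv_val, tL_mat]
  by_cases h1 : l = i <;> by_cases h2 : l = j
  · exact absurd (h1.symm.trans h2) hij
  all_goals simp [h1, h2, hij, hij.symm]

theorem VVm_inr {i j : Fin n} (hij : i ≠ j) (t : F) (x : V) (l : Fin n) :
    (VV (plane j) (Ym i j) t • x) (Sum.inr l) =
      x (Sum.inr l) - if l = j then t * x (Sum.inr i) else 0 := by
  rw [VV, ← map_inv, mul_smul, mul_smul]
  simp only [plane_inl, plane_inr, Ym_inl, Ym_inr, tLinv_val, tL_mat]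
  by_cases h1 : l = i <;> by_cases h2 : l = j
  · exact absurd (h1.symm.trans h2) hij
  all_goals simp [h1, h2, hij, hij.symm]
  all_goals ring

theorem model_piece {i j : Fin n} (hij : i ≠ j) : Piece (plane i) (plane j) (Ym (F := F) i j) where
  comm A B := SpB.ext' fun (x : V) => funext fun s => by
    rw [mul_smul, mul_smul]
    rcases s with m | m <;> simp only [plane_inl, plane_inr] <;>
      by_cases h1 : m = i <;> by_cases h2 : m = j <;>
      first | exact absurd (h1.symm.trans h2) hij | simp [h1, h2, hij, hij.symm]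
  yadd := Ym_add i j
  torA c t := by
    rw [mul_inv_eq_iff_eq_mul]
    refine SpB.ext' fun (x : V) => funext fun s => ?_
    rw [mul_smul, mul_smul]
    rcases s with m | m <;> simp only [plane_inl, plane_inr, Ym_inl, Ym_inr, dL_coe] <;>
      by_cases h1 : m = i <;> by_cases h2 : m = j <;>
      first | exact absurd (h1.symm.trans h2) hij | (simp [h1, h2, hij, hij.symm] <;> field_simp)
  torB c t := by
    rw [mul_inv_eq_iff_eq_mul]
    refine SpB.ext' fun (x : V) => funext fun s => ?_
    rw [mul_smul, mul_smul]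
    rcases s with m | m <;> simp only [plane_inl, plane_inr, Ym_inl, Ym_inr, dL_coe] <;>
      by_cases h1 : m = i <;> by_cases h2 : m = j <;>
      first | exact absurd (h1.symm.trans h2) hij | (simp [h1, h2, hij, hij.symm] <;> field_simp)
  yA s t := SpB.ext' fun (x : V) => funext fun z => by
    rw [mul_smul, mul_smul]
    rcases z with m | m <;> simp only [plane_inl, plane_inr, Ym_inl, Ym_inr, uL_val] <;>
      by_cases h1 : m = i <;> by_cases h2 : m = j <;>
      first | exact absurd (h1.symm.trans h2) hij | (simp [h1, h2, hij, hij.symm] <;> ring)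
  yB s t := SpB.ext' fun (x : V) => funext fun z => by
    rw [mul_smul, mul_smul]
    rcases z with m | m <;> simp only [plane_inl, plane_inr, Ym_inl, Ym_inr, uL_val] <;>
      by_cases h1 : m = i <;> by_cases h2 : m = j <;>
      first | exact absurd (h1.symm.trans h2) hij | (simp [h1, h2, hij, hij.symm] <;> ring)
  rel t s := SpB.ext' fun (x : V) => funext fun z => by
    rw [mul_smul, mul_smul, mul_smul, mul_smul]
    rcases z with m | m <;>
      simp only [plane_inl, plane_inr, Ym_inl, Ym_inr, VVm_inl hij, VVm_inr hij, uL_val] <;>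
      by_cases h1 : m = i <;> by_cases h2 : m = j <;>
      first | exact absurd (h1.symm.trans h2) hij | (simp [h1, h2, hij, hij.symm] <;> ring)

theorem model_free {i j : Fin n} (hij : i ≠ j) (g : SL(2, F)) (a b c : F)
    (h : plane j g * hMap (plane i) (plane j) (Ym i j) (a, b, c) = 1) :
    g = 1 ∧ a = 0 ∧ b = 0 ∧ c = 0 := by
  have hx : ∀ x : V, plane j g • VV (plane j) (Ym i j) a • Ym i j b • plane i (uL c) • x = x := fun x => by
    have := congrArg (fun z => z • x) h
    simpa [hMap, mul_smul, mul_assoc] using this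
  have e := fun x s => congrFun (hx x) s
  have a0 := e (be F j) (Sum.inl i)
  simp [plane_inl, plane_inr, VVm_inl hij, VVm_inr hij, Ym_inl, Ym_inr, uL_val, be_inl, be_inr, hij,
    hij.symm] at a0
  subst a0
  have g00 := e (be F j) (Sum.inl j)
  have g10 := e (be F j) (Sum.inr j)
  have b0 := e (bf F j) (Sum.inl i)
  have g01 := e (bf F j) (Sum.inl j)
  have g11 := e (bf F j) (Sum.inr j)
  have c0 := e (bf F i) (Sum.inl i)
  simp [plane_inl, plane_inr, VVm_inl hij, VVm_inr hij, Ym_inl, Ym_inr, uL_val, be_inl, be_inr, bf_inl, bf_inr,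
    hij, hij.symm] at g00 g10 b0 g01 g11 c0
  refine ⟨Subtype.ext ?_, rfl, b0, c0⟩
  ext u v
  fin_cases u <;> fin_cases v <;> simp [g00, g10, g01, g11]

theorem plane_injective (j : Fin n) : Function.Injective (plane (F := F) j) :=
  (injective_iff_map_eq_one _).2 fun A hA => by
    refine Subtype.ext ?_
    ext u v
    have e := fun x s => congrFun (congrArg (fun z => z • (x : V)) hA) s
    have e1 := e (be F j) (Sum.inl j)
    have e2 := e (be F j) (Sum.inr j)
    have e3 := e (bf F j) (Sum.inl j)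
    have e4 := e (bf F j) (Sum.inr j)
    simp [plane_inl, plane_inr, be_inl, be_inr, bf_inl, bf_inr] at e1 e2 e3 e4
    fin_cases u <;> fin_cases v <;> simp [e1, e2, e3, e4]

theorem Ym_phi {i j k : Fin n} (hik : i ≠ k) (hjk : j ≠ k) (A : SL(2, F)) (t : F) :
    plane k A * Ym i j t = Ym i j t * plane k A :=
  SpB.ext' fun (x : V) => funext fun s => by
    rw [mul_smul, mul_smul]
    rcases s with m | m <;> simp only [plane_inl, plane_inr, Ym_inl, Ym_inr] <;>
      by_cases h : m = k <;> simp [h, hik, hik.symm, hjk, hjk.symm]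

theorem model_iso {p q r : Fin n} (hpq : p ≠ q) (hpr : p ≠ r) (hqr : q ≠ r) :
    VV (plane q) (Ym q r) (1 : F) * Ym p q 1 * (VV (plane q) (Ym q r) (1 : F))⁻¹ = Ym p q 1 * Ym p r 1 := by
  rw [mul_inv_eq_iff_eq_mul]
  have hY : Ym (F := F) q r = Ym r q := funext (Ym_symm q r)
  refine SpB.ext' fun (x : V) => funext fun s => ?_
  rw [mul_smul, mul_smul, mul_smul, hY]
  rcases s with m | m <;> simp only [Ym_inl, Ym_inr, VVm_inl hqr.symm, VVm_inr hqr.symm] <;>
    by_cases h1 : m = p <;> by_cases h2 : m = q <;> by_cases h3 : m = r <;>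
    first
      | exact absurd (h1.symm.trans h2) hpq
      | exact absurd (h1.symm.trans h3) hpr
      | exact absurd (h2.symm.trans h3) hqr
      | (simp [h1, h2, h3, hpq, hpq.symm, hpr, hpr.symm, hqr, hqr.symm] <;> ring)

/-! ### Permutations -/

/-- The map permuting the planes. -/
def permMap (σ : Perm (Fin n)) : V →ₗ[F] V where
  toFun x := Sum.elim (fun l => x (Sum.inl (σ⁻¹ l))) (fun l => x (Sum.inr (σ⁻¹ l)))
  map_add' x z := by
    refine funext fun s => ?_
    rcases s with l | l <;> simp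
  map_smul' c x := by
    refine funext fun s => ?_
    rcases s with l | l <;> simp

theorem permMap_pres (σ : Perm (Fin n)) (x z : V) :
    sympBilin n F (permMap σ x) (permMap σ z) = sympBilin n F x z := by
  rw [TwoGen.sympBilin_eq_sum, TwoGen.sympBilin_eq_sum]
  exact Fintype.sum_equiv σ.symm _ _ fun i => rfl

/-- The permutation group of the planes. -/
noncomputable def perm : Perm (Fin n) →* SpB (sympBilin n F) where
  toFun σ := isoOf (permMap σ) (permMap_pres σ)
  map_one' := SpB.ext' fun x => by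
    rw [isoOf_smul, one_smul]
    refine funext fun s => ?_
    rcases s with l | l <;> simp [permMap]
  map_mul' σ τ := SpB.ext' fun x => by
    rw [mul_smul, isoOf_smul, isoOf_smul, isoOf_smul]
    refine funext fun s => ?_
    rcases s with l | l <;> simp [permMap]

theorem perm_inl (σ : Perm (Fin n)) (x : V) (l : Fin n) :
    (perm (F := F) σ • x) (Sum.inl l) = x (Sum.inl (σ⁻¹ l)) :=
  congrFun (isoOf_smul _ (permMap_pres σ) x) (Sum.inl l)

theorem perm_inr (σ : Perm (Fin n)) (x : V) (l : Fin n) :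
    (perm (F := F) σ • x) (Sum.inr l) = x (Sum.inr (σ⁻¹ l)) :=
  congrFun (isoOf_smul _ (permMap_pres σ) x) (Sum.inr l)

theorem perm_plane (σ : Perm (Fin n)) (k : Fin n) (A : SL(2, F)) :
    perm σ * plane k A * (perm σ)⁻¹ = plane (σ k) A := by
  rw [mul_inv_eq_iff_eq_mul]
  refine SpB.ext' fun (x : V) => funext fun s => ?_
  rw [mul_smul, mul_smul]
  rcases s with m | m <;>
    simp only [perm_inl, perm_inr, plane_inl, plane_inr, Perm.inv_eq_iff_eq] <;>
    by_cases h : m = σ k <;> simp [h]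

theorem perm_Ym (σ : Perm (Fin n)) (i j : Fin n) (t : F) :
    perm σ * Ym i j t * (perm σ)⁻¹ = Ym (σ i) (σ j) t := by
  rw [mul_inv_eq_iff_eq_mul]
  refine SpB.ext' fun (x : V) => funext fun s => ?_
  rw [mul_smul, mul_smul]
  rcases s with m | m <;> simp [perm_inl, perm_inr, Ym_inl, Ym_inr, Equiv.symm_apply_eq]

theorem perm_VV (σ : Perm (Fin n)) (k i j : Fin n) (t : F) :
    perm σ * VV (plane k) (Ym i j) t * (perm σ)⁻¹ = VV (plane (σ k)) (Ym (σ i) (σ j)) t := by
  rw [VV, VV, Sp4.cj_mul, Sp4.cj_mul, cj_inv, perm_plane, perm_Ym]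

section Model

variable (hn : 3 ≤ n)

/-- The even permutations. -/
noncomputable def aM : alternatingGroup (Fin n) →* SpB (sympBilin n F) :=
  perm.comp (alternatingGroup (Fin n)).subtype

theorem aM_apply (g : alternatingGroup (Fin n)) : aM (F := F) g = perm (g : Perm (Fin n)) := rfl

theorem model_rot :
    aM (F := F) (rot hn) = w01 hn (⇑(aM (F := F))) (⇑(plane (F := F) (p0 hn))) (Ym (p0 hn) (p1 hn) 1) *
      cA (⇑(aM (F := F))) (rot hn) (w01 hn (⇑(aM (F := F))) (⇑(plane (F := F) (p0 hn)))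
        (Ym (p0 hn) (p1 hn) 1)) * plane (p0 hn) (dL (-1)) *
      l1 hn (⇑(aM (F := F))) (⇑(plane (F := F) (p0 hn))) (dL (-1)) := by
  have h01 := p01 (hn := hn)
  have h02 := p02 (hn := hn)
  have h12 := p12 (hn := hn)
  have e1 : ∀ A, l1 hn (⇑(aM (F := F))) (⇑(plane (F := F) (p0 hn))) A = plane (p1 hn) A := fun A => by
    rw [l1, cA, aM_apply, perm_plane, rot_p0]
  have hW : w01 hn (⇑(aM (F := F))) (⇑(plane (F := F) (p0 hn))) (Ym (p0 hn) (p1 hn) 1) =
      VV (plane (p1 hn)) (Ym (p0 hn) (p1 hn)) 1 * VV (plane (p0 hn)) (Ym (p1 hn) (p0 hn)) (-1) *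
        VV (plane (p1 hn)) (Ym (p0 hn) (p1 hn)) 1 := by
    simp only [w01, VV, e1, Ym_inv, Ym_symm (p1 hn) (p0 hn)]
  rw [cA, hW, e1, aM_apply]
  simp only [Sp4.cj_mul, perm_VV, rot_p0, rot_p1]
  refine SpB.ext' fun (x : V) => funext fun s => ?_
  simp only [mul_smul]
  rcases s with m | m <;>
    simp only [perm_inl, perm_inr, VVm_inl h01, VVm_inr h01, VVm_inl h01.symm, VVm_inr h01.symm, VVm_inl h12,
      VVm_inr h12, VVm_inl h12.symm, VVm_inr h12.symm, plane_inl, plane_inr, dL_coe] <;>
    by_cases c0 : m = p0 hn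
  all_goals first
    | (subst c0
       rw [show (rot hn : Perm (Fin n))⁻¹ (p0 hn) = p2 hn by rw [Perm.inv_eq_iff_eq, rot_p2]]
       simp [h01, h01.symm, h02, h02.symm, h12, h12.symm] <;> ring)
    | by_cases c1 : m = p1 hn
  all_goals first
    | (subst c1
       rw [show (rot hn : Perm (Fin n))⁻¹ (p1 hn) = p0 hn by rw [Perm.inv_eq_iff_eq, rot_p0]]
       simp [h01, h01.symm, h02, h02.symm, h12, h12.symm] <;> ring)
    | by_cases c2 : m = p2 hn
  all_goals first
    | (subst c2
       rw [show (rot hn : Perm (Fin n))⁻¹ (p2 hn) = p1 hn by rw [Perm.inv_eq_iff_eq, rot_p1]]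
       simp [h01, h01.symm, h02, h02.symm, h12, h12.symm] <;> ring)
    | (rw [show (rot hn : Perm (Fin n))⁻¹ m = m by
          rw [Perm.inv_eq_iff_eq]
          exact (c3_apply_other c0 c1 c2).symm]
       simp [c0, c1, c2, h01, h01.symm, h02, h02.symm, h12, h12.symm])

theorem model_slim (ω : Fˣ) (u v : alternatingGroup (Fin n) × alternatingGroup (Fin n)) (s : SL(2, F) × SL(2, F))
    (hu : ∀ g ∈ [u.1, u.2], (g : Perm (Fin n)) (p0 hn) = p0 hn)
    (hv : ∀ g ∈ [v.1, v.2], (g : Perm (Fin n)) (p0 hn) = p0 hn ∧ (g : Perm (Fin n)) (p1 hn) = p1 hn ∨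
      (g : Perm (Fin n)) (p0 hn) = p1 hn ∧ (g : Perm (Fin n)) (p1 hn) = p0 hn) :
    ∀ x ∈ slimRels hn (⇑(aM (F := F))) (⇑(plane (F := F) (p0 hn))) (Ym (p0 hn) (p1 hn) 1) ω u v s, x = 1 := by
  have h01 := p01 (hn := hn)
  have h02 := p02 (hn := hn)
  have h12 := p12 (hn := hn)
  have e1 : ∀ A, l1 hn (⇑(aM (F := F))) (⇑(plane (F := F) (p0 hn))) A = plane (p1 hn) A := fun A => by
    rw [l1, cA, aM_apply, perm_plane, rot_p0]
  have e2 : ∀ A, l2 hn (⇑(aM (F := F))) (⇑(plane (F := F) (p0 hn))) A = plane (p2 hn) A := fun A => by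
    rw [l2, cA, aM_apply, perm_plane, rot2_p0]
  have e12 : y12 hn (⇑(aM (F := F))) (Ym (p0 hn) (p1 hn) (1 : F)) = Ym (p1 hn) (p2 hn) 1 := by
    rw [y12, cA, aM_apply, perm_Ym, rot_p0, rot_p1]
  have e02 : y02 hn (⇑(aM (F := F))) (Ym (p0 hn) (p1 hn) (1 : F)) = Ym (p0 hn) (p2 hn) 1 := by
    rw [y02, cA, aM_apply, perm_Ym, rot2_p0, rot2_p1, Ym_symm]
  have P := model_piece (F := F) h01
  have hY1 : ∀ c : Fˣ, plane (p0 hn) (dL c) * Ym (p0 hn) (p1 hn) 1 * (plane (p0 hn) (dL c))⁻¹ =
      Ym (p0 hn) (p1 hn) (c : F) := fun c => by rw [P.torA, mul_one]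
  intro x hx
  unfold slimRels at hx
  simp only [List.mem_append, List.mem_flatMap, List.mem_map, List.mem_cons, List.not_mem_nil, or_false] at hx
  rcases hx with ((((((⟨g, hg, A, -, rfl⟩ | ⟨A, -, B, -, rfl⟩) | rfl | rfl | rfl) | ⟨k, -, rfl⟩) | rfl) |
    ⟨g, hg, rfl⟩) | ⟨A, -, rfl⟩) | rfl | rfl | rfl | rfl | rfl
  all_goals try simp only [e1, e2, e12, e02]
  · rw [mul_inv_eq_one, aM_apply, perm_plane, hu g (by rcases hg with rfl | rfl <;> simp)]
  · rw [mul_inv_eq_one, P.comm]
  · rw [mul_inv_eq_one, hY1, P.torB, mul_one]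
  · rw [mul_inv_eq_one, P.yA]
  · rw [mul_inv_eq_one, P.yB]
  · rw [mul_inv_eq_one]
    have h := P.rel 1 ((ω : F) ^ k)
    rw [VV, one_mul, one_pow, one_mul] at h
    rw [h, hY1, Units.val_pow_eq_pow_val]
  · rw [mul_inv_eq_one]
    have h := (model_piece (F := F) h01.symm).rel 1 1
    simp only [VV, one_mul, one_pow, Ym_symm (p1 hn) (p0 hn)] at h
    exact h
  · rw [mul_inv_eq_one, aM_apply, perm_Ym]
    rcases hv g (by rcases hg with rfl | rfl <;> simp) with ⟨a1, a2⟩ | ⟨a1, a2⟩ <;> rw [a1, a2]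
    rw [Ym_symm]
  · rw [mul_inv_eq_one, Ym_phi h02 h12]
  · rw [mul_inv_eq_one, Ym_comm]
  · split_ifs
    · rw [cA, aM_apply, perm_Ym, mul_inv_eq_one, Ym_comm]
    · rfl
  · rw [mul_inv_eq_one]
    exact model_iso h01 h02 h12
  · rw [mul_inv_eq_one]
    have h := model_iso (F := F) h02 h01 h12.symm
    rw [VV, Ym_symm (p2 hn) (p1 hn), Ym_comm (p0 hn) (p2 hn)] at h
    rw [h]
    exact Ym_comm ..
  · rw [mul_inv_eq_one, ← e1 (dL (-1))]
    exact model_rot hn

end Model

end Cfsg.Agent.BoundedPres.Slim
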