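import Cfsg.Agent.Lib.BoundedPres.Sp4Bound
import Cfsg.Agent.Lib.SL2Presentation.Steinberg

/-!
# A long root `SL₂` acting on the radical between two planes

Two commuting copies of `SL₂` and the root subgroup `Y` between their planes: the group generated by
the second copy and the three abelian root subgroups is `SL₂` times a Heisenberg group, so a
homomorphism which separates this normal form is injective on it.
-/

set_option autoImplicit false
set_option linter.unusedSectionVars false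

namespace Cfsg.Agent.BoundedPres.Slim

open Matrix SL2Presentation
open scoped MatrixGroups

variable {F : Type*} [Field F] {Q : Type*} [Group Q]

/-- The root element obtained from `Y` by the Weyl element of the second copy. -/
def VV (φB : SL(2, F) →* Q) (Y : F → Q) (t : F) : Q := φB tL * Y t * (φB tL)⁻¹

/-- The relations between the two copies and `Y`. -/
structure Piece (φA φB : SL(2, F) →* Q) (Y : F → Q) : Prop where
  comm : ∀ A B, φA A * φB B = φB B * φA A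
  yadd : ∀ s t, Y (s + t) = Y s * Y t
  torA : ∀ (c : Fˣ) (t : F), φA (dL c) * Y t * (φA (dL c))⁻¹ = Y ((c : F) * t)
  torB : ∀ (c : Fˣ) (t : F), φB (dL c) * Y t * (φB (dL c))⁻¹ = Y ((c : F) * t)
  yA : ∀ s t, φA (uL s) * Y t = Y t * φA (uL s)
  yB : ∀ s t, φB (uL s) * Y t = Y t * φB (uL s)
  rel : ∀ t s, VV φB Y t * φB (uL s) = φB (uL s) * Y (t * s) * φA (uL (t ^ 2 * s)) * VV φB Y t

/-- The long root subgroup of the first copy and the rest of the normal form. -/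
def hMap (φA φB : SL(2, F) →* Q) (Y : F → Q) (p : F × F × F) : Q :=
  VV φB Y p.1 * Y p.2.1 * φA (uL p.2.2)

namespace Piece

variable {φA φB : SL(2, F) →* Q} {Y : F → Q} (P : Piece φA φB Y)

include P

theorem y_zero : Y 0 = 1 := psi_zero P.yadd

theorem y_neg (t : F) : Y (-t) = (Y t)⁻¹ :=
  eq_inv_of_mul_eq_one_left (by rw [← P.yadd, neg_add_cancel, P.y_zero])

theorem v_add (s t : F) : VV φB Y (s + t) = VV φB Y s * VV φB Y t := by
  simp only [VV, P.yadd]; group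

theorem v_zero : VV φB Y 0 = 1 := by simp [VV, P.y_zero]

theorem v_comm_A (s t : F) : φA (uL s) * VV φB Y t = VV φB Y t * φA (uL s) := by
  have h := P.comm (uL s) tL
  have h' : φA (uL s) * (φB tL)⁻¹ = (φB tL)⁻¹ * φA (uL s) := by
    rw [← map_inv]; exact P.comm _ _
  rw [VV, ← mul_assoc, ← mul_assoc, h, mul_assoc (φB tL), P.yA, ← mul_assoc, mul_assoc, h', ← mul_assoc]

theorem v_y (a b : F) : VV φB Y a * Y b = Y b * φA (uL (2 * a * b)) * VV φB Y a := by
  have e1 := P.rel a 1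
  have e2 := P.rel b 1
  have e3 := P.rel (a + b) 1
  simp only [mul_one] at e1 e2 e3
  rw [P.v_add, P.yadd, show (a + b) ^ 2 = a ^ 2 + 2 * a * b + b ^ 2 by ring, uL_add, uL_add, map_mul,
    map_mul] at e3
  have hA : ∀ s, Y a * φA (uL s) = φA (uL s) * Y a := fun s => (P.yA s a).symm
  have key : VV φB Y a * VV φB Y b * φB (uL 1) =
      φB (uL 1) * Y a * φA (uL (a ^ 2)) * (VV φB Y a * Y b) * φA (uL (b ^ 2)) * VV φB Y b := by
    calc VV φB Y a * VV φB Y b * φB (uL 1)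
        = VV φB Y a * (VV φB Y b * φB (uL 1)) := mul_assoc _ _ _
      _ = VV φB Y a * φB (uL 1) * (Y b * φA (uL (b ^ 2)) * VV φB Y b) := by rw [e2]; group
      _ = _ := by rw [e1]; group
  rw [key] at e3
  have e4 : φB (uL 1) * Y a * φA (uL (a ^ 2)) * (Y b * φA (uL (2 * a * b)) * VV φB Y a) * φA (uL (b ^ 2)) *
      VV φB Y b = φB (uL 1) * (Y a * Y b) * (φA (uL (a ^ 2)) * φA (uL (2 * a * b)) * φA (uL (b ^ 2))) *
        (VV φB Y a * VV φB Y b) := by
    simp only [← mul_assoc]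
    rw [mul_assoc _ (VV φB Y a) (φA (uL (b ^ 2))), ← P.v_comm_A, ← mul_assoc,
      mul_assoc _ (φA (uL (a ^ 2))) (Y b), P.yA, ← mul_assoc]
  rw [← e4] at e3
  exact mul_left_cancel (mul_right_cancel (mul_right_cancel e3))

theorem hMap_mul (p q : F × F × F) :
    hMap φA φB Y p * hMap φA φB Y q =
      hMap φA φB Y (p.1 + q.1, p.2.1 + q.2.1, p.2.2 + q.2.2 - 2 * q.1 * p.2.1) := by
  obtain ⟨a, b, c⟩ := p
  obtain ⟨a', b', c'⟩ := q
  have h : Y b * VV φB Y a' = VV φB Y a' * Y b * φA (uL (-(2 * a' * b))) := by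
    have := P.v_y a' b
    rw [mul_assoc (Y b), P.v_comm_A, ← mul_assoc] at this
    rw [this, mul_assoc _ (φA _) (φA _), ← map_mul, ← uL_add, add_neg_cancel, uL_zero, map_one, mul_one]
  simp only [hMap, P.v_add, P.yadd, sub_eq_add_neg, uL_add, map_mul]
  simp only [← mul_assoc]
  rw [mul_assoc _ (φA (uL c)) (VV φB Y a'), P.v_comm_A, ← mul_assoc, mul_assoc (VV φB Y a) (Y b) (VV φB Y a'), h]
  simp only [← mul_assoc]
  rw [mul_assoc _ (φA (uL c)) (Y b'), P.yA, ← mul_assoc, mul_assoc _ (φA (uL (-_))) (Y b'), P.yA, ← mul_assoc]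
  simp only [mul_assoc, ← map_mul, ← uL_add]
  rw [show ∀ x y z : F, -x + y + z = y + z + -x from fun _ _ _ => by ring]

theorem hMap_one : hMap φA φB Y (0, 0, 0) = 1 := by simp [hMap, P.v_zero, P.y_zero, uL_zero]

/-- The radical. -/
def rad : Subgroup Q where
  carrier := Set.range (hMap φA φB Y)
  one_mem' := ⟨_, P.hMap_one⟩
  mul_mem' := by
    rintro _ _ ⟨p, rfl⟩ ⟨q, rfl⟩
    exact ⟨_, (P.hMap_mul p q).symm⟩
  inv_mem' := by
    rintro _ ⟨⟨a, b, c⟩, rfl⟩
    refine ⟨(-a, -b, -c - 2 * a * b), eq_inv_of_mul_eq_one_left ?_⟩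
    rw [P.hMap_mul]
    convert P.hMap_one using 3 <;> ring_nf

theorem mem_rad {p : F × F × F} : hMap φA φB Y p ∈ P.rad := ⟨p, rfl⟩

theorem v_mem (t : F) : VV φB Y t ∈ P.rad := ⟨(t, 0, 0), by simp [hMap, P.y_zero, uL_zero]⟩

theorem y_mem (t : F) : Y t ∈ P.rad := ⟨(0, t, 0), by simp [hMap, P.v_zero, uL_zero]⟩

theorem a_mem (t : F) : φA (uL t) ∈ P.rad := ⟨(0, 0, t), by simp [hMap, P.v_zero, P.y_zero]⟩

theorem conj_mem [Fintype F] {ω : Fˣ} (hω : ∀ c : Fˣ, c ∈ Subgroup.zpowers ω) (g : SL(2, F)) :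
    ∀ x ∈ P.rad, φB g * x * (φB g)⁻¹ ∈ P.rad := by
  set N : Subgroup Q := Subgroup.normalizer (P.rad : Set Q)
  suffices h : (N.comap φB) = ⊤ by
    intro x hx
    exact (Subgroup.mem_normalizer_iff.1 (show g ∈ N.comap φB from h ▸ Subgroup.mem_top g) x).1 hx
  have fixA : ∀ B t, φB B * φA (uL t) * (φB B)⁻¹ = φA (uL t) := fun B t => by
    rw [← P.comm, mul_inv_cancel_right]
  -- a subgroup whose elements and their inverses map the three root subgroups into the radical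
  have key : ∀ B, (∀ t, φB B * VV φB Y t * (φB B)⁻¹ ∈ P.rad) → (∀ t, φB B * Y t * (φB B)⁻¹ ∈ P.rad) →
      ∀ x ∈ P.rad, φB B * x * (φB B)⁻¹ ∈ P.rad := by
    rintro B hV hY _ ⟨p, rfl⟩
    rw [hMap, Sp4.cj_mul, Sp4.cj_mul, fixA]
    exact mul_mem (mul_mem (hV _) (hY _)) (P.a_mem _)
  have hu : ∀ s, ∀ x ∈ P.rad, φB (uL s) * x * (φB (uL s))⁻¹ ∈ P.rad := fun s => key _ (fun t => by
      have h := P.rel t (-s)
      rw [Sp4.uL_neg, map_inv] at h
      have : φB (uL s) * VV φB Y t * (φB (uL s))⁻¹ =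
          Y (t * -s) * φA (uL (t ^ 2 * -s)) * VV φB Y t := by
        rw [mul_assoc, h]; group
      rw [this]
      exact mul_mem (mul_mem (P.y_mem _) (P.a_mem _)) (P.v_mem _))
    (fun t => by rw [P.yB, mul_inv_cancel_right]; exact P.y_mem t)
  have hv2 : ∀ t, φB tL * VV φB Y t * (φB tL)⁻¹ = Y (-t) := fun t => by
    rw [VV, ← Sp4.cj_cj, ← map_mul, tL_sq, P.torB]
    simp
  have ht : ∀ x ∈ P.rad, φB tL * x * (φB tL)⁻¹ ∈ P.rad :=
    key _ (fun t => hv2 t ▸ P.y_mem _) (fun t => P.v_mem t)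
  have hd : ∀ c : Fˣ, ∀ x ∈ P.rad, φB (dL c) * x * (φB (dL c))⁻¹ ∈ P.rad := fun c => key _ (fun t => by
      have e : φB (dL c) * φB tL = φB tL * φB (dL c⁻¹) := by
        rw [← map_mul, ← map_mul]
        congr 1
        have := tL_conj (c⁻¹)
        rw [← map_inv, inv_inv, mul_inv_eq_iff_eq_mul] at this
        exact this.symm
      rw [VV, ← Sp4.cj_cj, e, Sp4.cj_cj, P.torB]
      exact P.v_mem _)
    (fun t => P.torB c t ▸ P.y_mem _)
  have hinv : ∀ B, (∀ x ∈ P.rad, φB B * x * (φB B)⁻¹ ∈ P.rad) →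
      (∀ x ∈ P.rad, φB B⁻¹ * x * (φB B⁻¹)⁻¹ ∈ P.rad) → B ∈ N.comap φB := by
    intro B h1 h2
    refine Subgroup.mem_normalizer_iff.2 fun x => ⟨h1 x, fun h => ?_⟩
    have := h2 _ h
    rwa [map_inv, inv_inv, show (φB B)⁻¹ * (φB B * x * (φB B)⁻¹) * φB B = x by group] at this
  refine closure_eq_top ω hω _ (fun s => hinv _ (hu s) (Sp4.uL_neg s ▸ hu (-s)))
    (hinv _ (hd ω) (map_inv (dL (F := F)) ω ▸ hd ω⁻¹)) (hinv _ ht fun x hx => ?_)
  have h2 := hd (-1) x hx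
  have e : φB tL⁻¹ = φB tL * φB (dL (-1)) := by
    rw [← map_mul]
    congr 1
    have := tL_sq (F := F)
    have h3 : dL (-1 : Fˣ) * dL (-1 : Fˣ) = (1 : SL(2, F)) := by rw [← map_mul]; simp
    apply inv_eq_of_mul_eq_one_right
    rw [← mul_assoc, this, h3]
  rw [e, Sp4.cj_cj]
  exact ht _ h2

/-- A homomorphism separating the normal form is injective on the join. -/
theorem injOn [Fintype F] {ω : Fˣ} (hω : ∀ c : Fˣ, c ∈ Subgroup.zpowers ω) {G : Type*} [Group G] (π : Q →* G)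
    (hfree : ∀ g a b c, π (φB g * hMap φA φB Y (a, b, c)) = 1 → g = 1 ∧ a = 0 ∧ b = 0 ∧ c = 0)
    {M : Subgroup Q} (hM : M ≤ Subgroup.closure
      (Set.range Y ∪ (Set.range fun t => φA (uL t)) ∪ Set.range fun t => φB (uL t))) :
    Set.InjOn π (φB.range ⊔ M : Subgroup Q) := by
  have hnorm : φB.range ≤ Subgroup.normalizer (P.rad : Set Q) := by
    rintro _ ⟨g, rfl⟩
    refine Subgroup.mem_normalizer_iff.2 fun x => ⟨P.conj_mem hω g x, fun h => ?_⟩
    have := P.conj_mem hω g⁻¹ _ h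
    rwa [map_inv, inv_inv, show (φB g)⁻¹ * (φB g * x * (φB g)⁻¹) * φB g = x by group] at this
  have hle : φB.range ⊔ M ≤ φB.range ⊔ P.rad := by
    refine sup_le le_sup_left (hM.trans ((Subgroup.closure_le _).2 ?_))
    rintro _ ((⟨t, rfl⟩ | ⟨t, rfl⟩) | ⟨t, rfl⟩)
    · exact Subgroup.mem_sup_right (P.y_mem t)
    · exact Subgroup.mem_sup_right (P.a_mem t)
    · exact Subgroup.mem_sup_left ⟨_, rfl⟩
  intro x hx y hy hxy
  have hz : x⁻¹ * y ∈ φB.range ⊔ P.rad := hle (mul_mem (inv_mem hx) hy)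
  rw [← SetLike.mem_coe, Subgroup.coe_mul_of_left_le_normalizer_right _ _ hnorm] at hz
  obtain ⟨_, ⟨g, rfl⟩, _, ⟨⟨a, b, c⟩, rfl⟩, e⟩ := hz
  have h1 : π (φB g * hMap φA φB Y (a, b, c)) = 1 := by
    show π (φB g * hMap φA φB Y (a, b, c)) = 1
    rw [show φB g * hMap φA φB Y (a, b, c) = x⁻¹ * y from e, map_mul, map_inv, hxy, inv_mul_cancel]
  obtain ⟨rfl, rfl, rfl, rfl⟩ := hfree g a b c h1
  refine inv_mul_eq_one.1 (e.symm.trans ?_)
  simp [P.hMap_one]

end Piece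

end Cfsg.Agent.BoundedPres.Slim
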