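import Cfsg.Agent.Lib.BoundedPres.SpModel
import Cfsg.Agent.Lib.BoundedPres.AltTwo
import Cfsg.Agent.Lib.BoundedPres.Sp4Pres
import Cfsg.Agent.Lib.BoundedPres.PSL
import Cfsg.Agent.Lib.AutPSp.Card
import Cfsg.Agent.S2286

/-!
# Slim presentations of the symplectic groups

The slim relators, with a presentation of `A_n` on two generators and one of `SL₂` on three, present
`Sp_{2n}(q)` for every `n ≥ 3` on six generators.
-/

set_option autoImplicit false
set_option linter.unusedSectionVars false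
set_option linter.unusedSimpArgs false

namespace Cfsg.Agent.BoundedPres.Slim

open Matrix SL2Presentation Equiv
open Cfsg.Agent.ClassicalSimple Cfsg.Agent.SympAmalgam
open scoped MatrixGroups

variable {F : Type*} [Field F] {n : ℕ}

/-! ### The root elements in the model -/

theorem sg_pair {p q : Fin n} (hpq : p ≠ q) (c t : F) :
    sg alt (be F p) (c • be F q) t = Ym p q (-c) * plane p (uL (-t)) := by
  refine SpB.ext' fun (x : Fin n ⊕ Fin n → F) => funext fun s => ?_
  rw [show (Ym p q (-c) * plane p (uL (-t))) • x = Ym p q (-c) • plane p (uL (-t)) • x from mul_smul _ _ _,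
    sg_smul alt (by simp [B_be, be_inl, be_inr])]
  rcases s with m | m <;>
    simp only [Ym_inl, Ym_inr, plane_inl, plane_inr, uL_val, map_smul, LinearMap.smul_apply, smul_eq_mul, B_be',
      Pi.add_apply, Pi.smul_apply, be_inl, be_inr] <;>
    by_cases h1 : m = p <;> by_cases h2 : m = q <;>
    first | exact absurd (h1.symm.trans h2) hpq | (simp [h1, h2, hpq, hpq.symm] <;> try ring)

theorem sg_long (q : Fin n) (d : F) : sg alt (be F q) 0 d = plane q (uL (-d)) := by
  refine SpB.ext' fun (x : Fin n ⊕ Fin n → F) => funext fun s => ?_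
  rw [sg_smul alt (by simp)]
  rcases s with m | m <;>
    simp only [plane_inl, plane_inr, uL_val, B_be', Pi.add_apply, Pi.smul_apply, be_inl, be_inr, smul_eq_mul,
      map_zero, LinearMap.zero_apply, zero_smul, smul_zero, Pi.zero_apply] <;>
    by_cases h1 : m = q <;> simp [h1] <;> ring

theorem range_plane (j : Fin n) : (plane (F := F) j).range = sImg F j := by
  refine le_antisymm ?_ fun g hg => ?_
  · rintro _ ⟨A, rfl⟩
    refine mem_sImg.2 fun k hk => ⟨funext fun s => ?_, funext fun s => ?_⟩ <;>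
      rcases s with m | m <;> simp [plane_inl, plane_inr, be_inl, be_inr, bf_inl, bf_inr, hk, Ne.symm hk] <;>
      intro h <;> simp [h, Ne.symm hk]
  have zero : ∀ v : Fin n ⊕ Fin n → F, (∀ k, k ≠ j → v (Sum.inl k) = 0 ∧ v (Sum.inr k) = 0) →
      ∀ k, k ≠ j → (g • v) (Sum.inl k) = 0 ∧ (g • v) (Sum.inr k) = 0 := fun v hv k hk => by
    constructor
    · rw [← neg_eq_zero, ← B_bf (g • v) k, ← (mem_sImg.1 hg k hk).2, form_smul, B_bf, (hv k hk).1, neg_zero]
    · rw [← B_be (g • v) k, ← (mem_sImg.1 hg k hk).1, form_smul, B_be, (hv k hk).2]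
  have ze := zero (be F j) fun k hk => by simp [be_inl, be_inr, hk]
  have zf := zero (bf F j) fun k hk => by simp [bf_inl, bf_inr, hk]
  have hd : (g • be F j) (Sum.inl j) * (g • bf F j) (Sum.inr j) -
      (g • bf F j) (Sum.inl j) * (g • be F j) (Sum.inr j) = 1 := by
    have h : sympBilin n F (g • be F j) (g • bf F j) = -1 := by
      rw [form_smul, B_bf]; simp [be_inl]
    rw [TwoGen.sympBilin_eq_sum, Finset.sum_eq_single j] at h
    · linear_combination -h
    · intro k _ hk; rw [(ze k hk).1, (ze k hk).2]; ring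
    · simp
  let A : SL(2, F) := ⟨!![(g • be F j) (Sum.inl j), (g • bf F j) (Sum.inl j); (g • be F j) (Sum.inr j),
    (g • bf F j) (Sum.inr j)], by rw [det_fin_two]; simpa using hd⟩
  have a00 : A.1 0 0 = (g • be F j) (Sum.inl j) := rfl
  have a01 : A.1 0 1 = (g • bf F j) (Sum.inl j) := rfl
  have a10 : A.1 1 0 = (g • be F j) (Sum.inr j) := rfl
  have a11 : A.1 1 1 = (g • bf F j) (Sum.inr j) := rfl
  refine ⟨A, ?_⟩
  refine ext_basis (fun k => funext fun s => ?_) (fun k => funext fun s => ?_)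
  · by_cases hk : k = j
    · subst hk
      rcases s with m | m <;> by_cases hm : m = k
      · subst hm; simp [plane_inl, be_inl, be_inr, a00, a01]
      · simp [plane_inl, be_inl, be_inr, hm, (ze m hm).1]
      · subst hm; simp [plane_inr, be_inl, be_inr, a10, a11]
      · simp [plane_inr, be_inl, be_inr, hm, (ze m hm).2]
    · rw [(mem_sImg.1 hg k hk).1]
      rcases s with m | m <;> by_cases hm : m = j <;>
        simp [plane_inl, plane_inr, be_inl, be_inr, hk, Ne.symm hk, hm]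
  · by_cases hk : k = j
    · subst hk
      rcases s with m | m <;> by_cases hm : m = k
      · subst hm; simp [plane_inl, bf_inl, bf_inr, a00, a01]
      · simp [plane_inl, bf_inl, bf_inr, hm, (zf m hm).1]
      · subst hm; simp [plane_inr, bf_inl, bf_inr, a10, a11]
      · simp [plane_inr, bf_inl, bf_inr, hm, (zf m hm).2]
    · rw [(mem_sImg.1 hg k hk).2]
      rcases s with m | m <;> by_cases hm : m = j <;>
        simp [plane_inl, plane_inr, bf_inl, bf_inr, hk, Ne.symm hk, hm]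

/-- Injectivity on the join of two commuting subgroups. -/
theorem injOn_sup_of_comm {Q G : Type*} [Group Q] [Group G] (π : Q →* G) (A B : Subgroup Q)
    (hc : ∀ x ∈ A, ∀ z ∈ B, Commute x z) (h : ∀ x ∈ A, ∀ z ∈ B, π (x * z) = 1 → x * z = 1) :
    Set.InjOn π (A ⊔ B : Subgroup Q) := by
  intro u hu v hv huv
  have hz : u⁻¹ * v ∈ A ⊔ B := mul_mem (inv_mem hu) hv
  have hc' : ∀ (x : A) (z : B), Commute (A.subtype x) (B.subtype z) := fun x z => hc x x.2 z z.2
  have e : A ⊔ B = (A.subtype.noncommCoprod B.subtype hc').range := by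
    rw [MonoidHom.noncommCoprod_range, Subgroup.range_subtype, Subgroup.range_subtype]
  rw [e] at hz
  obtain ⟨⟨x, z⟩, hxz⟩ := hz
  have hxz' : (x : Q) * z = u⁻¹ * v := hxz
  refine inv_mul_eq_one.1 (hxz' ▸ h x x.2 z z.2 ?_)
  rw [hxz', map_mul, map_inv, huv, inv_mul_cancel]

/-- The next plane. -/
def nx (i : Fin n) : Fin n := if h : (i : ℕ) + 1 < n then ⟨i + 1, h⟩ else i

theorem nx_val {i : Fin n} (h : (i : ℕ) + 1 < n) : ((nx i : Fin n) : ℕ) = (i : ℕ) + 1 := by simp [nx, h]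

theorem nx_ne {i : Fin n} (h : (i : ℕ) + 1 < n) : i ≠ nx i := fun e => by
  have := congrArg Fin.val e
  rw [nx_val h] at this
  omega

section Bound

variable [Fintype F] {Q : Type*} [Group Q] {hn : 3 ≤ n} {a : alternatingGroup (Fin n) →* Q} {φ : SL(2, F) →* Q}
  {y : Q} (H : Hyp hn a φ y) (π : Q →* SpB (sympBilin n F))
  (hπa : ∀ g, π (a g) = aM g) (hπφ : ∀ A, π (φ A) = plane (p0 hn) A) (hπy : π y = Ym (p0 hn) (p1 hn) 1)

open Hyp

include H hπa hπφ

theorem pi_phi (k : Fin n) (A : SL(2, F)) : π (phi φ a hn k A) = plane k A := by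
  obtain ⟨g, hg⟩ := exists_to (hn := hn) k
  rw [H.phi_eq g hg, map_mul, map_mul, map_inv, hπa, hπφ, aM_apply, perm_plane, hg]

include hπy

theorem pi_YY {i j : Fin n} (hij : i ≠ j) (t : F) : π (YY φ a y hn i j t) = Ym i j t := by
  have h0 : π (yy φ y t) = Ym (p0 hn) (p1 hn) t := by
    rcases eq_or_ne t 0 with rfl | ht
    · rw [yy_zero, map_one, Ym_zero]
    rw [show t = ((Units.mk0 t ht : Fˣ) : F) from rfl, yy_unit, map_mul, map_mul, map_inv, hπφ, hπy,
      (model_piece p01).torA, mul_one]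
  obtain ⟨g, hg⟩ := exists_to2 (hn := hn) hij
  rw [H.YY_eq hij g hg, map_mul, map_mul, map_inv, hπa, h0, aM_apply, perm_Ym]
  rcases hg with ⟨e1, e2⟩ | ⟨e1, e2⟩ <;> rw [e1, e2]
  rw [Ym_symm]

omit hπa hπφ hπy

theorem uL_YY (k : Fin n) {i j : Fin n} (hij : i ≠ j) (s t : F) :
    Commute (phi φ a hn k (uL s)) (YY φ a y hn i j t) := by
  rcases eq_or_ne k i with rfl | hi
  · exact (H.piece hij).yA s t
  rcases eq_or_ne k j with rfl | hj
  · exact (H.piece hij).yB s t
  exact H.YY_phi hij hi.symm hj.symm _ _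

theorem uL_uL (k l : Fin n) (s t : F) : Commute (phi φ a hn k (uL s)) (phi φ a hn l (uL t)) := by
  rcases eq_or_ne k l with rfl | h
  · show _ * _ = _ * _
    rw [← map_mul, ← map_mul, ← uL_add, ← uL_add, add_comm]
  · exact H.phi_comm h _ _

omit H

/-- The normal form of the radical of a pair of neighbours. -/
noncomputable def mk (φ : SL(2, F) →* Q) (a : alternatingGroup (Fin n) →* Q) (y : Q) (hn : 3 ≤ n) (i : Fin n)
    (c : F × F × F) : Q :=
  phi φ a hn i (uL c.1) * YY φ a y hn i (nx i) c.2.1 * phi φ a hn (nx i) (uL c.2.2)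

/-- The lift of `M i`. -/
noncomputable def mLift (φ : SL(2, F) →* Q) (a : alternatingGroup (Fin n) →* Q) (y : Q) (hn : 3 ≤ n) (i : Fin n) :
    Subgroup Q :=
  Subgroup.closure (Set.range fun c => mk φ a y hn i c)

include H

theorem mk_mul {i : Fin n} (hi : (i : ℕ) + 1 < n) (c d : F × F × F) :
    mk φ a y hn i c * mk φ a y hn i d = mk φ a y hn i (c + d) := by
  have h := nx_ne hi
  simp only [mk, Prod.fst_add, Prod.snd_add, uL_add, map_mul, (H.piece h).yadd]
  simp only [← mul_assoc]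
  rw [mul_assoc _ (phi φ a hn (nx i) (uL c.2.2)) (phi φ a hn i (uL d.1)), (uL_uL H _ _ _ _).eq, ← mul_assoc,
    mul_assoc _ (YY φ a y hn i (nx i) c.2.1) (phi φ a hn i (uL d.1)), ← (uL_YY H i h _ _).eq, ← mul_assoc,
    mul_assoc _ (phi φ a hn (nx i) (uL c.2.2)) (YY φ a y hn i (nx i) d.2.1), (uL_YY H _ h _ _).eq, ← mul_assoc]

theorem mk_zero {i : Fin n} (hi : (i : ℕ) + 1 < n) : mk φ a y hn i (0, 0, 0) = 1 := by
  simp [mk, uL_zero, (H.piece (nx_ne hi)).y_zero]

theorem mem_mLift {i : Fin n} (hi : (i : ℕ) + 1 < n) {m : Q} (hm : m ∈ mLift φ a y hn i) :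
    ∃ c, m = mk φ a y hn i c := by
  induction hm using Subgroup.closure_induction with
  | mem x hx => obtain ⟨c, rfl⟩ := hx; exact ⟨c, rfl⟩
  | one => exact ⟨_, (mk_zero H hi).symm⟩
  | mul x z _ _ hx hz =>
    obtain ⟨c, rfl⟩ := hx
    obtain ⟨d, rfl⟩ := hz
    exact ⟨_, mk_mul H hi c d⟩
  | inv x _ hx =>
    obtain ⟨c, rfl⟩ := hx
    refine ⟨-c, inv_eq_of_mul_eq_one_right ?_⟩
    rw [mk_mul H hi, add_neg_cancel]
    exact mk_zero H hi

theorem mk_comm {i i' : Fin n} (hi : (i : ℕ) + 1 < n) (hi' : (i' : ℕ) + 1 < n) (c d : F × F × F) :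
    Commute (mk φ a y hn i c) (mk φ a y hn i' d) := by
  have h := nx_ne hi
  have h' := nx_ne hi'
  exact ((Commute.mul_left
    (((uL_uL H _ _ _ _).mul_right (uL_YY H _ h' _ _)).mul_right (uL_uL H _ _ _ _))
    (((uL_YY H _ h _ _).symm.mul_right (H.YY_comm _ _ _ _ _ _)).mul_right (uL_YY H _ h _ _).symm)).mul_left
    (((uL_uL H _ _ _ _).mul_right (uL_YY H _ h' _ _)).mul_right (uL_uL H _ _ _ _)))

include hπa hπφ hπy

theorem pi_mk {i : Fin n} (hi : (i : ℕ) + 1 < n) (c : F × F × F) :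
    π (mk φ a y hn i c) = plane i (uL c.1) * Ym i (nx i) c.2.1 * plane (nx i) (uL c.2.2) := by
  rw [mk, map_mul, map_mul, pi_phi H π hπa hπφ, pi_phi H π hπa hπφ, pi_YY H π hπa hπφ hπy (nx_ne hi)]

theorem mk_smul_bf {i : Fin n} (hi : (i : ℕ) + 1 < n) (c : F × F × F) (k l : Fin n) :
    (π (mk φ a y hn i c) • bf F k) (Sum.inl l) =
      (if l = i then (if k = i then c.1 else if k = nx i then c.2.1 else 0) else
        if l = nx i then (if k = nx i then c.2.2 else if k = i then c.2.1 else 0) else 0) := by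
  have h := nx_ne hi
  rw [pi_mk H π hπa hπφ hπy hi, mul_smul, mul_smul]
  simp only [plane_inl, plane_inr, Ym_inl, Ym_inr, uL_val, bf_inl, bf_inr]
  by_cases h1 : l = i <;> by_cases h2 : l = nx i <;> by_cases h3 : k = i <;> by_cases h4 : k = nx i <;>
    first
      | exact absurd (h1.symm.trans h2) h
      | exact absurd (h3.symm.trans h4) h
      | simp [h1, h2, h3, h4, h, h.symm, @eq_comm _ i k, @eq_comm _ (nx i) k]

theorem mk_smul_bf_inr {i : Fin n} (hi : (i : ℕ) + 1 < n) (c : F × F × F) (x : Fin n ⊕ Fin n → F) (l : Fin n) :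
    (π (mk φ a y hn i c) • x) (Sum.inr l) = x (Sum.inr l) := by
  rw [pi_mk H π hπa hπφ hπy hi, mul_smul, mul_smul]
  simp only [plane_inl, plane_inr, Ym_inl, Ym_inr, uL_val]
  by_cases h1 : l = i <;> by_cases h2 : l = nx i <;>
    first | exact absurd (h1.symm.trans h2) (nx_ne hi) | simp [h1, h2, nx_ne hi, (nx_ne hi).symm]

theorem mk_smul_be {i : Fin n} (hi : (i : ℕ) + 1 < n) (c : F × F × F) (k : Fin n) :
    π (mk φ a y hn i c) • be F k = be F k := by
  rw [pi_mk H π hπa hπφ hπy hi, mul_smul, mul_smul]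
  refine funext fun s => ?_
  rcases s with l | l <;> simp only [plane_inl, plane_inr, Ym_inl, Ym_inr, uL_val, be_inr] <;>
    by_cases h1 : l = i <;> by_cases h2 : l = nx i <;>
    first | exact absurd (h1.symm.trans h2) (nx_ne hi) | simp [h1, h2, be_inr, nx_ne hi, (nx_ne hi).symm]

theorem mk_mem_mImg {i : Fin n} (hi : (i : ℕ) + 1 < n) (c : F × F × F) : π (mk φ a y hn i c) ∈ mImg F i := by
  refine mem_mImg.2 ⟨mk_smul_be H π hπa hπφ hπy hi c, fun k h1 h2 => ?_⟩
  have e1 : k ≠ i := fun e => h1 (congrArg Fin.val e)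
  have e2 : k ≠ nx i := fun e => h2 (by rw [e, nx_val hi])
  refine funext fun s => ?_
  rcases s with l | l
  · rw [mk_smul_bf H π hπa hπφ hπy hi, bf_inl]; simp [e1, e2]
  · exact mk_smul_bf_inr H π hπa hπφ hπy hi c _ l

theorem map_mLift {i : Fin n} (hi : (i : ℕ) + 1 < n) : (mLift φ a y hn i).map π = mImg F i := by
  refine le_antisymm ?_ fun g hg => ?_
  · rintro _ ⟨m, hm, rfl⟩
    obtain ⟨c, rfl⟩ := mem_mLift H hi hm
    exact mk_mem_mImg H π hπa hπφ hπy hi c
  obtain ⟨c, t, d, rfl⟩ := mImg_le_product (nx_val hi) hg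
  refine ⟨mk φ a y hn i (-t, -c, -d), Subgroup.subset_closure ⟨_, rfl⟩, ?_⟩
  rw [pi_mk H π hπa hπφ hπy hi, sg_pair (nx_ne hi), sg_long, (model_piece (nx_ne hi)).yA]

theorem injOn_S (j : Fin n) : Set.InjOn π (phi φ a hn j).range := by
  rintro _ ⟨A, rfl⟩ _ ⟨B, rfl⟩ h
  rw [pi_phi H π hπa hπφ, pi_phi H π hπa hπφ] at h
  rw [plane_injective j h]

theorem injOn_M {i : Fin n} (hi : (i : ℕ) + 1 < n) : Set.InjOn π (mLift φ a y hn i) := by
  intro u hu v hv huv
  obtain ⟨c, rfl⟩ := mem_mLift H hi hu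
  obtain ⟨d, rfl⟩ := mem_mLift H hi hv
  have e := fun k l => congrFun (congrArg (fun z => z • (bf F k : Fin n ⊕ Fin n → F)) huv) (Sum.inl l)
  simp only [mk_smul_bf H π hπa hπφ hπy hi] at e
  have h := nx_ne hi
  have a0 := e i i
  have b0 := e i (nx i)
  have c0 := e (nx i) (nx i)
  simp [h, h.symm] at a0 b0 c0
  rw [show c = d from Prod.ext a0 (Prod.ext b0 c0)]

theorem injOn_MS (i j : Fin n) (hi : (i : ℕ) + 1 < n) :
    Set.InjOn π (mLift φ a y hn i ⊔ (phi φ a hn j).range : Subgroup Q) := by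
  have h := nx_ne hi
  by_cases hj : j = i ∨ j = nx i
  · obtain ⟨o, hoj, hM⟩ : ∃ o, o ≠ j ∧ mLift φ a y hn i ≤ Subgroup.closure (Set.range (YY φ a y hn o j) ∪
        (Set.range fun t => phi φ a hn o (uL t)) ∪ Set.range fun t => phi φ a hn j (uL t)) := by
      rcases hj with rfl | rfl
      · refine ⟨nx j, h.symm, (Subgroup.closure_le _).2 ?_⟩
        rintro _ ⟨c, rfl⟩
        refine mul_mem (mul_mem (Subgroup.subset_closure (Or.inr ⟨_, rfl⟩))
          (Subgroup.subset_closure (Or.inl (Or.inl ⟨c.2.1, ?_⟩)))) (Subgroup.subset_closure (Or.inl (Or.inr ⟨_, rfl⟩)))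
        exact H.YY_symm _ _ _
      · refine ⟨i, h, (Subgroup.closure_le _).2 ?_⟩
        rintro _ ⟨c, rfl⟩
        exact mul_mem (mul_mem (Subgroup.subset_closure (Or.inl (Or.inr ⟨_, rfl⟩)))
          (Subgroup.subset_closure (Or.inl (Or.inl ⟨c.2.1, rfl⟩)))) (Subgroup.subset_closure (Or.inr ⟨_, rfl⟩))
    rw [sup_comm]
    refine (H.piece hoj).injOn H.hω π (fun g a' b c hg => model_free hoj g a' b c ?_) hM
    simpa only [hMap, VV, map_mul, map_inv, pi_phi H π hπa hπφ, pi_YY H π hπa hπφ hπy hoj] using hg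
  · push Not at hj
    refine injOn_sup_of_comm π _ _ (fun m hm z hz => ?_) fun m hm z hz e => ?_
    · obtain ⟨c, rfl⟩ := mem_mLift H hi hm
      obtain ⟨A, rfl⟩ := hz
      exact ((show Commute _ _ from H.phi_comm hj.1.symm (uL c.1) A).mul_left
        (H.YY_phi h hj.1.symm hj.2.symm A c.2.1).symm).mul_left (H.phi_comm hj.2.symm (uL c.2.2) A)
    obtain ⟨c, rfl⟩ := mem_mLift H hi hm
    obtain ⟨A, rfl⟩ := hz
    rw [map_mul, pi_phi H π hπa hπφ, mul_eq_one_iff_eq_inv, ← map_inv] at e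
    have e2 := e
    generalize A⁻¹ = A' at e2
    have e' := fun k l => congrFun (congrArg (fun z => z • (bf F k : Fin n ⊕ Fin n → F)) e2) (Sum.inl l)
    simp only [mk_smul_bf H π hπa hπφ hπy hi] at e'
    have a0 := e' i i
    have b0 := e' i (nx i)
    have c0 := e' (nx i) (nx i)
    simp [plane_inl, bf_inl, h, h.symm, hj.1, hj.2, hj.1.symm, hj.2.symm] at a0 b0 c0
    have hc : mk φ a y hn i c = 1 := by
      rw [show c = (0, 0, 0) from Prod.ext a0 (Prod.ext b0 c0)]
      exact mk_zero H hi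
    rw [hc, map_one, eq_comm] at e
    have hA : A⁻¹ = 1 := plane_injective j (e.trans (map_one _).symm)
    rw [hc, inv_eq_one.1 hA, map_one, one_mul]

theorem injOn_SS (j l : Fin n) (h : j ≠ l) :
    Set.InjOn π ((phi φ a hn j).range ⊔ (phi φ a hn l).range : Subgroup Q) := by
  refine injOn_sup_of_comm π _ _ (fun x hx z hz => ?_) fun x hx z hz e => ?_
  · obtain ⟨A, rfl⟩ := hx
    obtain ⟨B, rfl⟩ := hz
    exact H.phi_comm h A B
  obtain ⟨A, rfl⟩ := hx
  obtain ⟨B, rfl⟩ := hz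
  rw [map_mul, pi_phi H π hπa hπφ, pi_phi H π hπa hπφ, mul_eq_one_iff_eq_inv, ← map_inv] at e
  have hA : A = 1 := by
    refine Subtype.ext ?_
    ext u v
    have e2 := e
    generalize B⁻¹ = B' at e2
    have e1 := fun x s => congrFun (congrArg (fun z => z • (x : Fin n ⊕ Fin n → F)) e2) s
    have f1 := e1 (be F j) (Sum.inl j)
    have f2 := e1 (be F j) (Sum.inr j)
    have f3 := e1 (bf F j) (Sum.inl j)
    have f4 := e1 (bf F j) (Sum.inr j)
    simp [plane_inl, plane_inr, be_inl, be_inr, bf_inl, bf_inr, h, h.symm] at f1 f2 f3 f4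
    fin_cases u <;> fin_cases v <;> simp [f1, f2, f3, f4]
  subst hA
  rw [map_one, eq_comm] at e
  have hB : B⁻¹ = 1 := plane_injective l (e.trans (map_one _).symm)
  rw [inv_eq_one.1 hB]
  simp

theorem injOn_MM_lt (i i' : Fin n) (hlt : (i : ℕ) < (i' : ℕ)) (hi : (i : ℕ) + 1 < n) (hi' : (i' : ℕ) + 1 < n) :
    Set.InjOn π (mLift φ a y hn i ⊔ mLift φ a y hn i' : Subgroup Q) := by
  refine injOn_sup_of_comm π _ _ (fun x hx z hz => ?_) fun x hx z hz e => ?_
  · obtain ⟨c, rfl⟩ := mem_mLift H hi hx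
    obtain ⟨d, rfl⟩ := mem_mLift H hi' hz
    exact mk_comm H hi hi' c d
  obtain ⟨c, rfl⟩ := mem_mLift H hi hx
  obtain ⟨d, rfl⟩ := mem_mLift H hi' hz
  rw [map_mul, mul_eq_one_iff_eq_inv, ← map_inv] at e
  have hd : (mk φ a y hn i' d)⁻¹ = mk φ a y hn i' (-d) := inv_eq_of_mul_eq_one_right (by
    rw [mk_mul H hi', add_neg_cancel]; exact mk_zero H hi')
  rw [hd] at e
  have e' := fun k l => congrFun (congrArg (fun z => z • (bf F k : Fin n ⊕ Fin n → F)) e) (Sum.inl l)
  simp only [mk_smul_bf H π hπa hπφ hπy hi, mk_smul_bf H π hπa hπφ hπy hi'] at e'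
  have v1 := nx_val hi
  have v2 := nx_val hi'
  have n1 : i ≠ i' := fun e => by rw [e] at hlt; omega
  have n2 : i ≠ nx i' := fun e => by rw [← e] at v2; omega
  have n3 : nx i ≠ nx i' := fun e => by rw [e] at v1; omega
  have h := nx_ne hi
  have h' := nx_ne hi'
  have a0 := e' i i
  have b0 := e' i (nx i)
  have b1 := e' (nx i') i'
  have c1 := e' (nx i') (nx i')
  have c0 := e' (nx i) (nx i)
  have a1 := e' i' i'
  simp [h, h.symm, h', h'.symm, n1, n1.symm, n2, n2.symm, n3, n3.symm] at a0 b0 b1 c1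
  by_cases hadj : nx i = i'
  · simp [hadj, h', h'.symm, n1, n1.symm, n2, n2.symm] at c0
    simp only [mk]
    rw [a0, b0, b1, c1, uL_zero, map_one, (H.piece h).y_zero, (H.piece h').y_zero, hadj, c0]
    simp [← map_mul, ← uL_add, uL_zero]
  · simp [h, h.symm, n1, n1.symm, n3, n3.symm, hadj, Ne.symm hadj] at c0
    simp [h', h'.symm, n1, n1.symm, hadj, Ne.symm hadj] at a1
    simp only [mk]
    rw [a0, b0, b1, c1, c0, a1, uL_zero, map_one, (H.piece h).y_zero, (H.piece h').y_zero, map_one]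
    simp

/-- The lifts. -/
noncomputable def lifts : Lifts n π where
  S k := (phi φ a hn k).range
  M i := mLift φ a y hn i
  imS j := by
    rw [MonoidHom.map_range, ← range_plane, show π.comp (phi φ a hn j) = plane j from
      MonoidHom.ext (pi_phi H π hπa hπφ j)]
  imM i hi := map_mLift H π hπa hπφ hπy hi
  injS := injOn_S H π hπa hπφ hπy
  injSS := injOn_SS H π hπa hπφ hπy
  injMM i i' hne hi hi' := by
    rcases lt_or_gt_of_ne (fun e : (i : ℕ) = i' => hne (Fin.ext e)) with h | h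
    · exact injOn_MM_lt H π hπa hπφ hπy i i' h hi hi'
    · rw [sup_comm]; exact injOn_MM_lt H π hπa hπφ hπy i' i h hi' hi
  injMS := injOn_MS H π hπa hπφ hπy

theorem lifts_iso : (lifts H π hπa hπφ hπy).Iso := by
  intro p q r hq hr
  set L := lifts H π hπa hπφ hπy
  have hp : (p : ℕ) + 1 < n := hq ▸ q.2
  have hq1 : (q : ℕ) + 1 < n := hr ▸ r.2
  have eq' : nx p = q := Fin.ext (by rw [nx_val hp, hq])
  have er : nx q = r := Fin.ext (by rw [nx_val hq1, hr])
  have hpq : p ≠ q := eq' ▸ nx_ne hp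
  have hqr : q ≠ r := er ▸ nx_ne hq1
  have hpr : p ≠ r := fun e => by rw [← e] at hr; omega
  have hY : ∀ t, YY φ a y hn q r t ∈ L.gen q := fun t => L.M_le_gen le_rfl hq1
    (Subgroup.subset_closure ⟨(0, t, 0), by simp [mk, er, uL_zero]⟩)
  have hV : ∀ k : Fin n, (q : ℕ) ≤ k → ∀ t, VV (phi φ a hn k) (YY φ a y hn q r) t ∈ L.gen q := fun k hk t =>
    mul_mem (mul_mem (L.S_le_gen hk ⟨_, rfl⟩) (hY t)) (inv_mem (L.S_le_gen hk ⟨_, rfl⟩))
  set V1 := VV (phi φ a hn q) (YY φ a y hn q r) 1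
  set V2 := VV (phi φ a hn r) (YY φ a y hn q r) 1
  set V2' := VV (phi φ a hn r) (YY φ a y hn q r) (-1)
  have hV2' : V2' = V2⁻¹ := by
    simp only [V2', V2, VV, (H.piece hqr).y_neg, cj_inv]
  have eV : ∀ k t, π (VV (phi φ a hn k) (YY φ a y hn q r) t) = VV (plane k) (Ym q r) t := fun k t => by
    simp only [VV, map_mul, map_inv, pi_phi H π hπa hπφ, pi_YY H π hπa hπφ hπy hqr]
  have eYm : Ym (F := F) q r = Ym r q := funext (Ym_symm q r)
  have e1 : ∀ l, (π V1 • be F q) (Sum.inl l) = be F q (Sum.inl l) + be F r (Sum.inl l) ∧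
      (π V1 • be F q) (Sum.inr l) = 0 := fun l => by
    simp only [V1, eV]
    rw [eYm, VVm_inl hqr.symm, VVm_inr hqr.symm]
    by_cases h1 : l = q <;> by_cases h2 : l = r <;>
      first | exact absurd (h1.symm.trans h2) hqr | simp [h1, h2, hqr, hqr.symm, be_inl, be_inr]
  refine ⟨V2' * V1, mul_mem (hV r (by omega) _) (hV q le_rfl _), V1, hV q le_rfl _, ?_, ?_, fun m hm hpm => ?_⟩
  · refine funext fun s => ?_
    rw [map_mul, mul_smul]
    simp only [V2', eV]
    rcases s with l | l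
    · rw [VVm_inl hqr, (e1 l).1, (e1 r).1]
      by_cases h1 : l = q <;> simp [h1, be_inl, hqr, hqr.symm]
    · rw [VVm_inr hqr, (e1 l).2, (e1 q).2, be_inr]
      simp
  · refine funext fun s => ?_
    rcases s with l | l
    · exact (e1 l).1
    · rw [(e1 l).2]; simp [be_inr]
  have hm' : m = (YY φ a y hn p q 1)⁻¹ := by
    rw [← (H.piece hpq).y_neg]
    refine (injOn_M H π hπa hπφ hπy hp) hm (Subgroup.subset_closure ⟨(0, -1, 0), ?_⟩) ?_
    · simp [mk, eq', uL_zero]
    · rw [hpm, pi_YY H π hπa hπφ hπy hpq, show be F q = (1 : F) • be F q from (one_smul F _).symm,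
        sg_pair hpq, neg_zero, uL_zero, map_one, mul_one]
  set A := YY φ a y hn p q 1
  set B := YY φ a y hn p r 1
  have h1 : V1 * A * V1⁻¹ = A * B := H.rel_iso hpq hpr hqr
  have h2 : V2 * B * V2⁻¹ = B * A := by
    have := H.rel_iso hpr hpq hqr.symm
    rwa [show YY φ a y hn r q = YY φ a y hn q r from funext (H.YY_symm r q)] at this
  have hAB : Commute A B := H.YY_comm _ _ _ _ _ _
  have hVA : Commute V2 A :=
    ((show Commute _ _ from H.YY_phi hpq hpr hqr tL 1).mul_left (H.YY_comm _ _ _ _ _ _)).mul_left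
      (Commute.inv_left (show Commute _ _ from H.YY_phi hpq hpr hqr tL 1))
  have h3 : V2⁻¹ * B * V2 = B * A⁻¹ := by
    calc V2⁻¹ * B * V2 = V2⁻¹ * (V2 * B * V2⁻¹ * A⁻¹) * V2 := by rw [h2, mul_inv_cancel_right]
      _ = B * (V2⁻¹ * A⁻¹ * V2) := by group
      _ = B * A⁻¹ := by rw [mul_assoc V2⁻¹, (hVA.inv_right).symm.eq, inv_mul_cancel_left]
  subst hm'
  rw [hV2', show V1 * A⁻¹ * V1⁻¹ = (V1 * A * V1⁻¹)⁻¹ from cj_inv _ _, h1,
    show V2⁻¹ * V1 * A⁻¹ * (V2⁻¹ * V1)⁻¹ = (V2⁻¹ * (V1 * A * V1⁻¹) * V2)⁻¹ by group, h1,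
    show V2⁻¹ * (A * B) * V2 = (V2⁻¹ * A * V2) * (V2⁻¹ * B * V2) by group, h3, mul_assoc V2⁻¹ A,
    hVA.symm.eq, inv_mul_cancel_left, ← mul_assoc, hAB.eq, mul_inv_cancel_right, _root_.mul_inv_rev]

theorem gen_eq_top (hgen : Subgroup.closure (Set.range a ∪ Set.range φ ∪ {y}) = ⊤) :
    (lifts H π hπa hπφ hπy).gen 0 = ⊤ := by
  set L := lifts H π hπa hπφ hπy
  have hS : ∀ k A, phi φ a hn k A ∈ L.gen 0 := fun k A => L.S_le_gen (Nat.zero_le _) ⟨A, rfl⟩
  have hY : ∀ i j : Fin n, (j : ℕ) = i + 1 → ∀ t, YY φ a y hn i j t ∈ L.gen 0 := fun i j hij t => by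
    have hi : (i : ℕ) + 1 < n := hij ▸ j.2
    have e : nx i = j := Fin.ext (by rw [nx_val hi, hij])
    exact L.M_le_gen (Nat.zero_le _) hi (Subgroup.subset_closure ⟨(0, t, 0), by simp [mk, e, uL_zero]⟩)
  have hW : ∀ i j : Fin n, (j : ℕ) = i + 1 → WW φ a y hn i j ∈ L.gen 0 ∧ WW φ a y hn j i ∈ L.gen 0 := by
    intro i j hij
    have hV : ∀ k t, VV (phi φ a hn k) (YY φ a y hn i j) t ∈ L.gen 0 := fun k t =>
      mul_mem (mul_mem (hS _ _) (hY i j hij t)) (inv_mem (hS _ _))
    refine ⟨mul_mem (mul_mem (hV _ _) (hV _ _)) (hV _ _), ?_⟩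
    rw [WW, show YY φ a y hn j i = YY φ a y hn i j from funext (H.YY_symm j i)]
    exact mul_mem (mul_mem (hV _ _) (hV _ _)) (hV _ _)
  have hcyc : ∀ g : alternatingGroup (Fin n), ∀ i, ∀ hi : i + 2 < n,
      (g : Perm (Fin n)) (p1 hn) = ⟨i + 1, by omega⟩ →
      ((g : Perm (Fin n)) (p0 hn) = ⟨i, by omega⟩ ∧ (g : Perm (Fin n)) (p2 hn) = ⟨i + 2, hi⟩ ∨
        (g : Perm (Fin n)) (p0 hn) = ⟨i + 2, hi⟩ ∧ (g : Perm (Fin n)) (p2 hn) = ⟨i, by omega⟩) →
      a (g * rot hn * g⁻¹) ∈ L.gen 0 := by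
    intro g i hi h1 h
    rw [H.rot_eq g, h1]
    rcases h with ⟨h0, h2⟩ | ⟨h0, h2⟩ <;> rw [h0, h2]
    · exact mul_mem (mul_mem (mul_mem (hW _ _ rfl).1 (hW _ _ rfl).1) (hS _ _)) (hS _ _)
    · exact mul_mem (mul_mem (mul_mem (hW _ _ rfl).2 (hW _ _ rfl).2) (hS _ _)) (hS _ _)
  have hA : ∀ g, a g ∈ L.gen 0 := by
    have key : alternatingGroup (Fin n) ≤ ((L.gen 0).comap a).map (alternatingGroup (Fin n)).subtype := by
      refine alt_le hn _ fun i hi => ?_
      set P : Fin n := ⟨i, by omega⟩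
      set R : Fin n := ⟨i + 2, hi⟩
      set M : Fin n := ⟨i + 1, by omega⟩
      obtain ⟨g, hg, hg2⟩ := exists_to21 (hn := hn) (i := P) (j := R) (k := M) (by simp [P, R, Fin.ext_iff])
        (by simp [P, M, Fin.ext_iff]) (by simp [R, M, Fin.ext_iff])
      set g' := g * rot hn
      have c1 : (g' : Perm (Fin n)) (p1 hn) = M := by
        show (g : Perm (Fin n)) ((rot hn : Perm (Fin n)) (p1 hn)) = M
        rw [rot_p1, hg2]
      have c0 : (g' : Perm (Fin n)) (p0 hn) = (g : Perm (Fin n)) (p1 hn) := congrArg (g : Perm (Fin n)) rot_p0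
      have c2 : (g' : Perm (Fin n)) (p2 hn) = (g : Perm (Fin n)) (p0 hn) := congrArg (g : Perm (Fin n)) rot_p2
      have hmem := hcyc g' i hi c1 (by rw [c0, c2]; tauto)
      have hval : ((g' * rot hn * g'⁻¹ : alternatingGroup (Fin n)) : Perm (Fin n)) =
          c3 ((g : Perm (Fin n)) (p1 hn)) M ((g : Perm (Fin n)) (p0 hn)) := by
        rw [← c0, ← c2, ← c1]
        exact c3_conj _ _ _ _
      rcases hg with ⟨e0, e1⟩ | ⟨e0, e1⟩
      · refine ⟨(g' * rot hn * g'⁻¹)⁻¹, (by show a _ ∈ L.gen 0; rw [map_inv]; exact inv_mem hmem), ?_⟩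
        show ((g' * rot hn * g'⁻¹ : alternatingGroup (Fin n)) : Perm (Fin n))⁻¹ = c3 P M R
        rw [hval, e0, e1, c3_inv]
      · refine ⟨g' * rot hn * g'⁻¹, hmem, ?_⟩
        show ((g' * rot hn * g'⁻¹ : alternatingGroup (Fin n)) : Perm (Fin n)) = c3 P M R
        rw [hval, e0, e1]
    intro g
    obtain ⟨g', hg', e⟩ := key g.2
    exact (Subtype.ext e : g' = g) ▸ hg'
  rw [eq_top_iff, ← hgen, Subgroup.closure_le]
  rintro _ ((⟨g, rfl⟩ | ⟨A, rfl⟩) | rfl)
  · exact hA g
  · rw [← H.phi_p0]; exact hS _ _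
  · have := hY (p0 hn) (p1 hn) rfl 1
    rwa [H.YY_base, yy_one] at this

/-- The slim relators define the symplectic group. -/
theorem bijective_of_slim (hgen : Subgroup.closure (Set.range a ∪ Set.range φ ∪ {y}) = ⊤) :
    Function.Bijective π := by
  obtain ⟨h1, h2⟩ := (lifts H π hπa hπφ hπy).injOn_gen_or (Or.inr (lifts_iso H π hπa hπφ hπy))
  rw [gen_eq_top H π hπa hπφ hπy hgen] at h1 h2
  exact ⟨fun u v h => h1 (Subgroup.mem_top u) (Subgroup.mem_top v) h, fun g => by
    obtain ⟨x, -, hx⟩ := h2.ge (Subgroup.mem_top g)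
    exact ⟨x, hx⟩⟩

end Bound

/-! ### The presentation -/

theorem exists_stab (hn : 3 ≤ n) : ∃ u : alternatingGroup (Fin n) × alternatingGroup (Fin n),
    (∀ g ∈ [u.1, u.2], (g : Perm (Fin n)) (p0 hn) = p0 hn) ∧
      ∀ g : alternatingGroup (Fin n), (g : Perm (Fin n)) (p0 hn) = p0 hn →
        g ∈ Subgroup.closure ({u.1, u.2} : Set (alternatingGroup (Fin n))) := by
  obtain ⟨k, rfl⟩ : ∃ k, n = k + 1 := ⟨n - 1, by omega⟩
  obtain ⟨u, v, hu, hv, h⟩ := exists_point_stab k
  refine ⟨(u, v), fun g hg => ?_, h⟩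
  rcases List.mem_pair.1 hg with rfl | rfl
  exacts [hu, hv]

theorem pair_iff (hn : 3 ≤ n) (g : Perm (Fin n)) :
    (∀ x : Fin n, (x : ℕ) < 2 → ((g x : ℕ) < 2)) ↔
      (g (p0 hn) = p0 hn ∧ g (p1 hn) = p1 hn ∨ g (p0 hn) = p1 hn ∧ g (p1 hn) = p0 hn) := by
  have two : ∀ x : Fin n, (x : ℕ) < 2 ↔ x = p0 hn ∨ x = p1 hn := fun x => by
    simp [p0, p1, Fin.ext_iff]; omega
  simp only [two]
  constructor
  · intro h
    rcases h _ (Or.inl rfl) with a | a <;> rcases h _ (Or.inr rfl) with b | b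
    · exact absurd (g.injective (a.trans b.symm)) p01
    · exact Or.inl ⟨a, b⟩
    · exact Or.inr ⟨a, b⟩
    · exact absurd (g.injective (a.trans b.symm)) p01
  · rintro (⟨a, b⟩ | ⟨a, b⟩) x (rfl | rfl) <;> simp [a, b]

theorem exists_pair (hn : 3 ≤ n) : ∃ v : alternatingGroup (Fin n) × alternatingGroup (Fin n),
    (∀ g ∈ [v.1, v.2], (g : Perm (Fin n)) (p0 hn) = p0 hn ∧ (g : Perm (Fin n)) (p1 hn) = p1 hn ∨
      (g : Perm (Fin n)) (p0 hn) = p1 hn ∧ (g : Perm (Fin n)) (p1 hn) = p0 hn) ∧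
      ∀ g : alternatingGroup (Fin n),
        ((g : Perm (Fin n)) (p0 hn) = p0 hn ∧ (g : Perm (Fin n)) (p1 hn) = p1 hn ∨
          (g : Perm (Fin n)) (p0 hn) = p1 hn ∧ (g : Perm (Fin n)) (p1 hn) = p0 hn) →
        g ∈ Subgroup.closure ({v.1, v.2} : Set (alternatingGroup (Fin n))) := by
  obtain ⟨m, rfl⟩ : ∃ m, n = 2 + m := ⟨n - 2, by omega⟩
  obtain ⟨u, v, hu, hv, h⟩ := exists_pair_stab m
  refine ⟨(u, v), fun g hg => (pair_iff hn _).1 ?_, fun g hg => h g ((pair_iff hn _).2 hg)⟩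
  rcases List.mem_pair.1 hg with rfl | rfl
  exacts [hu, hv]

theorem exists_two_gen_sl [Fintype F] :
    ∃ s : SL(2, F) × SL(2, F), Subgroup.closure ({s.1, s.2} : Set SL(2, F)) = ⊤ := by
  classical
  by_cases h4 : 4 ≤ Fintype.card F
  · obtain ⟨x, z, h⟩ := two_gen_two h4
    exact ⟨(x, z), h⟩
  refine ⟨(uL 1, tL), ?_⟩
  set K := Subgroup.closure ({uL 1, tL} : Set SL(2, F))
  have hp : (Nat.card F).Prime := by
    rw [Nat.card_eq_fintype_card]
    have := Fintype.one_lt_card (α := F)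
    rcases (by omega : Fintype.card F = 2 ∨ Fintype.card F = 3) with h | h <;> rw [h] <;> norm_num
  have : Fact (Nat.card F).Prime := ⟨hp⟩
  have hu : ∀ x : F, uL x ∈ K := by
    let A : AddSubgroup F :=
      { carrier := {x | uL x ∈ K}
        zero_mem' := by simp [uL_zero]
        add_mem' := fun {x z} hx hz => show uL (x + z) ∈ K by rw [uL_add]; exact mul_mem hx hz
        neg_mem' := fun {x} hx => show uL (-x) ∈ K by rw [Sp4.uL_neg]; exact inv_mem hx }
    rcases AddSubgroup.eq_bot_or_eq_top_of_prime_card A with h | h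
    · have : (1 : F) ∈ A := (Subgroup.subset_closure (Or.inl rfl) : uL (1 : F) ∈ K)
      rw [h] at this
      exact absurd (AddSubgroup.mem_bot.1 this) one_ne_zero
    · exact fun x => show x ∈ A from h ▸ AddSubgroup.mem_top x
  have ht : (tL : SL(2, F)) ∈ K := Subgroup.subset_closure (Or.inr rfl)
  obtain ⟨ω, hω⟩ := IsCyclic.exists_generator (α := Fˣ)
  refine closure_eq_top ω hω K hu ?_ ht
  have hc : Fintype.card Fˣ ≤ 2 := by rw [Fintype.card_units]; omega
  have hdvd : orderOf ω ∣ 2 := by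
    have h1 := orderOf_pos ω
    have h2 := (orderOf_le_card_univ (x := ω)).trans hc
    rcases (by omega : orderOf ω = 1 ∨ orderOf ω = 2) with h | h <;> simp [h]
  have hsq : (ω : F) ^ 2 = 1 := by
    rw [← Units.val_pow_eq_pow_val, orderOf_dvd_iff_pow_eq_one.1 hdvd, Units.val_one]
  rcases sq_eq_one_iff.1 hsq with h | h
  · rw [show ω = 1 from Units.ext h, map_one]; exact one_mem _
  · rw [show ω = -1 from Units.ext (by simp [h]), ← tL_sq]; exact mul_mem ht ht

/-- A presentation maps into a bigger one. -/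
theorem exists_incl {α β : Type*} (ι : α → β) {R : Set (FreeGroup α)} {S : Set (FreeGroup β)}
    (h : ∀ r ∈ R, FreeGroup.map ι r ∈ S) :
    ∃ f : PresentedGroup R →* PresentedGroup S,
      ∀ w, f (PresentedGroup.mk R w) = PresentedGroup.mk S (FreeGroup.map ι w) := by
  have hl : FreeGroup.lift (fun i => (PresentedGroup.of (ι i) : PresentedGroup S)) =
      (PresentedGroup.mk S).comp (FreeGroup.map ι) :=
    FreeGroup.ext_hom _ _ fun i => by simp [PresentedGroup.of]
  refine ⟨PresentedGroup.toGroup (f := fun i => (PresentedGroup.of (ι i) : PresentedGroup S)) fun r hr => ?_,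
    fun w => ?_⟩
  · rw [hl, MonoidHom.comp_apply]
    exact PresentedGroup.one_of_mem (h r hr)
  · exact DFunLike.congr_fun hl w

/-- `Sp_{2n}` on six generators, given `A_n` on two. -/
theorem slim_presentation [Fintype F] (hn : 3 ≤ n) {r : ℕ} (RA : Finset (FreeGroup (Fin 2))) (hRA : RA.card ≤ r)
    (eA : PresentedGroup (↑RA : Set (FreeGroup (Fin 2))) ≃* alternatingGroup (Fin n)) :
    ∃ rels : Finset (FreeGroup (Fin 6)), rels.card ≤ r + 32 ∧
      Nonempty (PresentedGroup (↑rels : Set (FreeGroup (Fin 6))) ≃* Matrix.symplecticGroup (Fin n) F) := by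
  classical
  obtain ⟨⟨RL, hRL, ⟨eL⟩⟩, -, -⟩ := Cfsg.Agent.S2286.result (F := F)
  obtain ⟨ω, hω⟩ := IsCyclic.exists_generator (α := Fˣ)
  obtain ⟨u, hu1, hu⟩ := exists_stab hn
  obtain ⟨v, hv1, hv⟩ := exists_pair hn
  obtain ⟨s, hs⟩ := exists_two_gen_sl (F := F)
  choose wA hwA using fun g => PresentedGroup.mk_surjective (↑RA : Set (FreeGroup (Fin 2))) (eA.symm g)
  choose wL hwL using fun A => PresentedGroup.mk_surjective (↑RL : Set (FreeGroup (Fin 3))) (eL.symm A)
  let iA : Fin 2 → Fin 6 := fun i => Fin.castAdd 4 i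
  let iL : Fin 3 → Fin 6 := fun i => Fin.natAdd 2 (Fin.castAdd 1 i)
  let iy : Fin 6 := 5
  set rels : Finset (FreeGroup (Fin 6)) := RA.image (FreeGroup.map iA) ∪ RL.image (FreeGroup.map iL) ∪
    (slimRels hn (FreeGroup.map iA ∘ wA) (FreeGroup.map iL ∘ wL) (FreeGroup.of iy) ω u v s).toFinset with hrels
  refine ⟨rels, ?_, ?_⟩
  · refine (Finset.card_union_le _ _).trans ?_
    have h1 : (RA.image (FreeGroup.map iA)).card ≤ r := Finset.card_image_le.trans hRA
    have h2 : (RL.image (FreeGroup.map iL)).card ≤ 9 := Finset.card_image_le.trans hRL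
    have h3 := (List.toFinset_card_le _).trans_eq
      (length_slimRels hn (FreeGroup.map iA ∘ wA) (FreeGroup.map iL ∘ wL) (FreeGroup.of iy) ω u v s)
    have := Finset.card_union_le (RA.image (FreeGroup.map iA)) (RL.image (FreeGroup.map iL))
    omega
  set S : Set (FreeGroup (Fin 6)) := ↑rels with hS
  obtain ⟨fA, hfA⟩ := exists_incl iA (R := ↑RA) (S := S) fun x hx => by
    simp only [hS, hrels, Finset.coe_union, Finset.coe_image]
    exact Or.inl (Or.inl ⟨x, hx, rfl⟩)
  obtain ⟨fL, hfL⟩ := exists_incl iL (R := ↑RL) (S := S) fun x hx => by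
    simp only [hS, hrels, Finset.coe_union, Finset.coe_image]
    exact Or.inl (Or.inr ⟨x, hx, rfl⟩)
  let a : alternatingGroup (Fin n) →* PresentedGroup S := fA.comp eA.symm.toMonoidHom
  let φ : SL(2, F) →* PresentedGroup S := fL.comp eL.symm.toMonoidHom
  let y : PresentedGroup S := PresentedGroup.of iy
  have ea : ⇑(PresentedGroup.mk S) ∘ (⇑(FreeGroup.map iA) ∘ wA) = ⇑a := funext fun g => by
    show _ = fA (eA.symm g)
    rw [← hwA, hfA]
    rfl
  have eφ : ⇑(PresentedGroup.mk S) ∘ (⇑(FreeGroup.map iL) ∘ wL) = ⇑φ := funext fun A => by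
    show _ = fL (eL.symm A)
    rw [← hwL, hfL]
    rfl
  have H : Hyp hn a φ y := {
    ω := ω
    u := u
    v := v
    s := s
    hω := hω
    hu := hu
    hv := hv
    hs := hs
    hG := fun x hx => by
      rw [← ea, ← eφ, show y = PresentedGroup.mk S (FreeGroup.of iy) from rfl, ← map_slimRels, List.mem_map] at hx
      obtain ⟨w, hw, rfl⟩ := hx
      refine PresentedGroup.one_of_mem ?_
      simp only [hS, hrels, Finset.coe_union, List.coe_toFinset]
      exact Or.inr hw }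
  -- generators in the model
  let gA : Fin 2 → SpB (sympBilin n F) := fun i => aM (eA (PresentedGroup.of i))
  let gL : Fin 3 → SpB (sympBilin n F) := fun i => plane (p0 hn) (eL (PresentedGroup.of i))
  let g : Fin 6 → SpB (sympBilin n F) :=
    ![gA 0, gA 1, gL 0, gL 1, gL 2, Ym (p0 hn) (p1 hn) 1]
  have hgA : (FreeGroup.lift g).comp (FreeGroup.map iA) = (aM.comp eA.toMonoidHom).comp (PresentedGroup.mk _) :=
    FreeGroup.ext_hom _ _ fun i => by
      fin_cases i <;> simp [iA, g, gA, PresentedGroup.of] <;> rfl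
  have hgL : (FreeGroup.lift g).comp (FreeGroup.map iL) =
      ((plane (p0 hn)).comp eL.toMonoidHom).comp (PresentedGroup.mk _) :=
    FreeGroup.ext_hom _ _ fun i => by
      fin_cases i <;> simp [iL, g, gL, PresentedGroup.of] <;> rfl
  have hrel : ∀ x ∈ S, FreeGroup.lift g x = 1 := by
    intro x hx
    simp only [hS, hrels, Finset.coe_union, Set.mem_union, Finset.mem_coe, Finset.mem_image, List.mem_toFinset] at hx
    rcases hx with (⟨w, hw, rfl⟩ | ⟨w, hw, rfl⟩) | hx
    · rw [← MonoidHom.comp_apply, hgA, MonoidHom.comp_apply, PresentedGroup.one_of_mem (Finset.mem_coe.2 hw),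
        map_one]
    · rw [← MonoidHom.comp_apply, hgL, MonoidHom.comp_apply, PresentedGroup.one_of_mem (Finset.mem_coe.2 hw),
        map_one]
    · have h1 : ⇑(FreeGroup.lift g) ∘ (⇑(FreeGroup.map iA) ∘ wA) = ⇑(aM (F := F) (n := n)) := funext fun c => by
        show ((FreeGroup.lift g).comp (FreeGroup.map iA)) (wA c) = _
        rw [hgA]; simp [hwA]
      have h2 : ⇑(FreeGroup.lift g) ∘ (⇑(FreeGroup.map iL) ∘ wL) = ⇑(plane (F := F) (p0 hn)) := funext fun A => by
        show ((FreeGroup.lift g).comp (FreeGroup.map iL)) (wL A) = _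
        rw [hgL]; simp [hwL]
      have hy : FreeGroup.lift g (FreeGroup.of iy) = Ym (p0 hn) (p1 hn) 1 := by simp [g, iy]
      have := List.mem_map_of_mem (f := FreeGroup.lift g) hx
      rw [map_slimRels, h1, h2, hy] at this
      exact model_slim hn ω u v s hu1 hv1 _ this
  let π : PresentedGroup S →* SpB (sympBilin n F) := PresentedGroup.toGroup hrel
  have hπmk : ∀ w, π (PresentedGroup.mk S w) = FreeGroup.lift g w := fun w => by
    refine DFunLike.congr_fun (FreeGroup.ext_hom _ _ fun i => ?_ :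
      π.comp (PresentedGroup.mk S) = FreeGroup.lift g) w
    simp only [MonoidHom.comp_apply, FreeGroup.lift_apply_of]
    exact PresentedGroup.toGroup.of _
  have hπa : ∀ c, π (a c) = aM c := fun c => by
    rw [← congrFun ea c, Function.comp_apply, hπmk, Function.comp_apply, ← MonoidHom.comp_apply, hgA]
    simp [hwA]
  have hπφ : ∀ A, π (φ A) = plane (p0 hn) A := fun A => by
    rw [← congrFun eφ A, Function.comp_apply, hπmk, Function.comp_apply, ← MonoidHom.comp_apply, hgL]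
    simp [hwL]
  have hπy : π y = Ym (p0 hn) (p1 hn) 1 := by
    rw [show y = PresentedGroup.mk S (FreeGroup.of iy) from rfl, hπmk]
    simp [g, iy]
  have hgen : Subgroup.closure (Set.range a ∪ Set.range φ ∪ {y}) = ⊤ := by
    rw [eq_top_iff, ← PresentedGroup.closure_range_of S, Subgroup.closure_le]
    rintro _ ⟨i, rfl⟩
    refine Subgroup.subset_closure ?_
    have hA : ∀ j, (PresentedGroup.of (iA j) : PresentedGroup S) ∈ Set.range a := fun j =>
      ⟨eA (PresentedGroup.of j), by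
        show fA (eA.symm (eA _)) = _
        rw [eA.symm_apply_apply]
        exact (hfA (FreeGroup.of j)).trans (by simp [PresentedGroup.of])⟩
    have hL : ∀ j, (PresentedGroup.of (iL j) : PresentedGroup S) ∈ Set.range φ := fun j =>
      ⟨eL (PresentedGroup.of j), by
        show fL (eL.symm (eL _)) = _
        rw [eL.symm_apply_apply]
        exact (hfL (FreeGroup.of j)).trans (by simp [PresentedGroup.of])⟩
    induction i using Fin.addCases (m := 2) (n := 4) with
    | left i => exact Or.inl (Or.inl (hA i))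
    | right i =>
      induction i using Fin.addCases (m := 3) (n := 1) with
      | left i => exact Or.inl (Or.inr (hL i))
      | right i =>
        obtain rfl : i = 0 := Subsingleton.elim _ _
        exact Or.inr rfl
  exact ⟨(MulEquiv.ofBijective π (bijective_of_slim H π hπa hπφ hπy hgen)).trans
    (symplecticEquiv (m := n) (F := F)).symm⟩

theorem alt_three : Pres (alternatingGroup (Fin 3)) 1 := by
  have hn : 3 ≤ 3 := le_rfl
  have hcard : Nat.card (alternatingGroup (Fin 3)) = 3 := by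
    rw [Nat.card_eq_fintype_card]; decide
  refine Pres.of_card (g := ![rot hn]) (R := [FreeGroup.of 0 * FreeGroup.of 0 * FreeGroup.of 0]) (by simp) ?_ ?_
    fun Q _ g' hgen hrel => ?_
  · have : Fact (Nat.card (alternatingGroup (Fin 3))).Prime := ⟨by rw [hcard]; norm_num⟩
    rcases Subgroup.eq_bot_or_eq_top_of_prime_card (Subgroup.closure (Set.range ![rot hn])) with h | h
    · exfalso
      have hm : rot hn ∈ Subgroup.closure (Set.range ![rot hn]) := Subgroup.subset_closure ⟨0, rfl⟩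
      rw [h, Subgroup.mem_bot] at hm
      have := congrArg (fun z : alternatingGroup (Fin 3) => (z : Perm (Fin 3)) (p0 hn)) hm
      simp only [rot_p0, OneMemClass.coe_one, Perm.one_apply] at this
      exact p01 this.symm
    · exact h
  · intro w hw
    obtain rfl := List.mem_singleton.1 hw
    simp only [map_mul, FreeGroup.lift_apply_of, Matrix.cons_val_zero]
    decide +revert
  · have h3 : g' 0 ^ 3 = 1 := by
      have := hrel _ (List.mem_singleton.2 rfl)
      simpa [pow_succ, pow_zero] using this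
    have hz : Subgroup.zpowers (g' 0) = ⊤ := by
      rw [Subgroup.zpowers_eq_closure, ← hgen]
      congr 1
      ext x
      simp [eq_comm]
    have hfo : IsOfFinOrder (g' 0) := isOfFinOrder_iff_pow_eq_one.2 ⟨3, by norm_num, h3⟩
    have : Finite (Subgroup.zpowers (g' 0)) := hfo.finite_zpowers.to_subtype
    have e := (Subgroup.topEquiv (G := Q)).toEquiv
    rw [← hz] at e
    refine ⟨Finite.of_equiv _ e, ?_⟩
    rw [← Nat.card_congr e, Nat.card_zpowers, hcard]
    exact Nat.le_of_dvd (by norm_num) (orderOf_dvd_of_pow_eq_one h3)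

/-- `A_n` on two generators with at most twenty-two relators, three if `n = 3`. -/
theorem alt_two_presentation (hn : 3 ≤ n) : ∃ RA : Finset (FreeGroup (Fin 2)),
    RA.card ≤ (if n = 3 then 3 else 22) ∧
      Nonempty (PresentedGroup (↑RA : Set (FreeGroup (Fin 2))) ≃* alternatingGroup (Fin n)) := by
  obtain ⟨u, v, huv⟩ := exists_two_gen_alt n
  split_ifs with h
  · subst h
    obtain ⟨RA, h1, e, -, -⟩ := alt_three.twoGen huv
    exact ⟨RA, h1, ⟨e⟩⟩
  · obtain ⟨m, rfl⟩ : ∃ m, n = 2 + m := ⟨n - 2, by omega⟩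
    obtain ⟨RA, h1, e, -, -⟩ :=
      ((alt_pres m).of_equiv (Equiv.altCongrHom (finSumFinEquiv : Fin 2 ⊕ Fin m ≃ Fin (2 + m)))).twoGen huv
    exact ⟨RA, h1, ⟨e⟩⟩

/-- One more generator for one more relator. -/
theorem pad {G : Type*} [Group G] {k r : ℕ}
    (h : ∃ rels : Finset (FreeGroup (Fin k)), rels.card ≤ r ∧
      Nonempty (PresentedGroup (↑rels : Set (FreeGroup (Fin k))) ≃* G)) :
    ∃ rels : Finset (FreeGroup (Fin (k + 1))), rels.card ≤ r + 1 ∧
      Nonempty (PresentedGroup (↑rels : Set (FreeGroup (Fin (k + 1)))) ≃* G) := by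
  classical
  obtain ⟨R, hR, ⟨e⟩⟩ := h
  set R' := insert (FreeGroup.of (Fin.last k)) (R.image (FreeGroup.map Fin.castSucc)) with hR'
  refine ⟨R', ((Finset.card_insert_le _ _).trans (Nat.succ_le_succ Finset.card_image_le)).trans
    (Nat.succ_le_succ hR), ?_⟩
  obtain ⟨f, hf⟩ := exists_incl (Fin.castSucc (n := k)) (R := (↑R : Set (FreeGroup (Fin k))))
      (S := (↑R' : Set (FreeGroup (Fin (k + 1))))) fun x hx => by
    simp only [hR', Finset.coe_insert, Finset.coe_image]
    exact Or.inr ⟨x, hx, rfl⟩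
  let g : Fin (k + 1) → PresentedGroup (↑R : Set (FreeGroup (Fin k))) := Fin.snoc PresentedGroup.of 1
  have hc : (FreeGroup.lift g).comp (FreeGroup.map Fin.castSucc) = PresentedGroup.mk _ :=
    FreeGroup.ext_hom _ _ fun i => by simp [g, PresentedGroup.of]
  have hrel : ∀ x ∈ (↑R' : Set (FreeGroup (Fin (k + 1)))), FreeGroup.lift g x = 1 := by
    intro x hx
    simp only [hR', Finset.coe_insert, Finset.coe_image, Set.mem_insert_iff, Set.mem_image] at hx
    rcases hx with rfl | ⟨w, hw, rfl⟩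
    · simp [g]
    · rw [← MonoidHom.comp_apply, hc]
      exact PresentedGroup.one_of_mem hw
  let b := PresentedGroup.toGroup hrel
  refine ⟨(b.toMulEquiv f (PresentedGroup.ext fun i => ?_) (PresentedGroup.ext fun i => ?_)).trans e⟩
  · rw [MonoidHom.comp_apply, MonoidHom.id_apply, PresentedGroup.toGroup.of]
    induction i using Fin.lastCases with
    | last =>
      simp only [g, Fin.snoc_last, map_one]
      exact (PresentedGroup.one_of_mem (by simp [hR'])).symm
    | cast i =>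
      simp only [g, Fin.snoc_castSucc]
      exact (hf (FreeGroup.of i)).trans (by simp [PresentedGroup.of])
  · rw [MonoidHom.comp_apply, MonoidHom.id_apply]
    refine (congrArg b ((hf (FreeGroup.of i)).trans
      (by simp [PresentedGroup.of] :
        _ = (PresentedGroup.of i.castSucc : PresentedGroup (↑R' : Set (FreeGroup (Fin (k + 1)))))))).trans ?_
    exact (PresentedGroup.toGroup.of hrel).trans (by simp [g])

theorem center_cyclic [Fintype F] (hn : 2 ≤ n) : IsCyclic (Subgroup.center (Matrix.symplecticGroup (Fin n) F)) := by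
  have h := Cfsg.Agent.AutPSp.card_center (F := F) (m := n) hn
  rcases (Nat.dvd_prime Nat.prime_two).1 (Nat.gcd_dvd_left 2 (Fintype.card F - 1)) with h1 | h2
  · rw [h1] at h
    have := (Nat.card_eq_one_iff_unique.1 h).1
    infer_instance
  · rw [h2] at h
    have : Fact (Nat.Prime 2) := ⟨Nat.prime_two⟩
    exact isCyclic_of_prime_card h

/-- `Sp_{2n}` and `PSp_{2n}` on six generators. -/
theorem sp_presentations [Fintype F] (hn : 3 ≤ n) :
    (∃ rels : Finset (FreeGroup (Fin 6)), rels.card ≤ (if n = 3 then 35 else 54) ∧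
      Nonempty (PresentedGroup (↑rels : Set (FreeGroup (Fin 6))) ≃* Matrix.symplecticGroup (Fin n) F)) ∧
    ∃ rels : Finset (FreeGroup (Fin 6)), rels.card ≤ (if n = 3 then 36 else 55) ∧
      Nonempty (PresentedGroup (↑rels : Set (FreeGroup (Fin 6))) ≃* Cfsg.PSp n F) := by
  obtain ⟨RA, hRA, ⟨eA⟩⟩ := alt_two_presentation hn
  obtain ⟨rels, hcard, ⟨e⟩⟩ := slim_presentation (F := F) hn RA hRA eA
  refine ⟨⟨rels, hcard.trans (by split_ifs <;> simp), ⟨e⟩⟩, ?_⟩
  obtain ⟨z, hz⟩ := exists_normalClosure_center (center_cyclic (F := F) (n := n) (by omega))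
  obtain ⟨rels', hcard', ⟨e'⟩⟩ := presented_quotient e _ z hz
  refine ⟨rels', ?_, ⟨e'⟩⟩
  split_ifs at hcard ⊢ <;> omega

end Cfsg.Agent.BoundedPres.Slim
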