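import Cfsg.Agent.Lib.BoundedPres.SpPiece
import Cfsg.Agent.Lib.BoundedPres.AltTwo

/-!
# The twenty-three relators of the slim presentation of `Sp_{2n}`

A copy `a` of `A_n`, one long root copy `φ` of `SL₂` at the plane `0` and one element `y` at the pair
of planes `{0, 1}`. The relators give, by conjugation, a coherent family of copies of `SL₂` at all
planes and of root subgroups at all pairs, with all the relations of the slim amalgam.
-/

set_option autoImplicit false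
set_option linter.unusedSectionVars false

namespace Cfsg.Agent.BoundedPres.Slim

open Matrix SL2Presentation Equiv
open scoped MatrixGroups

theorem cj_inv {X : Type*} [Group X] (g x : X) : g * x⁻¹ * g⁻¹ = (g * x * g⁻¹)⁻¹ := by group

/-- An injective tuple can be moved to another. -/
theorem exists_perm_map {α : Type*} [Fintype α] [DecidableEq α] {k : ℕ} (f g : Fin k ↪ α) :
    ∃ σ : Perm α, ∀ i, σ (f i) = g i := by
  classical
  let e : {x // x ∈ Set.range f} ≃ {x // x ∈ Set.range g} :=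
    (Equiv.ofInjective f f.injective).symm.trans (Equiv.ofInjective g g.injective)
  refine ⟨e.extendSubtype, fun i => ?_⟩
  rw [Equiv.extendSubtype_apply_of_mem e (f i) ⟨i, rfl⟩]
  simp [e, Equiv.ofInjective_symm_apply]

theorem alt_or_mul_swap {α : Type*} [Fintype α] [DecidableEq α] (σ : Perm α) {x y : α} (h : x ≠ y) :
    Perm.sign σ = 1 ∨ Perm.sign (σ * swap x y) = 1 := by
  rcases Int.units_eq_one_or (Perm.sign σ) with e | e
  · exact Or.inl e
  · exact Or.inr (by rw [map_mul, Perm.sign_swap h, e]; decide)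

variable {F : Type*} [Field F] {n : ℕ}

section Points

/-- Plane `0`. -/
def p0 (hn : 3 ≤ n) : Fin n := ⟨0, by omega⟩
/-- Plane `1`. -/
def p1 (hn : 3 ≤ n) : Fin n := ⟨1, by omega⟩
/-- Plane `2`. -/
def p2 (hn : 3 ≤ n) : Fin n := ⟨2, by omega⟩

variable {hn : 3 ≤ n}

theorem p01 : p0 hn ≠ p1 hn := by simp [p0, p1]
theorem p02 : p0 hn ≠ p2 hn := by simp [p0, p2]
theorem p12 : p1 hn ≠ p2 hn := by simp [p1, p2]

/-- The cycle `0 ↦ 1 ↦ 2`. -/
def rot (hn : 3 ≤ n) : alternatingGroup (Fin n) :=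
  ⟨c3 (p0 hn) (p1 hn) (p2 hn), sign_c3 p01 p12⟩

/-- `(0 2)(1 3)`. -/
def shift2 (h4 : 4 ≤ n) : alternatingGroup (Fin n) :=
  ⟨swap (⟨0, by omega⟩ : Fin n) ⟨2, by omega⟩ * swap (⟨1, by omega⟩ : Fin n) ⟨3, by omega⟩, by
    rw [Perm.mem_alternatingGroup, map_mul, Perm.sign_swap (by simp), Perm.sign_swap (by simp)]; decide⟩

theorem rot_p0 : (rot hn : Perm (Fin n)) (p0 hn) = p1 hn := c3_apply_left p01 p02
theorem rot_p1 : (rot hn : Perm (Fin n)) (p1 hn) = p2 hn := c3_apply_mid p02 p12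
theorem rot_p2 : (rot hn : Perm (Fin n)) (p2 hn) = p0 hn := c3_apply_right

theorem rot2_p0 : ((rot hn * rot hn : alternatingGroup (Fin n)) : Perm (Fin n)) (p0 hn) = p2 hn := by
  show (rot hn : Perm (Fin n)) ((rot hn : Perm (Fin n)) (p0 hn)) = _
  rw [rot_p0, rot_p1]

theorem rot2_p1 : ((rot hn * rot hn : alternatingGroup (Fin n)) : Perm (Fin n)) (p1 hn) = p0 hn := by
  show (rot hn : Perm (Fin n)) ((rot hn : Perm (Fin n)) (p1 hn)) = _
  rw [rot_p1, rot_p2]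

end Points

section Raw

variable {X : Type*} [Group X] (hn : 3 ≤ n) (a : alternatingGroup (Fin n) → X) (l : SL(2, F) → X) (y : X)

/-- Conjugation by a permutation. -/
def cA (g : alternatingGroup (Fin n)) (x : X) : X := a g * x * (a g)⁻¹

/-- The copy at plane `1`. -/
def l1 (A : SL(2, F)) : X := cA a (rot hn) (l A)

/-- The copy at plane `2`. -/
def l2 (A : SL(2, F)) : X := cA a (rot hn * rot hn) (l A)

/-- The element at `{1, 2}`. -/
def y12 : X := cA a (rot hn) y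

/-- The element at `{0, 2}`. -/
def y02 : X := cA a (rot hn * rot hn) y

/-- A signed transposition of the planes `0` and `1`. -/
def w01 : X :=
  l1 hn a l tL * y * (l1 hn a l tL)⁻¹ * (l tL * y⁻¹ * (l tL)⁻¹) * (l1 hn a l tL * y * (l1 hn a l tL)⁻¹)

/-- The twenty-three relators. -/
def slimRels (ω : Fˣ) (u v : alternatingGroup (Fin n) × alternatingGroup (Fin n)) (s : SL(2, F) × SL(2, F)) :
    List X :=
  ([u.1, u.2].flatMap fun g => [s.1, s.2].map fun A => a g * l A * (a g)⁻¹ * (l A)⁻¹) ++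
  ([s.1, s.2].flatMap fun A => [s.1, s.2].map fun B => l A * l1 hn a l B * (l1 hn a l B * l A)⁻¹) ++
  [l1 hn a l (dL ω) * y * (l1 hn a l (dL ω))⁻¹ * (l (dL ω) * y * (l (dL ω))⁻¹)⁻¹,
    l (uL 1) * y * (y * l (uL 1))⁻¹,
    l1 hn a l (uL 1) * y * (y * l1 hn a l (uL 1))⁻¹] ++
  ([0, 1].map fun k : ℕ =>
    l1 hn a l tL * y * (l1 hn a l tL)⁻¹ * l1 hn a l (uL ((ω : F) ^ k)) *
      (l1 hn a l (uL ((ω : F) ^ k)) * (l (dL (ω ^ k)) * y * (l (dL (ω ^ k)))⁻¹) * l (uL ((ω : F) ^ k)) *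
        (l1 hn a l tL * y * (l1 hn a l tL)⁻¹))⁻¹) ++
  [l tL * y * (l tL)⁻¹ * l (uL 1) * (l (uL 1) * y * l1 hn a l (uL 1) * (l tL * y * (l tL)⁻¹))⁻¹] ++
  ([v.1, v.2].map fun g => a g * y * (a g)⁻¹ * y⁻¹) ++
  ([s.1, s.2].map fun A => l2 hn a l A * y * (y * l2 hn a l A)⁻¹) ++
  [y * y12 hn a y * (y12 hn a y * y)⁻¹,
    if h : 4 ≤ n then y * cA a (shift2 h) y * (cA a (shift2 h) y * y)⁻¹ else 1,
    l1 hn a l tL * y12 hn a y * (l1 hn a l tL)⁻¹ * y * (l1 hn a l tL * y12 hn a y * (l1 hn a l tL)⁻¹)⁻¹ *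
      (y * y02 hn a y)⁻¹,
    l2 hn a l tL * y12 hn a y * (l2 hn a l tL)⁻¹ * y02 hn a y *
      (l2 hn a l tL * y12 hn a y * (l2 hn a l tL)⁻¹)⁻¹ * (y02 hn a y * y)⁻¹,
    a (rot hn) *
      (w01 hn a l y * cA a (rot hn) (w01 hn a l y) * l (dL (-1)) * l1 hn a l (dL (-1)))⁻¹]

theorem length_slimRels (ω : Fˣ) (u v : alternatingGroup (Fin n) × alternatingGroup (Fin n))
    (s : SL(2, F) × SL(2, F)) : (slimRels hn a l y ω u v s).length = 23 := rfl

theorem map_slimRels {Z : Type*} [Group Z] (f : X →* Z) (ω : Fˣ)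
    (u v : alternatingGroup (Fin n) × alternatingGroup (Fin n)) (s : SL(2, F) × SL(2, F)) :
    (slimRels hn a l y ω u v s).map f = slimRels hn (f ∘ a) (f ∘ l) (f y) ω u v s := by
  by_cases h : 4 ≤ n <;> simp [slimRels, l1, l2, y12, y02, cA, w01, h]

end Raw

/-- The standing hypotheses. -/
structure Hyp {Q : Type*} [Group Q] (hn : 3 ≤ n) (a : alternatingGroup (Fin n) →* Q) (φ : SL(2, F) →* Q)
    (y : Q) : Type _ where
  ω : Fˣ
  u : alternatingGroup (Fin n) × alternatingGroup (Fin n)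
  v : alternatingGroup (Fin n) × alternatingGroup (Fin n)
  s : SL(2, F) × SL(2, F)
  hω : ∀ c : Fˣ, c ∈ Subgroup.zpowers ω
  hu : ∀ g : alternatingGroup (Fin n), (g : Perm (Fin n)) (p0 hn) = p0 hn →
    g ∈ Subgroup.closure ({u.1, u.2} : Set (alternatingGroup (Fin n)))
  hv : ∀ g : alternatingGroup (Fin n),
    ((g : Perm (Fin n)) (p0 hn) = p0 hn ∧ (g : Perm (Fin n)) (p1 hn) = p1 hn ∨
      (g : Perm (Fin n)) (p0 hn) = p1 hn ∧ (g : Perm (Fin n)) (p1 hn) = p0 hn) →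
    g ∈ Subgroup.closure ({v.1, v.2} : Set (alternatingGroup (Fin n)))
  hs : Subgroup.closure ({s.1, s.2} : Set SL(2, F)) = ⊤
  hG : ∀ x ∈ slimRels hn a φ y ω u v s, x = 1

namespace Hyp

variable [Fintype F] {Q : Type*} [Group Q] {hn : 3 ≤ n} {a : alternatingGroup (Fin n) →* Q}
  {φ : SL(2, F) →* Q} {y : Q} (H : Hyp hn a φ y)

include H

theorem mem_rels {x : Q} (hx : x ∈ slimRels hn a φ y H.ω H.u H.v H.s) : x = 1 := H.hG x hx

theorem hom_ext {f g : SL(2, F) →* Q} (h1 : f H.s.1 = g H.s.1) (h2 : f H.s.2 = g H.s.2) (A : SL(2, F)) :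
    f A = g A := by
  have : f = g := MonoidHom.eq_of_eqOn_dense H.hs (by
    rintro x (rfl | rfl)
    exacts [h1, h2])
  rw [this]

omit H in
theorem sq_add_sq [Fintype F] (x : F) : ∃ b c : F, x = b ^ 2 + c ^ 2 := by
  by_cases h2 : ringChar F = 2
  · obtain ⟨b, rfl⟩ := FiniteField.isSquare_of_char_two h2 x
    exact ⟨b, 0, by ring⟩
  · obtain ⟨b, c, hbc⟩ := FiniteField.exists_root_sum_quadratic (R := F)
      (f := Polynomial.X ^ 2) (g := Polynomial.X ^ 2 - Polynomial.C x) (Polynomial.degree_X_pow 2)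
      (Polynomial.degree_X_pow_sub_C (by decide) _) (FiniteField.odd_card_of_char_ne_two h2)
    simp only [Polynomial.eval_pow, Polynomial.eval_X, Polynomial.eval_sub, Polynomial.eval_C] at hbc
    exact ⟨b, c, by linear_combination -hbc⟩

omit H in
theorem exists_to (k : Fin n) : ∃ g : alternatingGroup (Fin n), (g : Perm (Fin n)) (p0 hn) = k := by
  rcases alt_or_mul_swap (swap (p0 hn) k) (p12 (hn := hn)) with h | h
  · exact ⟨⟨_, h⟩, swap_apply_left _ _⟩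
  · exact ⟨⟨_, h⟩, by simp [swap_apply_of_ne_of_ne (p01 (hn := hn)) (p02 (hn := hn))]⟩

omit H in
/-- An unordered pair. -/
theorem exists_to2 {i j : Fin n} (hij : i ≠ j) : ∃ g : alternatingGroup (Fin n),
    ((g : Perm (Fin n)) (p0 hn) = i ∧ (g : Perm (Fin n)) (p1 hn) = j) ∨
      ((g : Perm (Fin n)) (p0 hn) = j ∧ (g : Perm (Fin n)) (p1 hn) = i) := by
  obtain ⟨σ, hσ⟩ := exists_perm_map ⟨![p0 hn, p1 hn], by
      intro x z; fin_cases x <;> fin_cases z <;> simp [p01, p01.symm]⟩ ⟨![i, j], by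
      intro x z; fin_cases x <;> fin_cases z <;> simp [hij, hij.symm]⟩
  have e0 : σ (p0 hn) = i := hσ 0
  have e1 : σ (p1 hn) = j := hσ 1
  rcases alt_or_mul_swap σ (p01 (hn := hn)) with h | h
  · exact ⟨⟨σ, h⟩, Or.inl ⟨e0, e1⟩⟩
  · exact ⟨⟨_, h⟩, Or.inr ⟨by simp [e1], by simp [e0]⟩⟩

omit H in
/-- An unordered pair and a third point. -/
theorem exists_to21 {i j k : Fin n} (hij : i ≠ j) (hik : i ≠ k) (hjk : j ≠ k) : ∃ g : alternatingGroup (Fin n),
    (((g : Perm (Fin n)) (p0 hn) = i ∧ (g : Perm (Fin n)) (p1 hn) = j) ∨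
      ((g : Perm (Fin n)) (p0 hn) = j ∧ (g : Perm (Fin n)) (p1 hn) = i)) ∧ (g : Perm (Fin n)) (p2 hn) = k := by
  obtain ⟨σ, hσ⟩ := exists_perm_map ⟨![p0 hn, p1 hn, p2 hn], by
      intro x z; fin_cases x <;> fin_cases z <;> simp [p01, p01.symm, p02, p02.symm, p12, p12.symm]⟩
    ⟨![i, j, k], by intro x z; fin_cases x <;> fin_cases z <;> simp [hij, hij.symm, hik, hik.symm, hjk, hjk.symm]⟩
  have e0 : σ (p0 hn) = i := hσ 0
  have e1 : σ (p1 hn) = j := hσ 1
  have e2 : σ (p2 hn) = k := hσ 2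
  rcases alt_or_mul_swap σ (p01 (hn := hn)) with h | h
  · exact ⟨⟨σ, h⟩, Or.inl ⟨e0, e1⟩, e2⟩
  · exact ⟨⟨_, h⟩, Or.inr ⟨by simp [e1], by simp [e0]⟩,
      by simp [swap_apply_of_ne_of_ne (p02 (hn := hn)).symm (p12 (hn := hn)).symm, e2]⟩

omit H in
/-- A point and an unordered pair. -/
theorem exists_to12 {i j k : Fin n} (hij : i ≠ j) (hik : i ≠ k) (hjk : j ≠ k) : ∃ g : alternatingGroup (Fin n),
    (g : Perm (Fin n)) (p0 hn) = i ∧
      (((g : Perm (Fin n)) (p1 hn) = j ∧ (g : Perm (Fin n)) (p2 hn) = k) ∨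
        ((g : Perm (Fin n)) (p1 hn) = k ∧ (g : Perm (Fin n)) (p2 hn) = j)) := by
  obtain ⟨g, hg, hg2⟩ := exists_to21 (hn := hn) hjk hij.symm hik.symm
  refine ⟨g * (rot hn * rot hn), ?_, ?_⟩
  · show (g : Perm (Fin n)) (((rot hn * rot hn : alternatingGroup (Fin n)) : Perm (Fin n)) (p0 hn)) = i
    rw [rot2_p0, hg2]
  · have e1 : ((g * (rot hn * rot hn) : alternatingGroup (Fin n)) : Perm (Fin n)) (p1 hn) =
        (g : Perm (Fin n)) (p0 hn) := congrArg (g : Perm (Fin n)) rot2_p1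
    have e2 : ((g * (rot hn * rot hn) : alternatingGroup (Fin n)) : Perm (Fin n)) (p2 hn) =
        (g : Perm (Fin n)) (p1 hn) := by
      show (g : Perm (Fin n)) ((rot hn : Perm (Fin n)) ((rot hn : Perm (Fin n)) (p2 hn))) = _
      rw [rot_p2, rot_p0]
    rw [e1, e2]
    exact hg

/-! ### Copies of `SL₂` -/

omit H in
/-- The copy at a plane. -/
noncomputable def phi (φ : SL(2, F) →* Q) (a : alternatingGroup (Fin n) →* Q) (hn : 3 ≤ n) (k : Fin n) :
    SL(2, F) →* Q :=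
  (MulAut.conj (a (Classical.choose (exists_to (hn := hn) k)))).toMonoidHom.comp φ

theorem fix0 (g : alternatingGroup (Fin n)) (hg : (g : Perm (Fin n)) (p0 hn) = p0 hn) (A : SL(2, F)) :
    a g * φ A * (a g)⁻¹ = φ A := by
  have hgen : ∀ g ∈ ({H.u.1, H.u.2} : Set (alternatingGroup (Fin n))), ∀ B, a g * φ B * (a g)⁻¹ = φ B := by
    intro g hg B
    have key : ∀ B ∈ [H.s.1, H.s.2], a g * φ B * (a g)⁻¹ = φ B := fun B hB => by
      refine mul_inv_eq_one.1 (H.mem_rels ?_)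
      unfold slimRels
      simp only [List.mem_append, List.mem_flatMap, List.mem_map]
      refine Or.inl (Or.inl (Or.inl (Or.inl (Or.inl (Or.inl (Or.inl ⟨g, ?_, B, hB, rfl⟩))))))
      rcases hg with rfl | rfl <;> simp
    exact H.hom_ext (f := (MulAut.conj (a g)).toMonoidHom.comp φ) (g := φ) (key _ (by simp)) (key _ (by simp)) B
  let K : Subgroup (alternatingGroup (Fin n)) := (Subgroup.centralizer (Set.range φ)).comap a
  have : g ∈ K := by
    refine (Subgroup.closure_le K).2 (fun g hg => ?_) (H.hu g hg)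
    refine Subgroup.mem_centralizer_iff.2 ?_
    rintro _ ⟨B, rfl⟩
    exact (mul_inv_eq_iff_eq_mul.1 (hgen g hg B)).symm
  rw [mul_inv_eq_iff_eq_mul]
  exact ((Subgroup.mem_centralizer_iff.1 this) _ ⟨A, rfl⟩).symm

theorem phi_eq {k : Fin n} (g : alternatingGroup (Fin n)) (hg : (g : Perm (Fin n)) (p0 hn) = k) (A : SL(2, F)) :
    phi φ a hn k A = a g * φ A * (a g)⁻¹ := by
  set g0 := Classical.choose (exists_to (hn := hn) k)
  have h0 : (g0 : Perm (Fin n)) (p0 hn) = k := Classical.choose_spec (exists_to (hn := hn) k)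
  have hfix := H.fix0 (g⁻¹ * g0) (by
    show ((g : Perm (Fin n))⁻¹) ((g0 : Perm (Fin n)) (p0 hn)) = _
    rw [h0, ← hg, ← Perm.mul_apply, inv_mul_cancel, Perm.one_apply]) A
  show a g0 * φ A * (a g0)⁻¹ = _
  conv_rhs => rw [← hfix]
  rw [map_mul, map_inv]
  group

theorem phi_conj (g : alternatingGroup (Fin n)) (k : Fin n) (A : SL(2, F)) :
    a g * phi φ a hn k A * (a g)⁻¹ = phi φ a hn ((g : Perm (Fin n)) k) A := by
  obtain ⟨g0, h0⟩ := exists_to (hn := hn) k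
  rw [H.phi_eq g0 h0, H.phi_eq (g * g0) (show (g : Perm (Fin n)) ((g0 : Perm (Fin n)) (p0 hn)) = _ by rw [h0]),
    map_mul]
  group

theorem phi_p0 (A : SL(2, F)) : phi φ a hn (p0 hn) A = φ A := by
  rw [H.phi_eq 1 (k := p0 hn) rfl]; simp

theorem l1_eq (A : SL(2, F)) : l1 hn a φ A = phi φ a hn (p1 hn) A := (H.phi_eq (rot hn) rot_p0 A).symm

theorem l2_eq (A : SL(2, F)) : l2 hn a φ A = phi φ a hn (p2 hn) A := (H.phi_eq _ rot2_p0 A).symm

theorem phi_comm {i j : Fin n} (hij : i ≠ j) (A B : SL(2, F)) :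
    phi φ a hn i A * phi φ a hn j B = phi φ a hn j B * phi φ a hn i A := by
  have base : ∀ A B, phi φ a hn (p0 hn) A * phi φ a hn (p1 hn) B = phi φ a hn (p1 hn) B * phi φ a hn (p0 hn) A := by
    intro A B
    simp only [H.phi_p0, ← H.l1_eq]
    have key : ∀ A ∈ [H.s.1, H.s.2], ∀ B ∈ [H.s.1, H.s.2], φ A * l1 hn a φ B = l1 hn a φ B * φ A := by
      intro A hA B hB
      refine mul_inv_eq_one.1 (H.mem_rels ?_)
      unfold slimRels
      simp only [List.mem_append, List.mem_flatMap, List.mem_map]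
      exact Or.inl (Or.inl (Or.inl (Or.inl (Or.inl (Or.inl (Or.inr ⟨A, hA, B, hB, rfl⟩))))))
    let φ1 := (MulAut.conj (a (rot hn))).toMonoidHom.comp φ
    have h1 : ∀ A ∈ [H.s.1, H.s.2], ∀ B, φ A * φ1 B = φ1 B * φ A := by
      intro A hA B
      have := H.hom_ext (f := (MulAut.conj (φ A)).toMonoidHom.comp φ1) (g := φ1)
        (mul_inv_eq_iff_eq_mul.2 (key A hA _ (by simp))) (mul_inv_eq_iff_eq_mul.2 (key A hA _ (by simp))) B
      exact mul_inv_eq_iff_eq_mul.1 this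
    have := H.hom_ext (f := (MulAut.conj (φ1 B)).toMonoidHom.comp φ) (g := φ)
      (mul_inv_eq_iff_eq_mul.2 (h1 _ (by simp) B).symm) (mul_inv_eq_iff_eq_mul.2 (h1 _ (by simp) B).symm) A
    exact (mul_inv_eq_iff_eq_mul.1 this).symm
  obtain ⟨g, ⟨rfl, rfl⟩ | ⟨rfl, rfl⟩⟩ := exists_to2 (hn := hn) hij
  · simp only [← H.phi_conj, ← Sp4.cj_mul, base]
  · simp only [← H.phi_conj, ← Sp4.cj_mul, base]

/-! ### The base pair -/

omit H in
open Classical in
/-- The root subgroup at `{0, 1}`. -/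
noncomputable def yy (φ : SL(2, F) →* Q) (y : Q) (t : F) : Q :=
  if h : t = 0 then 1 else φ (dL (Units.mk0 t h)) * y * (φ (dL (Units.mk0 t h)))⁻¹

omit H in
theorem yy_unit (φ : SL(2, F) →* Q) (y : Q) (c : Fˣ) : yy φ y (c : F) = φ (dL c) * y * (φ (dL c))⁻¹ := by
  rw [yy, dif_neg c.ne_zero]; simp

omit H in
theorem yy_one (φ : SL(2, F) →* Q) (y : Q) : yy φ y (1 : F) = y := by
  rw [← Units.val_one, yy_unit]; simp

omit H in
theorem yy_zero (φ : SL(2, F) →* Q) (y : Q) : yy φ y (0 : F) = 1 := by simp [yy]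

theorem tor0 (c : Fˣ) (t : F) : φ (dL c) * yy φ y t * (φ (dL c))⁻¹ = yy φ y ((c : F) * t) := by
  rcases eq_or_ne t 0 with rfl | ht
  · simp [yy_zero]
  rw [show t = ((Units.mk0 t ht : Fˣ) : F) from rfl, ← Units.val_mul, yy_unit, yy_unit, ← Sp4.cj_cj, ← map_mul,
    ← map_mul]

theorem tor1 (c : Fˣ) (t : F) :
    phi φ a hn (p1 hn) (dL c) * yy φ y t * (phi φ a hn (p1 hn) (dL c))⁻¹ = yy φ y ((c : F) * t) := by
  have hω : phi φ a hn (p1 hn) (dL H.ω) * y * (phi φ a hn (p1 hn) (dL H.ω))⁻¹ =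
      φ (dL H.ω) * y * (φ (dL H.ω))⁻¹ := by
    rw [← H.l1_eq]
    refine mul_inv_eq_one.1 (H.mem_rels ?_)
    simp [slimRels]
  have hc : ∀ c : Fˣ, phi φ a hn (p1 hn) (dL c) * y * (phi φ a hn (p1 hn) (dL c))⁻¹ = yy φ y (c : F) := by
    intro c
    obtain ⟨k, rfl⟩ := mem_powers_iff_mem_zpowers.2 (H.hω c)
    simp only
    induction k with
    | zero => simp [yy_one]
    | succ k ih =>
      have hcomm := H.phi_comm (p01 (hn := hn)) (dL H.ω) (dL (H.ω ^ k))
      rw [H.phi_p0] at hcomm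
      rw [pow_succ, map_mul, map_mul, Sp4.cj_cj, hω]
      calc phi φ a hn (p1 hn) (dL (H.ω ^ k)) * (φ (dL H.ω) * y * (φ (dL H.ω))⁻¹) *
            (phi φ a hn (p1 hn) (dL (H.ω ^ k)))⁻¹
          = φ (dL H.ω) * (phi φ a hn (p1 hn) (dL (H.ω ^ k)) * y * (phi φ a hn (p1 hn) (dL (H.ω ^ k)))⁻¹) *
              (φ (dL H.ω))⁻¹ := by
            rw [← Sp4.cj_cj, ← Sp4.cj_cj, hcomm]
        _ = _ := by rw [ih, H.tor0, ← Units.val_mul, mul_comm H.ω]
  rcases eq_or_ne t 0 with rfl | ht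
  · simp [yy_zero]
  have hcomm := H.phi_comm (p01 (hn := hn)) (dL (Units.mk0 t ht)) (dL c)
  rw [H.phi_p0] at hcomm
  rw [show t = ((Units.mk0 t ht : Fˣ) : F) from rfl, yy_unit, ← Sp4.cj_cj, ← hcomm, Sp4.cj_cj, hc, H.tor0,
    mul_comm]

theorem yA0 (s t : F) : φ (uL s) * yy φ y t = yy φ y t * φ (uL s) := by
  have h1 : φ (uL 1) * y = y * φ (uL 1) := by
    refine mul_inv_eq_one.1 (H.mem_rels ?_)
    simp [slimRels]
  have h2 : ∀ t, φ (uL 1) * yy φ y t = yy φ y t * φ (uL 1) := fun t => by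
    rcases eq_or_ne t 0 with rfl | ht
    · simp [yy_zero]
    set T := Units.mk0 t ht
    have e1 : phi φ a hn (p1 hn) (dL T) * φ (uL 1) * (phi φ a hn (p1 hn) (dL T))⁻¹ = φ (uL 1) := by
      rw [← H.phi_p0, ← H.phi_comm (p01 (hn := hn)), mul_inv_cancel_right]
    have e2 := H.tor1 T 1
    rw [mul_one, yy_one] at e2
    rw [show t = (T : F) from rfl, ← e2]
    conv_lhs => rw [← e1]
    conv_rhs => rw [← e1]
    rw [← Sp4.cj_mul, ← Sp4.cj_mul, h1]
  have h3 : ∀ b t, φ (uL (b ^ 2)) * yy φ y t = yy φ y t * φ (uL (b ^ 2)) := fun b t => by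
    rcases eq_or_ne b 0 with rfl | hb
    · simp [uL_zero]
    set B := Units.mk0 b hb
    have e1 : φ (dL B) * φ (uL 1) * (φ (dL B))⁻¹ = φ (uL (b ^ 2)) := by
      rw [← map_inv, ← map_mul, ← map_mul, dL_conj, mul_one]; rfl
    have e2 := H.tor0 B ((B⁻¹ : Fˣ) * t)
    rw [← mul_assoc, ← Units.val_mul, mul_inv_cancel, Units.val_one, one_mul] at e2
    rw [← e1, ← e2, ← Sp4.cj_mul, ← Sp4.cj_mul, h2]
  obtain ⟨b, c, rfl⟩ := sq_add_sq s
  rw [uL_add, map_mul, mul_assoc, h3, ← mul_assoc, h3, mul_assoc]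

theorem yA1 (s t : F) : phi φ a hn (p1 hn) (uL s) * yy φ y t = yy φ y t * phi φ a hn (p1 hn) (uL s) := by
  have h1 : phi φ a hn (p1 hn) (uL 1) * y = y * phi φ a hn (p1 hn) (uL 1) := by
    rw [← H.l1_eq]
    refine mul_inv_eq_one.1 (H.mem_rels ?_)
    simp [slimRels]
  have h2 : ∀ t, phi φ a hn (p1 hn) (uL 1) * yy φ y t = yy φ y t * phi φ a hn (p1 hn) (uL 1) := fun t => by
    rcases eq_or_ne t 0 with rfl | ht
    · simp [yy_zero]
    set T := Units.mk0 t ht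
    have e1 : φ (dL T) * phi φ a hn (p1 hn) (uL 1) * (φ (dL T))⁻¹ = phi φ a hn (p1 hn) (uL 1) := by
      rw [← H.phi_p0, H.phi_comm (p01 (hn := hn)), mul_inv_cancel_right]
    have e2 := H.tor0 T 1
    rw [mul_one, yy_one] at e2
    rw [show t = (T : F) from rfl, ← e2]
    conv_lhs => rw [← e1]
    conv_rhs => rw [← e1]
    rw [← Sp4.cj_mul, ← Sp4.cj_mul, h1]
  have h3 : ∀ b t, phi φ a hn (p1 hn) (uL (b ^ 2)) * yy φ y t =
      yy φ y t * phi φ a hn (p1 hn) (uL (b ^ 2)) := fun b t => by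
    rcases eq_or_ne b 0 with rfl | hb
    · simp [uL_zero]
    set B := Units.mk0 b hb
    have e1 : phi φ a hn (p1 hn) (dL B) * phi φ a hn (p1 hn) (uL 1) * (phi φ a hn (p1 hn) (dL B))⁻¹ =
        phi φ a hn (p1 hn) (uL (b ^ 2)) := by
      rw [← map_inv, ← map_mul, ← map_mul, dL_conj, mul_one]; rfl
    have e2 := H.tor1 B ((B⁻¹ : Fˣ) * t)
    rw [← mul_assoc, ← Units.val_mul, mul_inv_cancel, Units.val_one, one_mul] at e2
    rw [← e1, ← e2, ← Sp4.cj_mul, ← Sp4.cj_mul, h2]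
  obtain ⟨b, c, rfl⟩ := sq_add_sq s
  rw [uL_add, map_mul, mul_assoc, h3, ← mul_assoc, h3, mul_assoc]

omit H in
theorem dL_tL (φ' : SL(2, F) →* Q) (c : Fˣ) : φ' (dL c) * φ' tL = φ' tL * φ' (dL c⁻¹) := by
  rw [← map_mul, ← map_mul]
  congr 1
  have := tL_conj (c⁻¹)
  rw [← map_inv, inv_inv, mul_inv_eq_iff_eq_mul] at this
  exact this.symm

/-- A relation at one point gives it on a square class. -/
theorem rel_scale {φA φB : SL(2, F) →* Q} (hc : ∀ A B, φA A * φB B = φB B * φA A)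
    (hA : ∀ (c : Fˣ) t, φA (dL c) * yy φ y t * (φA (dL c))⁻¹ = yy φ y ((c : F) * t))
    (hB : ∀ (c : Fˣ) t, φB (dL c) * yy φ y t * (φB (dL c))⁻¹ = yy φ y ((c : F) * t)) (r : F)
    (hr : VV φB (yy φ y) 1 * φB (uL r) =
      φB (uL r) * yy φ y r * φA (uL r) * VV φB (yy φ y) 1) (T C : Fˣ) :
    VV φB (yy φ y) (T : F) * φB (uL ((C : F) ^ 2 * r)) =
      φB (uL ((C : F) ^ 2 * r)) * yy φ y ((T : F) * ((C : F) ^ 2 * r)) *
        φA (uL ((T : F) ^ 2 * ((C : F) ^ 2 * r))) * VV φB (yy φ y) (T : F) := by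
  set g := φA (dL (T * C)) * φB (dL C)
  have eV : g * VV φB (yy φ y) 1 * g⁻¹ = VV φB (yy φ y) (T : F) := by
    have e : g * φB tL = φB tL * (φA (dL (T * C)) * φB (dL C⁻¹)) := by
      rw [mul_assoc, dL_tL, ← mul_assoc, hc, mul_assoc]
    rw [VV, ← Sp4.cj_cj, e, Sp4.cj_cj, Sp4.cj_cj, hB, hA, VV]
    congr 3
    push_cast
    field_simp
  have eB : g * φB (uL r) * g⁻¹ = φB (uL ((C : F) ^ 2 * r)) := by
    rw [Sp4.cj_cj, ← map_inv φB, ← map_mul, ← map_mul, dL_conj, hc, mul_inv_cancel_right]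
  have eY : g * yy φ y r * g⁻¹ = yy φ y ((T : F) * ((C : F) ^ 2 * r)) := by
    rw [Sp4.cj_cj, hB, hA]; congr 1; push_cast; ring
  have eA : g * φA (uL r) * g⁻¹ = φA (uL ((T : F) ^ 2 * ((C : F) ^ 2 * r))) := by
    rw [Sp4.cj_cj, ← hc, mul_inv_cancel_right, ← map_inv φA, ← map_mul, ← map_mul, dL_conj]
    congr 2; push_cast; ring
  rw [← eV, ← eB, ← eY, ← eA]
  simp only [← Sp4.cj_mul, hr]

theorem rel1 (t s : F) :
    VV (phi φ a hn (p1 hn)) (yy φ y) t * phi φ a hn (p1 hn) (uL s) =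
      phi φ a hn (p1 hn) (uL s) * yy φ y (t * s) * φ (uL (t ^ 2 * s)) *
        VV (phi φ a hn (p1 hn)) (yy φ y) t := by
  rcases eq_or_ne t 0 with rfl | ht
  · simp [VV, yy_zero, uL_zero]
  rcases eq_or_ne s 0 with rfl | hs
  · simp [yy_zero, uL_zero]
  obtain ⟨k, hk, C, hC⟩ := Sp4.exists_sq_rep H.hω (Units.mk0 s hs)
  have hsv : s = (C : F) ^ 2 * (H.ω : F) ^ k := by
    have := congrArg Units.val hC; push_cast at this; exact this
  rw [hsv, show t = ((Units.mk0 t ht : Fˣ) : F) from rfl]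
  refine H.rel_scale (φA := φ) (fun A B => ?_) H.tor0 H.tor1 _ ?_ _ _
  · rw [← H.phi_p0, H.phi_comm (p01 (hn := hn))]
  have e := yy_unit φ y (H.ω ^ k)
  rw [Units.val_pow_eq_pow_val] at e
  rw [VV, yy_one, e, ← H.l1_eq, ← H.l1_eq]
  refine mul_inv_eq_one.1 (H.mem_rels ?_)
  unfold slimRels
  simp only [List.mem_append, List.mem_map]
  exact Or.inl (Or.inl (Or.inl (Or.inl (Or.inr
    ⟨k, by simp only [List.mem_cons, List.not_mem_nil, or_false]; omega, rfl⟩))))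

theorem yy_add (s t : F) : yy φ y (s + t) = yy φ y s * yy φ y t := by
  have e1 := H.rel1 1 s
  have e2 := H.rel1 1 t
  have e3 := H.rel1 1 (s + t)
  simp only [one_mul, one_pow, uL_add, map_mul] at e1 e2 e3
  set φ1 := phi φ a hn (p1 hn)
  set V := VV φ1 (yy φ y) 1
  have hA1 : ∀ r r', φ (uL r) * φ1 (uL r') = φ1 (uL r') * φ (uL r) := fun r r' => by
    rw [← H.phi_p0, H.phi_comm (p01 (hn := hn))]
  have e4 : V * (φ1 (uL s) * φ1 (uL t)) =
      φ1 (uL s) * φ1 (uL t) * (yy φ y s * yy φ y t) * (φ (uL s) * φ (uL t)) * V := by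
    rw [← mul_assoc, e1, mul_assoc (φ1 (uL s) * yy φ y s * φ (uL s)), e2]
    simp only [← mul_assoc]
    rw [mul_assoc _ (φ (uL s)) (φ1 (uL t)), hA1, ← mul_assoc, mul_assoc _ (φ (uL s)) (yy φ y t), H.yA0,
      ← mul_assoc, mul_assoc _ (yy φ y s) (φ1 (uL t)), ← H.yA1, ← mul_assoc]
  rw [e4] at e3
  exact (mul_left_cancel (mul_right_cancel (mul_right_cancel e3))).symm

theorem piece01 : Piece φ (phi φ a hn (p1 hn)) (yy φ y) where
  comm A B := by rw [← H.phi_p0, H.phi_comm (p01 (hn := hn))]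
  yadd := H.yy_add
  torA := H.tor0
  torB := H.tor1
  yA := H.yA0
  yB := H.yA1
  rel := H.rel1

theorem piece10 : Piece (phi φ a hn (p1 hn)) φ (yy φ y) where
  comm A B := by rw [← H.phi_p0, H.phi_comm (p01 (hn := hn))]
  yadd := H.yy_add
  torA := H.tor1
  torB := H.tor0
  yA := H.yA1
  yB := H.yA0
  rel t s := by
    set φ1 := phi φ a hn (p1 hn)
    rcases eq_or_ne t 0 with rfl | ht
    · simp [VV, yy_zero, uL_zero]
    have hsq : ∀ b, VV φ (yy φ y) t * φ (uL (b ^ 2)) =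
        φ (uL (b ^ 2)) * yy φ y (t * b ^ 2) * φ1 (uL (t ^ 2 * b ^ 2)) * VV φ (yy φ y) t := by
      intro b
      rcases eq_or_ne b 0 with rfl | hb
      · simp [yy_zero, uL_zero]
      have h := H.rel_scale (φA := φ1) (φB := φ) (fun A B => by rw [← H.phi_p0, H.phi_comm (p01 (hn := hn))])
        H.tor1 H.tor0 1 (by
          rw [VV, yy_one, ← H.l1_eq]
          refine mul_inv_eq_one.1 (H.mem_rels ?_)
          unfold slimRels
          simp only [List.mem_append]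
          exact Or.inl (Or.inl (Or.inl (Or.inr List.mem_cons_self)))) (Units.mk0 t ht) (Units.mk0 b hb)
      simpa using h
    obtain ⟨b, c, rfl⟩ := sq_add_sq s
    have hA1 : ∀ r r', φ1 (uL r) * φ (uL r') = φ (uL r') * φ1 (uL r) := fun r r' => by
      rw [← H.phi_p0, H.phi_comm (p01 (hn := hn))]
    simp only [mul_add, uL_add, map_mul, H.yy_add]
    rw [← mul_assoc, hsq b, mul_assoc (φ (uL (b ^ 2)) * yy φ y (t * b ^ 2) * φ1 (uL (t ^ 2 * b ^ 2))), hsq c]
    simp only [← mul_assoc]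
    rw [mul_assoc _ (φ1 (uL (t ^ 2 * b ^ 2))) (φ (uL (c ^ 2))), hA1, ← mul_assoc,
      mul_assoc _ (φ1 (uL (t ^ 2 * b ^ 2))) (yy φ y (t * c ^ 2)), H.yA1, ← mul_assoc,
      mul_assoc _ (yy φ y (t * b ^ 2)) (φ (uL (c ^ 2))), ← H.yA0, ← mul_assoc]

/-! ### All pairs -/

theorem swap_yy (g : alternatingGroup (Fin n))
    (hg : (g : Perm (Fin n)) (p0 hn) = p0 hn ∧ (g : Perm (Fin n)) (p1 hn) = p1 hn ∨
      (g : Perm (Fin n)) (p0 hn) = p1 hn ∧ (g : Perm (Fin n)) (p1 hn) = p0 hn) (t : F) :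
    a g * yy φ y t * (a g)⁻¹ = yy φ y t := by
  have hy : a g * y * (a g)⁻¹ = y := by
    let K : Subgroup (alternatingGroup (Fin n)) := (Subgroup.centralizer {y}).comap a
    have : g ∈ K := by
      refine (Subgroup.closure_le K).2 (fun g hg => ?_) (H.hv g hg)
      refine Subgroup.mem_centralizer_singleton_iff.2 ?_
      have h : a g * y * (a g)⁻¹ = y := by
        refine mul_inv_eq_one.1 (H.mem_rels ?_)
        unfold slimRels
        simp only [List.mem_append, List.mem_map]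
        refine Or.inl (Or.inl (Or.inr ⟨g, ?_, rfl⟩))
        rcases hg with rfl | rfl <;> simp
      exact mul_inv_eq_iff_eq_mul.1 h
    exact mul_inv_eq_iff_eq_mul.2 (Subgroup.mem_centralizer_singleton_iff.1 this)
  rcases eq_or_ne t 0 with rfl | ht
  · simp [yy_zero]
  set T := Units.mk0 t ht
  have e0 := H.tor0 T 1
  have e1 := H.tor1 T 1
  rw [mul_one, yy_one] at e0 e1
  rw [show t = (T : F) from rfl]
  conv_lhs => rw [← e0, ← H.phi_p0, Sp4.cj_mul, Sp4.cj_mul, cj_inv, H.phi_conj, hy]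
  rcases hg with ⟨h0, -⟩ | ⟨h0, -⟩ <;> rw [h0]
  · rw [H.phi_p0, e0]
  · rw [e1]

omit H in
open Classical in
/-- The root subgroup at a pair of planes. -/
noncomputable def YY (φ : SL(2, F) →* Q) (a : alternatingGroup (Fin n) →* Q) (y : Q) (hn : 3 ≤ n) (i j : Fin n)
    (t : F) : Q :=
  if h : i ≠ j then
    a (Classical.choose (exists_to2 (hn := hn) h)) * yy φ y t *
      (a (Classical.choose (exists_to2 (hn := hn) h)))⁻¹
  else 1

theorem YY_eq {i j : Fin n} (hij : i ≠ j) (g : alternatingGroup (Fin n))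
    (hg : ((g : Perm (Fin n)) (p0 hn) = i ∧ (g : Perm (Fin n)) (p1 hn) = j) ∨
      ((g : Perm (Fin n)) (p0 hn) = j ∧ (g : Perm (Fin n)) (p1 hn) = i)) (t : F) :
    YY φ a y hn i j t = a g * yy φ y t * (a g)⁻¹ := by
  rw [YY, dif_pos hij]
  set g0 := Classical.choose (exists_to2 (hn := hn) hij)
  have h0 := Classical.choose_spec (exists_to2 (hn := hn) hij)
  change ((g0 : Perm (Fin n)) (p0 hn) = i ∧ (g0 : Perm (Fin n)) (p1 hn) = j) ∨ _ at h0
  have hfix := H.swap_yy (g⁻¹ * g0) (by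
    have e : ∀ x, ((g⁻¹ * g0 : alternatingGroup (Fin n)) : Perm (Fin n)) x =
        ((g : Perm (Fin n))⁻¹) ((g0 : Perm (Fin n)) x) := fun _ => rfl
    simp only [e]
    rcases hg with ⟨a1, a2⟩ | ⟨a1, a2⟩ <;> rcases h0 with ⟨b1, b2⟩ | ⟨b1, b2⟩ <;>
      simp only [Perm.inv_eq_iff_eq, a1, a2, b1, b2] <;> tauto) t
  conv_rhs => rw [← hfix]
  rw [map_mul, map_inv]
  group

theorem YY_base (t : F) : YY φ a y hn (p0 hn) (p1 hn) t = yy φ y t := by
  rw [H.YY_eq p01 1 (Or.inl ⟨rfl, rfl⟩)]; simp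

theorem YY_symm (i j : Fin n) (t : F) : YY φ a y hn i j t = YY φ a y hn j i t := by
  rcases eq_or_ne i j with rfl | hij
  · rfl
  obtain ⟨g, hg⟩ := exists_to2 (hn := hn) hij
  rw [H.YY_eq hij g hg, H.YY_eq hij.symm g hg.symm]

theorem YY_conj (g : alternatingGroup (Fin n)) (i j : Fin n) (t : F) :
    a g * YY φ a y hn i j t * (a g)⁻¹ = YY φ a y hn ((g : Perm (Fin n)) i) ((g : Perm (Fin n)) j) t := by
  rcases eq_or_ne i j with rfl | hij
  · simp [YY]
  obtain ⟨g0, h0⟩ := exists_to2 (hn := hn) hij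
  rw [H.YY_eq hij g0 h0, H.YY_eq ((g : Perm (Fin n)).injective.ne hij) (g * g0) (by
    have e : ∀ x, ((g * g0 : alternatingGroup (Fin n)) : Perm (Fin n)) x =
        (g : Perm (Fin n)) ((g0 : Perm (Fin n)) x) := fun _ => rfl
    simp only [e]
    rcases h0 with ⟨b1, b2⟩ | ⟨b1, b2⟩ <;> simp [b1, b2]), map_mul]
  group

theorem VV_conj (g : alternatingGroup (Fin n)) (k i j : Fin n) (t : F) :
    a g * VV (phi φ a hn k) (YY φ a y hn i j) t * (a g)⁻¹ =
      VV (phi φ a hn ((g : Perm (Fin n)) k)) (YY φ a y hn ((g : Perm (Fin n)) i) ((g : Perm (Fin n)) j)) t := by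
  rw [VV, VV, Sp4.cj_mul, Sp4.cj_mul, cj_inv, H.phi_conj, H.YY_conj]

theorem piece {i j : Fin n} (hij : i ≠ j) : Piece (phi φ a hn i) (phi φ a hn j) (YY φ a y hn i j) := by
  obtain ⟨g, hg⟩ := exists_to2 (hn := hn) hij
  have transport : ∀ {φA φB : SL(2, F) →* Q}, Piece φA φB (yy φ y) →
      Piece ((MulAut.conj (a g)).toMonoidHom.comp φA) ((MulAut.conj (a g)).toMonoidHom.comp φB)
        (fun t => a g * yy φ y t * (a g)⁻¹) := by
    intro φA φB P
    exact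
      { comm := fun A B => by
          show a g * φA A * (a g)⁻¹ * (a g * φB B * (a g)⁻¹) = _ * (a g * φA A * (a g)⁻¹)
          rw [← Sp4.cj_mul, P.comm, Sp4.cj_mul]; rfl
        yadd := fun s t => by simp only [P.yadd, Sp4.cj_mul]
        torA := fun c t => by
          show a g * φA (dL c) * (a g)⁻¹ * (a g * yy φ y t * (a g)⁻¹) * (a g * φA (dL c) * (a g)⁻¹)⁻¹ = _
          rw [← P.torA c t]; group
        torB := fun c t => by
          show a g * φB (dL c) * (a g)⁻¹ * (a g * yy φ y t * (a g)⁻¹) * (a g * φB (dL c) * (a g)⁻¹)⁻¹ = _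
          rw [← P.torB c t]; group
        yA := fun s t => by
          show a g * φA (uL s) * (a g)⁻¹ * (a g * yy φ y t * (a g)⁻¹) = _ * (a g * φA (uL s) * (a g)⁻¹)
          rw [← Sp4.cj_mul, P.yA, Sp4.cj_mul]
        yB := fun s t => by
          show a g * φB (uL s) * (a g)⁻¹ * (a g * yy φ y t * (a g)⁻¹) = _ * (a g * φB (uL s) * (a g)⁻¹)
          rw [← Sp4.cj_mul, P.yB, Sp4.cj_mul]
        rel := fun t s => by
          have e : VV ((MulAut.conj (a g)).toMonoidHom.comp φB) (fun t => a g * yy φ y t * (a g)⁻¹) t =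
              a g * VV φB (yy φ y) t * (a g)⁻¹ := by
            show a g * φB tL * (a g)⁻¹ * (a g * yy φ y t * (a g)⁻¹) * (a g * φB tL * (a g)⁻¹)⁻¹ = _
            rw [VV]; group
          rw [e]
          show _ * (a g * φB (uL s) * (a g)⁻¹) = a g * φB (uL s) * (a g)⁻¹ * _ *
            (a g * φA (uL (t ^ 2 * s)) * (a g)⁻¹) * _
          simp only [← Sp4.cj_mul, P.rel] }
  have hY : YY φ a y hn i j = fun t => a g * yy φ y t * (a g)⁻¹ := funext (H.YY_eq hij g hg)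
  have h0 : (MulAut.conj (a g)).toMonoidHom.comp φ = phi φ a hn ((g : Perm (Fin n)) (p0 hn)) :=
    MonoidHom.ext fun A => (H.phi_eq g rfl A).symm
  have h1 : (MulAut.conj (a g)).toMonoidHom.comp (phi φ a hn (p1 hn)) =
      phi φ a hn ((g : Perm (Fin n)) (p1 hn)) :=
    MonoidHom.ext fun A => H.phi_conj g _ A
  rcases hg with ⟨b1, b2⟩ | ⟨b1, b2⟩
  · have := transport H.piece01
    rwa [h0, h1, b1, b2, ← hY] at this
  · have := transport H.piece10
    rwa [h0, h1, b1, b2, ← hY] at this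

theorem YY_phi {i j k : Fin n} (hij : i ≠ j) (hik : i ≠ k) (hjk : j ≠ k) (A : SL(2, F)) (t : F) :
    phi φ a hn k A * YY φ a y hn i j t = YY φ a y hn i j t * phi φ a hn k A := by
  have base : ∀ A t, phi φ a hn (p2 hn) A * yy φ y t = yy φ y t * phi φ a hn (p2 hn) A := by
    have h1 : ∀ A, phi φ a hn (p2 hn) A * y = y * phi φ a hn (p2 hn) A := by
      intro A
      have key : ∀ A ∈ [H.s.1, H.s.2], phi φ a hn (p2 hn) A * y = y * phi φ a hn (p2 hn) A := by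
        intro A hA
        rw [← H.l2_eq]
        refine mul_inv_eq_one.1 (H.mem_rels ?_)
        unfold slimRels
        simp only [List.mem_append, List.mem_map]
        exact Or.inl (Or.inr ⟨A, hA, rfl⟩)
      have := H.hom_ext (f := (MulAut.conj y).toMonoidHom.comp (phi φ a hn (p2 hn))) (g := phi φ a hn (p2 hn))
        (mul_inv_eq_iff_eq_mul.2 (key _ (by simp)).symm) (mul_inv_eq_iff_eq_mul.2 (key _ (by simp)).symm) A
      exact (mul_inv_eq_iff_eq_mul.1 this).symm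
    intro A t
    rcases eq_or_ne t 0 with rfl | ht
    · simp [yy_zero]
    set T := Units.mk0 t ht
    have e0 := H.tor0 T 1
    rw [mul_one, yy_one] at e0
    have e1 : φ (dL T) * phi φ a hn (p2 hn) A * (φ (dL T))⁻¹ = phi φ a hn (p2 hn) A := by
      rw [← H.phi_p0, H.phi_comm (p02 (hn := hn)), mul_inv_cancel_right]
    rw [show t = (T : F) from rfl, ← e0]
    conv_lhs => rw [← e1]
    conv_rhs => rw [← e1]
    rw [← Sp4.cj_mul, ← Sp4.cj_mul, h1]
  obtain ⟨g, hg, rfl⟩ := exists_to21 (hn := hn) hij hik hjk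
  rw [H.YY_eq hij g hg, ← H.phi_conj g, ← Sp4.cj_mul, ← Sp4.cj_mul, base]

theorem YY_comm (i j i' j' : Fin n) (t u : F) :
    YY φ a y hn i j t * YY φ a y hn i' j' u = YY φ a y hn i' j' u * YY φ a y hn i j t := by
  rcases eq_or_ne i j with rfl | hij
  · simp [YY]
  rcases eq_or_ne i' j' with rfl | hij'
  · simp [YY]
  -- scale an equality at the unit scalars
  have scale : ∀ {i j i' j' k k' : Fin n}, i ≠ j → i' ≠ j' → (k = i ∨ k = j) → k ≠ i' → k ≠ j' →
      (k' = i' ∨ k' = j') → k' ≠ i → k' ≠ j →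
      YY φ a y hn i j 1 * YY φ a y hn i' j' 1 = YY φ a y hn i' j' 1 * YY φ a y hn i j 1 →
      YY φ a y hn i j t * YY φ a y hn i' j' u = YY φ a y hn i' j' u * YY φ a y hn i j t := by
    intro i j i' j' k k' hij hij' hk hki hkj hk' hk'i hk'j h
    rcases eq_or_ne t 0 with rfl | ht
    · simp [(H.piece hij).y_zero]
    rcases eq_or_ne u 0 with rfl | hu
    · simp [(H.piece hij').y_zero]
    set g := phi φ a hn k (dL (Units.mk0 t ht)) * phi φ a hn k' (dL (Units.mk0 u hu))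
    have tor : ∀ {i j k : Fin n}, i ≠ j → (k = i ∨ k = j) → ∀ (c : Fˣ) (r : F),
        phi φ a hn k (dL c) * YY φ a y hn i j r * (phi φ a hn k (dL c))⁻¹ = YY φ a y hn i j ((c : F) * r) := by
      intro i j k hij hk c r
      rcases hk with rfl | rfl
      · exact (H.piece hij).torA c r
      · exact (H.piece hij).torB c r
    have et : g * YY φ a y hn i j 1 * g⁻¹ = YY φ a y hn i j t := by
      rw [Sp4.cj_cj, H.YY_phi hij hk'i.symm hk'j.symm, mul_inv_cancel_right, tor hij hk]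
      simp
    have eu : g * YY φ a y hn i' j' 1 * g⁻¹ = YY φ a y hn i' j' u := by
      rw [Sp4.cj_cj, tor hij' hk', H.YY_phi hij' hki.symm hkj.symm, mul_inv_cancel_right]
      simp
    rw [← et, ← eu, ← Sp4.cj_mul, ← Sp4.cj_mul, h]
  have ovl : ∀ {i j j' : Fin n}, i ≠ j → i ≠ j' → j ≠ j' →
      YY φ a y hn i j t * YY φ a y hn i j' u = YY φ a y hn i j' u * YY φ a y hn i j t := by
    intro i j j' hij hij' hjj
    refine scale (k := j) (k' := j') hij hij' (Or.inr rfl) hij.symm hjj (Or.inr rfl) hij'.symm hjj.symm ?_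
    have base : YY φ a y hn (p1 hn) (p0 hn) 1 * YY φ a y hn (p1 hn) (p2 hn) 1 =
        YY φ a y hn (p1 hn) (p2 hn) 1 * YY φ a y hn (p1 hn) (p0 hn) 1 := by
      rw [H.YY_symm (p1 hn) (p0 hn), H.YY_base, yy_one,
        H.YY_eq p12 (rot hn) (Or.inl ⟨rot_p0, rot_p1⟩), yy_one]
      refine mul_inv_eq_one.1 (H.mem_rels ?_)
      unfold slimRels
      exact List.mem_append_right _ (List.mem_cons_self ..)
    obtain ⟨g, hg, hg'⟩ := exists_to12 (hn := hn) hij hij' hjj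
    -- move the common point to `1`
    obtain ⟨g2, h1, h2⟩ := exists_to12 (hn := hn) (p01 (hn := hn)).symm p12 p02
    set k := g * g2⁻¹
    have f : ∀ x, ((k : alternatingGroup (Fin n)) : Perm (Fin n)) ((g2 : Perm (Fin n)) x) = (g : Perm (Fin n)) x :=
      fun x => by
        show (g : Perm (Fin n)) (((g2 : Perm (Fin n))⁻¹) ((g2 : Perm (Fin n)) x)) = _
        rw [Perm.inv_def, Equiv.symm_apply_apply]
    have fi : ((k : alternatingGroup (Fin n)) : Perm (Fin n)) (p1 hn) = i := by rw [← h1, f, hg]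
    have hconj := congrArg (fun z => a k * z * (a k)⁻¹) base
    simp only [Sp4.cj_mul, H.YY_conj, fi] at hconj
    rcases h2 with ⟨c1, c2⟩ | ⟨c1, c2⟩ <;> rcases hg' with ⟨d1, d2⟩ | ⟨d1, d2⟩
    · rw [← c1, ← c2, f, f, d1, d2] at hconj; exact hconj
    · rw [← c1, ← c2, f, f, d1, d2] at hconj; exact hconj.symm
    · rw [← c1, ← c2, f, f, d1, d2] at hconj; exact hconj.symm
    · rw [← c1, ← c2, f, f, d1, d2] at hconj; exact hconj
  by_cases h1 : i = i'
  · subst h1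
    rcases eq_or_ne j j' with rfl | hj
    · rw [← (H.piece hij).yadd, ← (H.piece hij).yadd, add_comm]
    · exact ovl hij hij' hj
  by_cases h2 : j = j'
  · subst h2
    rw [H.YY_symm i, H.YY_symm i']
    exact ovl hij.symm hij'.symm h1
  by_cases h3 : i = j'
  · subst h3
    rw [H.YY_symm i']
    rcases eq_or_ne j i' with rfl | hj
    · rw [← (H.piece hij).yadd, ← (H.piece hij).yadd, add_comm]
    · exact ovl hij hij'.symm hj
  by_cases h4 : j = i'
  · subst h4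
    rw [H.YY_symm i]
    exact ovl hij.symm hij' h3
  refine scale (k := i) (k' := i') hij hij' (Or.inl rfl) h1 h3 (Or.inl rfl) (Ne.symm h1) (Ne.symm h4) ?_
  have h4n : 4 ≤ n := by
    have : ({i, j, i', j'} : Finset (Fin n)).card = 4 := by simp [hij, h1, h3, h4, h2, hij']
    have h := Finset.card_le_univ ({i, j, i', j'} : Finset (Fin n))
    rw [this, Fintype.card_fin] at h; exact h
  set P3 : Fin n := ⟨3, by omega⟩
  have base : YY φ a y hn (p0 hn) (p1 hn) 1 * YY φ a y hn (p2 hn) P3 1 =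
      YY φ a y hn (p2 hn) P3 1 * YY φ a y hn (p0 hn) (p1 hn) 1 := by
    rw [H.YY_base, yy_one, H.YY_eq (by simp [p2, P3]) (shift2 h4n) (Or.inl
      ⟨by simp [shift2, p0, p2, swap_apply_of_ne_of_ne], by simp [shift2, p1, P3, swap_apply_of_ne_of_ne]⟩),
      yy_one]
    refine mul_inv_eq_one.1 (H.mem_rels ?_)
    unfold slimRels
    refine List.mem_append_right _ (List.mem_cons_of_mem _ ?_)
    rw [dif_pos h4n]
    exact List.mem_cons_self ..
  obtain ⟨σ, hσ⟩ := exists_perm_map ⟨![p0 hn, p1 hn, p2 hn, P3], by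
      intro x z; fin_cases x <;> fin_cases z <;> simp [p0, p1, p2, P3]⟩
    ⟨![i, j, i', j'], by
      intro x z; fin_cases x <;> fin_cases z <;>
        simp [hij, hij.symm, h1, Ne.symm h1, h2, Ne.symm h2, h3, Ne.symm h3, h4, Ne.symm h4, hij', hij'.symm]⟩
  have e0 : σ (p0 hn) = i := hσ 0
  have e1 : σ (p1 hn) = j := hσ 1
  have e2 : σ (p2 hn) = i' := hσ 2
  have e3 : σ P3 = j' := hσ 3
  have n2 : p2 hn ≠ p0 hn ∧ p2 hn ≠ p1 hn ∧ P3 ≠ p0 hn ∧ P3 ≠ p1 hn := by simp [p0, p1, p2, P3]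
  rcases alt_or_mul_swap σ (p01 (hn := hn)) with h | h
  · have hconj := congrArg (fun z => a ⟨σ, h⟩ * z * (a ⟨σ, h⟩)⁻¹) base
    simpa only [Sp4.cj_mul, H.YY_conj, e0, e1, e2, e3] using hconj
  · have hconj := congrArg (fun z => a ⟨_, h⟩ * z * (a ⟨_, h⟩)⁻¹) base
    simp only [Sp4.cj_mul, H.YY_conj, Perm.mul_apply, swap_apply_left, swap_apply_right,
      swap_apply_of_ne_of_ne n2.1 n2.2.1, swap_apply_of_ne_of_ne n2.2.2.1 n2.2.2.2, e0, e1, e2, e3] at hconj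
    rwa [H.YY_symm j i] at hconj

/-- The equation replacing a third scalar. -/
theorem rel_iso {p q r : Fin n} (hpq : p ≠ q) (hpr : p ≠ r) (hqr : q ≠ r) :
    VV (phi φ a hn q) (YY φ a y hn q r) 1 * YY φ a y hn p q 1 * (VV (phi φ a hn q) (YY φ a y hn q r) 1)⁻¹ =
      YY φ a y hn p q 1 * YY φ a y hn p r 1 := by
  have base : ∀ x z, (x = p1 hn ∧ z = p2 hn) ∨ (x = p2 hn ∧ z = p1 hn) →
      VV (phi φ a hn x) (YY φ a y hn x z) 1 * YY φ a y hn (p0 hn) x 1 *
        (VV (phi φ a hn x) (YY φ a y hn x z) 1)⁻¹ = YY φ a y hn (p0 hn) x 1 * YY φ a y hn (p0 hn) z 1 := by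
    have e01 : YY φ a y hn (p0 hn) (p1 hn) 1 = y := by rw [H.YY_base, yy_one]
    have e12 : YY φ a y hn (p1 hn) (p2 hn) 1 = y12 hn a y := by
      rw [H.YY_eq p12 (rot hn) (Or.inl ⟨rot_p0, rot_p1⟩), yy_one]; rfl
    have e02 : YY φ a y hn (p0 hn) (p2 hn) 1 = y02 hn a y := by
      rw [H.YY_eq p02 (rot hn * rot hn) (Or.inr ⟨rot2_p0, rot2_p1⟩), yy_one]; rfl
    rintro x z (⟨rfl, rfl⟩ | ⟨rfl, rfl⟩)
    · rw [VV, e01, e02, e12, ← H.l1_eq]
      refine mul_inv_eq_one.1 (H.mem_rels ?_)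
      simp [slimRels]
    · rw [VV, H.YY_symm (p2 hn) (p1 hn), e01, e02, e12, ← H.l2_eq]
      refine mul_inv_eq_one.1 (H.mem_rels ?_)
      simp [slimRels]
  obtain ⟨g, h0, ⟨h1, h2⟩ | ⟨h1, h2⟩⟩ := exists_to12 (hn := hn) hpq hpr hqr
  · have := congrArg (fun z => a g * z * (a g)⁻¹) (base _ _ (Or.inl ⟨rfl, rfl⟩))
    simpa only [H.VV_conj, H.YY_conj, h0, h1, h2] using
      show a g * VV (phi φ a hn (p1 hn)) (YY φ a y hn (p1 hn) (p2 hn)) 1 * (a g)⁻¹ *
          (a g * YY φ a y hn (p0 hn) (p1 hn) 1 * (a g)⁻¹) *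
          (a g * VV (phi φ a hn (p1 hn)) (YY φ a y hn (p1 hn) (p2 hn)) 1 * (a g)⁻¹)⁻¹ =
          a g * YY φ a y hn (p0 hn) (p1 hn) 1 * (a g)⁻¹ * (a g * YY φ a y hn (p0 hn) (p2 hn) 1 * (a g)⁻¹) by
        rw [← Sp4.cj_mul (a g) (YY φ a y hn (p0 hn) (p1 hn) 1), ← this]; group
  · have := congrArg (fun z => a g * z * (a g)⁻¹) (base _ _ (Or.inr ⟨rfl, rfl⟩))
    simpa only [H.VV_conj, H.YY_conj, h0, h1, h2] using
      show a g * VV (phi φ a hn (p2 hn)) (YY φ a y hn (p2 hn) (p1 hn)) 1 * (a g)⁻¹ *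
          (a g * YY φ a y hn (p0 hn) (p2 hn) 1 * (a g)⁻¹) *
          (a g * VV (phi φ a hn (p2 hn)) (YY φ a y hn (p2 hn) (p1 hn)) 1 * (a g)⁻¹)⁻¹ =
          a g * YY φ a y hn (p0 hn) (p2 hn) 1 * (a g)⁻¹ * (a g * YY φ a y hn (p0 hn) (p1 hn) 1 * (a g)⁻¹) by
        rw [← Sp4.cj_mul (a g) (YY φ a y hn (p0 hn) (p2 hn) 1), ← this]; group

omit H in
/-- A signed transposition of two planes. -/
noncomputable def WW (φ : SL(2, F) →* Q) (a : alternatingGroup (Fin n) →* Q) (y : Q) (hn : 3 ≤ n) (i j : Fin n) :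
    Q :=
  VV (phi φ a hn j) (YY φ a y hn i j) 1 * VV (phi φ a hn i) (YY φ a y hn i j) (-1) *
    VV (phi φ a hn j) (YY φ a y hn i j) 1

theorem WW_conj (g : alternatingGroup (Fin n)) (i j : Fin n) :
    a g * WW φ a y hn i j * (a g)⁻¹ = WW φ a y hn ((g : Perm (Fin n)) i) ((g : Perm (Fin n)) j) := by
  rw [WW, WW, Sp4.cj_mul, Sp4.cj_mul, H.VV_conj, H.VV_conj]

/-- The cycle on any three planes, as an element of the amalgam. -/
theorem rot_eq (g : alternatingGroup (Fin n)) :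
    a (g * rot hn * g⁻¹) =
      WW φ a y hn ((g : Perm (Fin n)) (p0 hn)) ((g : Perm (Fin n)) (p1 hn)) *
      WW φ a y hn ((g : Perm (Fin n)) (p1 hn)) ((g : Perm (Fin n)) (p2 hn)) *
      phi φ a hn ((g : Perm (Fin n)) (p0 hn)) (dL (-1)) * phi φ a hn ((g : Perm (Fin n)) (p1 hn)) (dL (-1)) := by
  have hW : w01 hn a φ y = WW φ a y hn (p0 hn) (p1 hn) := by
    simp only [WW, VV, w01, H.YY_base, (H.piece01).y_neg, yy_one, H.l1_eq, H.phi_p0]
  have h : a (rot hn) = WW φ a y hn (p0 hn) (p1 hn) * WW φ a y hn (p1 hn) (p2 hn) * phi φ a hn (p0 hn) (dL (-1)) *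
      phi φ a hn (p1 hn) (dL (-1)) := by
    have h2 : cA a (rot hn) (w01 hn a φ y) = WW φ a y hn (p1 hn) (p2 hn) := by
      rw [cA, hW, H.WW_conj, rot_p0, rot_p1]
    have hm := H.mem_rels (x := a (rot hn) *
      (w01 hn a φ y * cA a (rot hn) (w01 hn a φ y) * φ (dL (-1)) * l1 hn a φ (dL (-1)))⁻¹) (by
      unfold slimRels
      exact List.mem_append_right _ (List.mem_cons_of_mem _ (List.mem_cons_of_mem _
        (List.mem_cons_of_mem _ (List.mem_cons_of_mem _ (List.mem_cons_self ..))))))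
    rw [h2, hW, H.l1_eq, ← H.phi_p0] at hm
    exact mul_inv_eq_one.1 hm
  rw [map_mul, map_mul, map_inv, h]
  simp only [← H.WW_conj, ← H.phi_conj]
  group

end Hyp

end Cfsg.Agent.BoundedPres.Slim
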